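import Mathlib
import Cfsg.Agent.Lib.Perm.Trans.TensorSO.Conj

/-!
# Nondegenerate symmetric forms: subspaces, frames, Eichler transformations
-/

set_option autoImplicit false
set_option linter.all false

namespace CfsgLib.Perm.Trans.TensorOO

open scoped Matrix
open Matrix Cfsg.Geo CfsgLib.Perm.Asch CfsgLib.Perm.Trans CfsgLib.Perm.Trans.TensorSO

variable {κ : Type} [Fintype κ] [DecidableEq κ] {F : Type*} [Field F] {f : (κ → F) → (κ → F) → F}

/-- nondegenerate on a subspace -/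
def Nd (f : (κ → F) → (κ → F) → F) (P : Submodule F (κ → F)) : Prop :=
  ∀ v ∈ P, v ≠ 0 → ∃ w ∈ P, f v w ≠ 0

theorem nd_top (hf : IsSymmetricForm f) : Nd f ⊤ := fun v _ hv =>
  let ⟨w, hw⟩ := (hf.nondegenerate v hv).2
  ⟨w, trivial, hw⟩

/-- the part of a subspace orthogonal to a vector -/
def perp (hf : IsSymmetricForm f) (P : Submodule F (κ → F)) (d : κ → F) : Submodule F (κ → F) :=
  P ⊓ LinearMap.ker (Orth.sfl hf d)

theorem mem_perp {hf : IsSymmetricForm f} {P : Submodule F (κ → F)} {d x : κ → F} :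
    x ∈ perp hf P d ↔ x ∈ P ∧ f x d = 0 := Iff.rfl

variable (hf : IsSymmetricForm f)
include hf

theorem perp_finrank (P : Submodule F (κ → F)) (d : κ → F) :
    Module.finrank F P ≤ Module.finrank F (perp hf P d) + 1 := Orth.finrank_le_inf_ker P _

theorem top_finrank : Module.finrank F (⊤ : Submodule F (κ → F)) = Fintype.card κ := by
  rw [finrank_top, Module.finrank_fintype_fun_eq_card]

theorem nd_perp {P : Submodule F (κ → F)} (hP : Nd f P) {d : κ → F} (hd : d ∈ P) (hdd : f d d ≠ 0) :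
    Nd f (perp hf P d) := fun v hv hv0 => by
  obtain ⟨w, hw, hvw⟩ := hP v hv.1 hv0
  refine ⟨w - (f w d / f d d) • d, mem_perp.2 ⟨P.sub_mem hw (P.smul_mem _ hd), ?_⟩, ?_⟩
  · rw [Orth.sym_sub_left hf, hf.bilinear.smul_left, div_mul_cancel₀ _ hdd, sub_self]
  · rwa [Orth.sym_sub_right hf, hf.bilinear.smul_right, show f v d = 0 from hv.2, mul_zero, sub_zero]

theorem nd_perp_pair {P : Submodule F (κ → F)} (hP : Nd f P) {a c : κ → F} (ha : a ∈ P) (hc : c ∈ P)
    (haa : f a a = 0) (hcc : f c c = 0) (hca : f c a = 1) : Nd f (perp hf (perp hf P a) c) := fun v hv hv0 => by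
  obtain ⟨w, hw, hvw⟩ := hP v hv.1.1 hv0
  refine ⟨w - f w a • c - f w c • a, mem_perp.2 ⟨mem_perp.2
    ⟨P.sub_mem (P.sub_mem hw (P.smul_mem _ hc)) (P.smul_mem _ ha), ?_⟩, ?_⟩, ?_⟩
  · rw [Orth.sym_sub_left hf, Orth.sym_sub_left hf, hf.bilinear.smul_left, hf.bilinear.smul_left, hca, haa]
    ring
  · rw [Orth.sym_sub_left hf, Orth.sym_sub_left hf, hf.bilinear.smul_left, hf.bilinear.smul_left, hcc, hf.symm a c, hca]
    ring
  · rwa [Orth.sym_sub_right hf, Orth.sym_sub_right hf, hf.bilinear.smul_right, hf.bilinear.smul_right,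
      show f v a = 0 from hv.1.2, show f v c = 0 from hv.2, mul_zero, mul_zero, sub_zero, sub_zero]

theorem pair_finrank (P : Submodule F (κ → F)) (a c : κ → F) :
    Module.finrank F P ≤ Module.finrank F (perp hf (perp hf P a) c) + 2 := by
  have h1 := perp_finrank hf P a
  have h2 := perp_finrank hf (perp hf P a) c
  omega

variable (h2 : (2 : F) ≠ 0)
include h2

theorem nd_aniso {P : Submodule F (κ → F)} (hP : Nd f P) (hd : 1 ≤ Module.finrank F P) :
    ∃ x ∈ P, f x x ≠ 0 := by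
  obtain ⟨v, hv, hv0⟩ := Submodule.exists_mem_ne_zero_of_ne_bot (p := P) (fun h => by
    rw [h, finrank_bot] at hd; omega)
  obtain ⟨w, hw, hvw⟩ := hP v hv hv0
  exact exists_aniso_of_perp hf h2 hv hw hvw

theorem nd_partner {P : Submodule F (κ → F)} (hP : Nd f P) {a : κ → F} (ha : a ∈ P) (ha0 : a ≠ 0)
    (haa : f a a = 0) : ∃ c ∈ P, f c c = 0 ∧ f c a = 1 := by
  obtain ⟨w, hw, haw⟩ := hP a ha ha0
  obtain ⟨y, hy⟩ : ∃ y, y = (f a w)⁻¹ • w := ⟨_, rfl⟩
  have hya : f y a = 1 := by rw [hy, hf.bilinear.smul_left, hf.symm w a, inv_mul_cancel₀ haw]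
  refine ⟨y - (f y y / 2) • a, P.sub_mem (hy ▸ P.smul_mem _ hw) (P.smul_mem _ ha), ?_, ?_⟩
  · simp only [Orth.sym_sub_left hf, Orth.sym_sub_right hf, hf.bilinear.smul_left, hf.bilinear.smul_right, haa,
      hf.symm a y, hya]
    field_simp
    ring
  · rw [Orth.sym_sub_left hf, hf.bilinear.smul_left, hya, haa, mul_zero, sub_zero]

variable [Finite F]

theorem nd_value {P : Submodule F (κ → F)} (hP : Nd f P) (hd : 2 ≤ Module.finrank F P) {c : F} (hc : c ≠ 0) :
    ∃ x ∈ P, f x x = c := by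
  obtain ⟨a, ha, haa⟩ := nd_aniso hf h2 hP (by omega)
  have h1 := perp_finrank hf P a
  obtain ⟨b, hb, hbb⟩ := nd_aniso hf h2 (nd_perp hf hP ha haa) (by omega)
  obtain ⟨i, j, hij⟩ := CfsgLib.Classical.exists_binary_one (F := F) h2 (div_ne_zero haa hc) (div_ne_zero hbb hc)
  have hba : f b a = 0 := hb.2
  refine ⟨i • a + j • b, P.add_mem (P.smul_mem _ ha) (P.smul_mem _ hb.1), ?_⟩
  simp only [hf.bilinear.add_left, hf.bilinear.add_right, hf.bilinear.smul_left, hf.bilinear.smul_right, hba,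
    hf.symm a b]
  field_simp at hij
  linear_combination hij

theorem nd_singular {P : Submodule F (κ → F)} (hP : Nd f P) (hd : 3 ≤ Module.finrank F P) :
    ∃ a ∈ P, a ≠ 0 ∧ f a a = 0 := by
  obtain ⟨a, ha, haa⟩ := nd_aniso hf h2 hP (by omega)
  have h1 := perp_finrank hf P a
  obtain ⟨b, hb, hbb⟩ := nd_value hf h2 (nd_perp hf hP ha haa) (by omega) (neg_ne_zero.2 haa)
  have hba : f b a = 0 := hb.2
  refine ⟨a + b, P.add_mem ha hb.1, fun h => haa ?_, ?_⟩
  · have h3 := congrArg (fun x => f x a) h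
    simpa [hf.bilinear.add_left, hba, Orth.sym_zero_left hf] using h3
  · rw [hf.bilinear.add_left, hf.bilinear.add_right, hf.bilinear.add_right, hba, hf.symm a b, hba, hbb]
    ring

/-- orthogonal vectors of equal norm -/
theorem nd_frame : ∀ (j : ℕ) (P : Submodule F (κ → F)), Nd f P → j < Module.finrank F P → ∀ {c : F}, c ≠ 0 →
    ∃ d : Fin j → (κ → F), (∀ i, d i ∈ P) ∧ (∀ i i', i ≠ i' → f (d i) (d i') = 0) ∧ ∀ i, f (d i) (d i) = c := by
  intro j
  induction j with
  | zero => exact fun P _ _ c _ => ⟨fun i => i.elim0, fun i => i.elim0, fun i => i.elim0, fun i => i.elim0⟩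
  | succ j ih =>
    intro P hP hj c hc
    obtain ⟨x, hx, hxx⟩ := nd_value hf h2 hP (by omega) hc
    have h1 := perp_finrank hf P x
    obtain ⟨d, hd1, hd2, hd3⟩ := ih (perp hf P x) (nd_perp hf hP hx (hxx ▸ hc)) (by omega) hc
    have hxd : ∀ i, f (d i) x = 0 := fun i => (hd1 i).2
    refine ⟨Fin.cons x d, fun i => ?_, fun i i' hii => ?_, fun i => ?_⟩
    · obtain rfl | ⟨i, rfl⟩ := i.eq_zero_or_eq_succ
      · rwa [Fin.cons_zero]
      · rw [Fin.cons_succ]; exact (hd1 i).1
    · obtain rfl | ⟨i, rfl⟩ := i.eq_zero_or_eq_succ <;> obtain rfl | ⟨i', rfl⟩ := i'.eq_zero_or_eq_succ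
      · exact absurd rfl hii
      · rw [Fin.cons_zero, Fin.cons_succ, hf.symm, hxd]
      · rw [Fin.cons_zero, Fin.cons_succ, hxd]
      · rw [Fin.cons_succ, Fin.cons_succ]
        exact hd2 i i' fun e => hii (by rw [e])
    · obtain rfl | ⟨i, rfl⟩ := i.eq_zero_or_eq_succ
      · rwa [Fin.cons_zero]
      · rw [Fin.cons_succ]; exact hd3 i

omit [Finite F]

/-! ### Eichler transformations -/

omit h2 in
/-- the linear map of an Eichler transformation -/
def eicMap (a w : κ → F) : (κ → F) →ₗ[F] (κ → F) :=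
  LinearMap.id + (Orth.sfl hf a).smulRight w - (Orth.sfl hf w).smulRight a -
    ((f w w / 2) • Orth.sfl hf a).smulRight a

omit h2 in
theorem eicMap_apply (a w x : κ → F) :
    eicMap hf a w x = x + f x a • w - f x w • a - (f w w / 2 * f x a) • a := rfl

theorem eicMap_comp {a w w' : κ → F} (haa : f a a = 0) (hw : f a w = 0) (hw' : f a w' = 0) :
    (eicMap hf a w).comp (eicMap hf a w') = eicMap hf a (w + w') := LinearMap.ext fun x => by
  simp only [LinearMap.comp_apply, eicMap_apply, hf.bilinear.add_left, hf.bilinear.add_right, Orth.sym_sub_left hf,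
    hf.bilinear.smul_left, haa, hw, hw', hf.symm w a, hf.symm w' a, hf.symm w' w]
  match_scalars <;> field_simp <;> ring

omit h2 in
theorem eicMap_zero (a : κ → F) : eicMap hf a 0 = LinearMap.id := LinearMap.ext fun x => by
  simp [eicMap_apply, Orth.sym_zero_right hf]

omit h2 in
/-- the Eichler transformation of a singular vector and a vector orthogonal to it -/
noncomputable def eic (a w : κ → F) : GL κ F :=
  @dite _ (Function.Injective (eicMap hf a w)) (Classical.propDecidable _) (fun h => glInj (eicMap hf a w) h)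
    fun _ => 1

theorem eic_mulVec {a w : κ → F} (haa : f a a = 0) (hw : f a w = 0) (x : κ → F) :
    (eic hf a w : Matrix κ κ F) *ᵥ x = x + f x a • w - f x w • a - (f w w / 2 * f x a) • a := by
  have hinj : Function.Injective (eicMap hf a w) :=
    Function.LeftInverse.injective (g := eicMap hf a (-w)) fun x => by
      have h := LinearMap.congr_fun (eicMap_comp hf h2 haa (w := -w) (by rw [Orth.sym_neg_right hf, hw, neg_zero]) hw) x
      rwa [neg_add_cancel, eicMap_zero hf, LinearMap.comp_apply] at h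
  rw [eic, dif_pos hinj, glInj_mulVec, eicMap_apply]

theorem eic_iso {a w : κ → F} (haa : f a a = 0) (hw : f a w = 0) (x y : κ → F) :
    f ((eic hf a w : Matrix κ κ F) *ᵥ x) ((eic hf a w : Matrix κ κ F) *ᵥ y) = f x y := by
  simp only [eic_mulVec hf h2 haa hw, hf.bilinear.add_left, hf.bilinear.add_right, Orth.sym_sub_left hf,
    Orth.sym_sub_right hf, hf.bilinear.smul_left, hf.bilinear.smul_right, haa, hw, hf.symm w a, hf.symm a y, hf.symm w y]
  field_simp
  ring

theorem eic_mul {a w w' : κ → F} (haa : f a a = 0) (hw : f a w = 0) (hw' : f a w' = 0) :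
    eic hf a w * eic hf a w' = eic hf a (w + w') := gl_ext_vec fun x => by
  rw [gl_mul_mulVec, eic_mulVec hf h2 haa hw', eic_mulVec hf h2 haa hw,
    eic_mulVec hf h2 haa (by rw [hf.bilinear.add_right, hw, hw', add_zero])]
  exact LinearMap.congr_fun (eicMap_comp hf h2 haa hw hw') x

theorem eic_zero {a : κ → F} (haa : f a a = 0) : eic hf a 0 = 1 := gl_ext_vec fun x => by
  rw [eic_mulVec hf h2 haa (Orth.sym_zero_right hf a)]
  simp [Orth.sym_zero_right hf]

theorem eic_pow {a w : κ → F} (haa : f a a = 0) (hw : f a w = 0) (n : ℕ) :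
    eic hf a w ^ n = eic hf a ((n : F) • w) := by
  induction n with
  | zero => rw [pow_zero, Nat.cast_zero, zero_smul, eic_zero hf h2 haa]
  | succ n ih =>
    rw [pow_succ, ih, eic_mul hf h2 haa (by rw [hf.bilinear.smul_right, hw, mul_zero]) hw, Nat.cast_succ, add_smul,
      one_smul]

theorem eic_pow_char {p : ℕ} [CharP F p] {a w : κ → F} (haa : f a a = 0) (hw : f a w = 0) :
    eic hf a w ^ p = 1 := by
  rw [eic_pow hf h2 haa hw, CharP.cast_eq_zero, zero_smul, eic_zero hf h2 haa]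

theorem eic_conj {a w : κ → F} (haa : f a a = 0) (hw : f a w = 0) {g : GL κ F}
    (hg : ∀ x y, f ((g : Matrix κ κ F) *ᵥ x) ((g : Matrix κ κ F) *ᵥ y) = f x y) :
    g * eic hf a w * g⁻¹ = eic hf ((g : Matrix κ κ F) *ᵥ a) ((g : Matrix κ κ F) *ᵥ w) := gl_ext_vec fun x => by
  obtain ⟨z, rfl⟩ : ∃ z, x = (g : Matrix κ κ F) *ᵥ z := ⟨_, (gl_mulVec_inv g x).symm⟩
  rw [gl_mul_mulVec, gl_mul_mulVec, gl_inv_mulVec, eic_mulVec hf h2 haa hw,
    eic_mulVec hf h2 (by rw [hg, haa]) (by rw [hg, hw]), hg, hg, hg, mulVec_sub, mulVec_sub, mulVec_add,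
    mulVec_smul, mulVec_smul, mulVec_smul]

theorem eic_fix {a w x : κ → F} (haa : f a a = 0) (hw : f a w = 0) (hxa : f x a = 0) (hxw : f x w = 0) :
    (eic hf a w : Matrix κ κ F) *ᵥ x = x := by
  rw [eic_mulVec hf h2 haa hw, hxa, hxw]
  simp

/-- an Eichler transformation of an anisotropic vector has cubic minimal polynomial -/
theorem eic_cube {a w : κ → F} (haa : f a a = 0) (hw : f a w = 0) (x : κ → F) :
    (eic hf a w : Matrix κ κ F) *ᵥ ((eic hf a w : Matrix κ κ F) *ᵥ x) -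
      2 • ((eic hf a w : Matrix κ κ F) *ᵥ x) + x = (-f w w * f x a) • a := by
  rw [← gl_mul_mulVec, eic_mul hf h2 haa hw hw, eic_mulVec hf h2 haa hw,
    eic_mulVec hf h2 haa (by rw [hf.bilinear.add_right, hw, add_zero])]
  simp only [hf.bilinear.add_left, hf.bilinear.add_right]
  match_scalars <;> field_simp <;> ring

theorem eic_moves {a w : κ → F} (haa : f a a = 0) (hw : f a w = 0) (ha : a ≠ 0) (hww : f w w ≠ 0) :
    eic hf a w ≠ 1 := fun h => by
  obtain ⟨x, hx⟩ := (hf.nondegenerate a ha).1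
  have h1 := eic_cube hf h2 haa hw x
  rw [h, Units.val_one, one_mulVec, one_mulVec, two_nsmul, sub_add_cancel_left, neg_add_cancel] at h1
  exact smul_ne_zero (mul_ne_zero (neg_ne_zero.2 hww) hx) ha h1.symm

/-! ### products of two reflections -/

omit h2 in
theorem refl_conj {d : κ → F} (hd : f d d ≠ 0) {g : GL κ F}
    (hg : ∀ x y, f ((g : Matrix κ κ F) *ᵥ x) ((g : Matrix κ κ F) *ᵥ y) = f x y) {d' : κ → F} (hd' : f d' d' ≠ 0)
    (hgd : (g : Matrix κ κ F) *ᵥ d = d') : g * refl hf d hd * g⁻¹ = refl hf d' hd' := gl_ext_vec fun x => by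
  obtain ⟨z, rfl⟩ : ∃ z, x = (g : Matrix κ κ F) *ᵥ z := ⟨_, (gl_mulVec_inv g x).symm⟩
  subst hgd
  rw [gl_mul_mulVec, gl_mul_mulVec, gl_inv_mulVec, refl_mulVec, refl_mulVec, hg, hg, mulVec_sub, mulVec_smul]

omit h2 in
theorem refl_sq (d : κ → F) (hd : f d d ≠ 0) : refl hf d hd * refl hf d hd = 1 := gl_ext_vec fun x => by
  rw [gl_mul_mulVec, refl_mulVec, refl_mulVec, Orth.sym_sub_left hf, hf.bilinear.smul_left, Units.val_one, one_mulVec]
  match_scalars <;> field_simp <;> ring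

theorem refl_swap {d d' : κ → F} (hdd : f d d = f d' d') (ho : f d d' = 0) (hd : f d d ≠ 0) :
    ∃ h : f (d - d') (d - d') ≠ 0, (refl hf (d - d') h : Matrix κ κ F) *ᵥ d = d' := by
  have hn : f (d - d') (d - d') = 2 * f d d := by
    rw [Orth.sym_sub_left hf, Orth.sym_sub_right hf, Orth.sym_sub_right hf, ho, hf.symm d' d, ho, ← hdd]
    ring
  refine ⟨hn ▸ mul_ne_zero h2 hd, ?_⟩
  rw [refl_mulVec, hn, Orth.sym_sub_right hf, ho]
  match_scalars <;> field_simp <;> ring

end CfsgLib.Perm.Trans.TensorOO
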