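import Mathlib
import Cfsg.Agent.Lib.Perm.Trans.TensorOO.Space
import Cfsg.Agent.Lib.Perm.Trans.QuadMax

/-!
# Overgroups of orthogonal-orthogonal tensor decompositions inside `Ω`: basic elements
-/

set_option autoImplicit false
set_option linter.all false

namespace CfsgLib.Perm.Trans.TensorOO

open scoped Matrix
open Matrix Cfsg.Geo CfsgLib.Perm.Asch CfsgLib.Perm.Trans CfsgLib.Perm.Trans.TensorFrame
open CfsgLib.Perm.Trans.TensorMax CfsgLib.Perm.Trans.Quad CfsgLib.Perm.Trans.TensorSO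

variable {ι : Type} [Fintype ι] [DecidableEq ι] {F : Type*} [Field F] [Fintype F] {r s : ℕ}
variable {e : ι ≃ Fin r × Fin s} {P : GL ι F}
variable {Q : (ι → F) → F} {f₁ : (Fin r → F) → (Fin r → F) → F} {f₂ : (Fin s → F) → (Fin s → F) → F}
variable {k : F} {M : Subgroup (GL ι F)}

/-- an overgroup inside `Ω` of the stabiliser of an orthogonal-orthogonal decomposition -/
structure OO (Q : (ι → F) → F) (f₁ : (Fin r → F) → (Fin r → F) → F) (f₂ : (Fin s → F) → (Fin s → F) → F)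
    (e : ι ≃ Fin r × Fin s) (P : GL ι F) (k : F) (M : Subgroup (GL ι F)) : Prop where
  hQ : IsNondegenerateQuadraticForm Q
  s1 : IsSymmetricForm f₁
  s2 : IsSymmetricForm f₂
  two : (2 : F) ≠ 0
  kne : k ≠ 0
  r3 : 3 ≤ r
  s3 : 3 ≤ s
  r4 : r ≠ 4 ∨ (∀ a c, f₁ a a = 0 → f₁ c c = 0 → f₁ a c = 0 → a ≠ 0 → ∃ l : F, c = l • a)
  s4 : s ≠ 4 ∨ (∀ a c, f₂ a a = 0 → f₂ c c = 0 → f₂ a c = 0 → a ≠ 0 → ∃ l : F, c = l • a)
  rhex : 4 ≤ r ∨ ∃ t : F, t ≠ 0 ∧ t * t ≠ 1
  shex : 4 ≤ s ∨ ∃ t : F, t ≠ 0 ∧ t * t ≠ 1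
  pol : ∀ x y x' y', QuadraticMap.polar Q (tvec e P x y) (tvec e P x' y') = k * (f₁ x x' * f₂ y y')
  le : M ≤ omegaGL Q
  mem : tensorProductSubgroup r s e P ⊓ omegaGL Q ≤ M

local notation "T" => tvec e P
local notation "Qf" => QuadraticMap.polar Q

/-- the left insertion -/
def tL (e : ι ≃ Fin r × Fin s) (P : GL ι F) (a : Fin r → F) : (Fin s → F) →ₗ[F] (ι → F) where
  toFun y := tvec e P a y
  map_add' y y' := tvec_add_right a y y'
  map_smul' c y := tvec_smul_right c a y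

/-- the right insertion -/
def tR (e : ι ≃ Fin r × Fin s) (P : GL ι F) (b : Fin s → F) : (Fin r → F) →ₗ[F] (ι → F) where
  toFun x := tvec e P x b
  map_add' x x' := tvec_add_left x x' b
  map_smul' c x := tvec_smul_left c x b

theorem tL_apply (a : Fin r → F) (y : Fin s → F) : tL e P a y = T a y := rfl

theorem tR_apply (b : Fin s → F) (x : Fin r → F) : tR e P b x = T x b := rfl

theorem tvec_neg_right (a : Fin r → F) (y : Fin s → F) : T a (-y) = -T a y := map_neg (tL e P a) y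

theorem tvec_sub_right (a : Fin r → F) (y y' : Fin s → F) : T a (y - y') = T a y - T a y' := map_sub (tL e P a) y y'

theorem tvec_neg_left (a : Fin r → F) (y : Fin s → F) : T (-a) y = -T a y := map_neg (tR e P y) a

theorem tvec_sub_left (a a' : Fin r → F) (y : Fin s → F) : T (a - a') y = T a y - T a' y := map_sub (tR e P y) a a'

theorem tvec_right_inj {a : Fin r → F} (ha : a ≠ 0) {y y' : Fin s → F} (h : T a y = T a y') : y = y' := by
  obtain ⟨γ, hγ⟩ := exists_dot_one ha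
  simpa [rc_tvec, hγ] using congrArg (rc e P γ) h

theorem kg_mul (A A' : GL (Fin r) F) (B B' : GL (Fin s) F) :
    kg e P A B * kg e P A' B' = kg e P (A * A') (B * B') := gl_ext_tvec (e := e) (P := P) fun x y => by
  rw [gl_mul_mulVec, kg_tvec, kg_tvec, kg_tvec, gl_mul_mulVec, gl_mul_mulVec]

theorem kg_one : kg e P (1 : GL (Fin r) F) (1 : GL (Fin s) F) = 1 := gl_ext_tvec (e := e) (P := P) fun x y => by
  simp [kg_tvec]

theorem kg_inv (A : GL (Fin r) F) (B : GL (Fin s) F) : (kg e P A B)⁻¹ = kg e P A⁻¹ B⁻¹ :=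
  inv_eq_of_mul_eq_one_right (by rw [kg_mul, mul_inv_cancel, mul_inv_cancel, kg_one])

theorem kg_pow (A : GL (Fin r) F) (B : GL (Fin s) F) (n : ℕ) : kg e P A B ^ n = kg e P (A ^ n) (B ^ n) := by
  induction n with
  | zero => simp [kg_one]
  | succ n ih => rw [pow_succ, pow_succ, pow_succ, ih, kg_mul]

/-- the factors in the other order -/
theorem tvec_swap (x : Fin r → F) (y : Fin s → F) :
    tvec (e.trans (Equiv.prodComm _ _)) P y x = tvec e P x y := by
  rw [tvec, tvec]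
  congr 1
  funext i
  simp [mul_comm]

theorem kg_swap (A : GL (Fin r) F) (B : GL (Fin s) F) :
    kg (e.trans (Equiv.prodComm _ _)) P B A = kg e P A B := gl_ext_tvec (e := e) (P := P) fun x y => by
  rw [kg_tvec]
  conv_lhs => rw [← tvec_swap, kg_tvec, tvec_swap]

theorem tensor_swap : tensorProductSubgroup s r (e.trans (Equiv.prodComm _ _)) P = tensorProductSubgroup r s e P := by
  refine le_antisymm (fun g hg => ?_) fun g hg => ?_
  · obtain ⟨A, B, hAB⟩ := mem_tensor hg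
    have h : g = kg e P B A := gl_ext_tvec (e := e) (P := P) fun x y => by
      rw [kg_tvec, ← tvec_swap, hAB, tvec_swap]
    exact h ▸ kg_mem B A
  · obtain ⟨A, B, hAB⟩ := mem_tensor hg
    have h : g = kg e P A B := gl_ext_tvec (e := e) (P := P) fun x y => by rw [kg_tvec, hAB]
    rw [h, ← kg_swap]
    exact kg_mem B A

variable (D : OO Q f₁ f₂ e P k M)
include D

theorem OO.swap : OO Q f₂ f₁ (e.trans (Equiv.prodComm _ _)) P k M where
  hQ := D.hQ
  s1 := D.s2
  s2 := D.s1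
  two := D.two
  kne := D.kne
  r3 := D.s3
  s3 := D.r3
  r4 := D.s4
  s4 := D.r4
  rhex := D.shex
  shex := D.rhex
  pol y x y' x' := by rw [tvec_swap, tvec_swap, D.pol, mul_comm (f₁ x x')]
  le := D.le
  mem := by rw [tensor_swap]; exact D.mem

theorem OO.hn : 5 ≤ Fintype.card ι := by
  have h : Fintype.card ι = r * s := by simpa using Fintype.card_congr e
  have := Nat.mul_le_mul D.r3 D.s3
  omega

theorem OO.hf : IsSymmetricForm (Qf) :=
  ⟨D.hQ.polar_bilinear, fun u v => pcomm u v, D.hQ.nondegenerate⟩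

theorem OO.le_iso : M ≤ Cfsg.isometryGroup F Q := D.le.trans omegaGL_le_iso

theorem OO.M_pol {g : GL ι F} (hg : g ∈ M) (x y : ι → F) :
    Qf ((g : Matrix ι ι F) *ᵥ x) ((g : Matrix ι ι F) *ᵥ y) = Qf x y := iso_pol (D.le_iso hg) x y

theorem OO.iso_ext {g : GL ι F} (h : ∀ x y x' y', Qf ((g : Matrix ι ι F) *ᵥ T x y) ((g : Matrix ι ι F) *ᵥ T x' y') =
    Qf (T x y) (T x' y')) : g ∈ Cfsg.isometryGroup F Q := by
  let B : LinearMap.BilinForm F (ι → F) := LinearMap.mk₂ F (Qf) D.hf.bilinear.add_left D.hf.bilinear.smul_left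
    D.hf.bilinear.add_right D.hf.bilinear.smul_right
  have key : B.compl₁₂ (Matrix.mulVecLin (g : Matrix ι ι F)) (Matrix.mulVecLin (g : Matrix ι ι F)) = B :=
    lin_ext (e := e) (P := P) fun x y => lin_ext (e := e) (P := P) fun x' y' => h x y x' y'
  refine mem_iso.2 fun x => mul_left_cancel₀ D.two ?_
  rw [← pself D.hQ, ← pself D.hQ]
  exact LinearMap.congr_fun (LinearMap.congr_fun key x) x

theorem OO.kg_iso {A : GL (Fin r) F} {B : GL (Fin s) F} {μ ν : F} (hμν : μ * ν = 1)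
    (hA : ∀ x x', f₁ ((A : Matrix (Fin r) (Fin r) F) *ᵥ x) ((A : Matrix (Fin r) (Fin r) F) *ᵥ x') = μ * f₁ x x')
    (hB : ∀ y y', f₂ ((B : Matrix (Fin s) (Fin s) F) *ᵥ y) ((B : Matrix (Fin s) (Fin s) F) *ᵥ y') = ν * f₂ y y') :
    kg e P A B ∈ Cfsg.isometryGroup F Q :=
  D.iso_ext fun x y x' y' => by
    rw [kg_tvec, kg_tvec, D.pol, D.pol, hA, hB]
    linear_combination (k * (f₁ x x' * f₂ y y')) * hμν

theorem OO.kgL_iso {A : GL (Fin r) F}
    (hA : ∀ x x', f₁ ((A : Matrix (Fin r) (Fin r) F) *ᵥ x) ((A : Matrix (Fin r) (Fin r) F) *ᵥ x') = f₁ x x') :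
    kg e P A (1 : GL (Fin s) F) ∈ Cfsg.isometryGroup F Q :=
  D.kg_iso (μ := 1) (ν := 1) (one_mul 1) (fun x x' => by rw [hA, one_mul]) fun y y' => by simp

/-- squares of isometries lie in `Ω` -/
theorem OO.sq_omega {g : GL ι F} (hg : g ∈ Cfsg.isometryGroup F Q) : g * g ∈ omegaGL Q := by
  let π : Cfsg.isometryGroup F Q →* Abelianization (Cfsg.isometryGroup F Q) := Abelianization.of
  let N : Subgroup (Cfsg.isometryGroup F Q) :=
    { carrier := {x | π x * π x = 1}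
      one_mem' := by simp
      mul_mem' := fun {x y} hx hy => by
        show π (x * y) * π (x * y) = 1
        rw [map_mul, mul_mul_mul_comm, hx, hy, mul_one]
      inv_mem' := fun {x} hx => by
        show π x⁻¹ * π x⁻¹ = 1
        rw [map_inv, ← mul_inv, hx, inv_one] }
  have hle : eRefl Q ≤ N.map (Cfsg.isometryGroup F Q).subtype := by
    refine sup_le (fun x hx => ?_) ((Subgroup.closure_le _).2 ?_)
    · obtain ⟨y, hy, hyx⟩ := Subgroup.mem_map.1 (eGroup_le_omega D.hQ D.hn hx)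
      refine ⟨y, ?_, hyx⟩
      show π y * π y = 1
      have h1 : π y = 1 := by
        have h2 : y ∈ (π).ker := by rw [Abelianization.ker_of]; exact hy
        exact h2
      rw [h1, one_mul]
    · rintro x ⟨hxi, v, hv, hR⟩
      refine ⟨⟨x, hxi⟩, ?_, rfl⟩
      show π _ * π _ = 1
      rw [← map_mul, show (⟨x, hxi⟩ : Cfsg.isometryGroup F Q) * ⟨x, hxi⟩ = 1 from Subtype.ext ?_, map_one]
      refine gl_ext_vec fun y => ?_
      show ((x * x : GL ι F) : Matrix ι ι F) *ᵥ y = ((1 : GL ι F) : Matrix ι ι F) *ᵥ y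
      rw [gl_mul_mulVec, hR, hR, psub_left D.hQ, psmul_left D.hQ, pself D.hQ, Units.val_one, one_mulVec]
      match_scalars <;> field_simp <;> ring
  obtain ⟨x, hx, hxg⟩ := hle (iso_le_eRefl D.hQ hg)
  subst hxg
  refine Subgroup.mem_map.2 ⟨x * x, ?_, rfl⟩
  show x * x ∈ commutator (Cfsg.isometryGroup F Q)
  rw [← Abelianization.ker_of, MonoidHom.mem_ker, map_mul]
  exact hx

theorem OO.odd_omega {g : GL ι F} (hg : g ∈ Cfsg.isometryGroup F Q) {n : ℕ} (hn : Odd n) (h1 : g ^ n = 1) :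
    g ∈ omegaGL Q := by
  obtain ⟨t, rfl⟩ := hn
  have h : (g * g) ^ (t + 1) = g := by
    rw [← pow_two, ← pow_mul, show 2 * (t + 1) = (2 * t + 1) + 1 by ring, pow_succ, h1, one_mul]
  rw [← h]
  exact pow_mem (D.sq_omega hg) _

theorem OO.exists_char : ∃ p : ℕ, p.Prime ∧ CharP F p ∧ Odd p := by
  obtain ⟨p, hp⟩ := CharP.exists F
  have hprime : p.Prime := CharP.char_is_prime F p
  refine ⟨p, hprime, hp, hprime.odd_of_ne_two fun h => D.two ?_⟩
  haveI := hp
  subst h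
  exact_mod_cast CharP.cast_eq_zero F 2

/-- unipotent isometries lie in `Ω` -/
theorem OO.unip_omega {g : GL ι F} (hg : g ∈ Cfsg.isometryGroup F Q) (h : ((g : Matrix ι ι F) - 1) ^ 3 = 0) :
    g ∈ omegaGL Q := by
  obtain ⟨p, hp, hc, hodd⟩ := D.exists_char
  haveI := hc
  haveI : Fact p.Prime := ⟨hp⟩
  haveI : Nonempty ι := Fintype.card_pos_iff.1 (by have := D.hn; omega)
  refine D.odd_omega hg hodd (Units.ext ?_)
  have h1 := sub_pow_char_of_commute p (Commute.one_right (g : Matrix ι ι F))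
  obtain ⟨t, ht⟩ : ∃ t, p = 3 + t := ⟨p - 3, by
    obtain ⟨u, hu⟩ := hodd; have := hp.two_le; omega⟩
  rw [one_pow, show ((g : Matrix ι ι F) - 1) ^ p = 0 by rw [ht, pow_add, h, zero_mul]] at h1
  rw [Units.val_pow_eq_pow_val, Units.val_one]
  exact (sub_eq_zero.1 h1.symm)

theorem OO.kg_mem_of_omega {A : GL (Fin r) F} {B : GL (Fin s) F} (h : kg e P A B ∈ omegaGL Q) : kg e P A B ∈ M :=
  D.mem ⟨kg_mem A B, h⟩

/-- Eichler transformations of the first factor -/
theorem OO.eicL_mem {a w : Fin r → F} (haa : f₁ a a = 0) (hw : f₁ a w = 0) :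
    kg e P (eic D.s1 a w) (1 : GL (Fin s) F) ∈ M := by
  obtain ⟨p, hp, hc, hodd⟩ := D.exists_char
  haveI := hc
  refine D.kg_mem_of_omega (D.odd_omega (D.kgL_iso (eic_iso D.s1 D.two haa hw)) hodd ?_)
  rw [kg_pow, eic_pow_char D.s1 D.two haa hw, one_pow, kg_one]

/-- products of two orthogonal reflections of equal norm in the first factor -/
theorem OO.planeL_mem {d d' : Fin r → F} (hd : f₁ d d ≠ 0) (hd' : f₁ d' d' ≠ 0) (hdd : f₁ d d = f₁ d' d')
    (ho : f₁ d d' = 0) : kg e P (refl D.s1 d hd * refl D.s1 d' hd') (1 : GL (Fin s) F) ∈ M := by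
  obtain ⟨hn, hmove⟩ := refl_swap D.s1 D.two hdd ho hd
  refine D.kg_mem_of_omega ?_
  have h1 := mem_omegaGL_comm (Q := Q) (D.kgL_iso (refl_iso D.s1 d hd)) (D.kgL_iso (refl_iso D.s1 (d - d') hn))
  rw [kg_inv, kg_inv, kg_mul, kg_mul, kg_mul] at h1
  convert h1 using 2
  · rw [← refl_conj D.s1 hd (refl_iso D.s1 _ hn) hd' hmove,
      inv_eq_of_mul_eq_one_right (refl_sq D.s1 d hd)]
    simp only [mul_assoc]
  · simp

/-- contraction of the first factor -/
def OO.cob (D : OO Q f₁ f₂ e P k M) (a : Fin r → F) : (ι → F) →ₗ[F] (Fin s → F) := rc e P (Orth.ov D.s1 a)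

/-- contraction of the second factor -/
def OO.cod (D : OO Q f₁ f₂ e P k M) (d : Fin s → F) : (ι → F) →ₗ[F] (Fin r → F) := co e P (Orth.ov D.s2 d)

theorem OO.cob_tvec (a x : Fin r → F) (y : Fin s → F) : D.cob a (T x y) = f₁ x a • y := by
  rw [OO.cob, rc_tvec, Orth.ov_dot]

theorem OO.cod_tvec (d : Fin s → F) (x : Fin r → F) (y : Fin s → F) : D.cod d (T x y) = f₂ y d • x := by
  rw [OO.cod, co_tvec, Orth.ov_dot]

theorem OO.cob_self {a : Fin r → F} (haa : f₁ a a = 0) (y : Fin s → F) : D.cob a (T a y) = 0 := by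
  rw [D.cob_tvec, haa, zero_smul]

theorem OO.cob_add_left (a b : Fin r → F) (z : ι → F) : D.cob (a + b) z = D.cob a z + D.cob b z :=
  LinearMap.congr_fun (lin_ext (e := e) (P := P) (f := D.cob (a + b)) (g := D.cob a + D.cob b) fun x y => by
    rw [LinearMap.add_apply, D.cob_tvec, D.cob_tvec, D.cob_tvec, D.s1.bilinear.add_right, add_smul]) z

theorem OO.cob_smul_left (t : F) (a : Fin r → F) (z : ι → F) : D.cob (t • a) z = t • D.cob a z :=
  LinearMap.congr_fun (lin_ext (e := e) (P := P) (f := D.cob (t • a)) (g := t • D.cob a) fun x y => by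
    rw [LinearMap.smul_apply, D.cob_tvec, D.cob_tvec, D.s1.bilinear.smul_right, smul_smul]) z

theorem OO.pol_cob (a : Fin r → F) (y : Fin s → F) (z : ι → F) : Qf z (T a y) = k * f₂ (D.cob a z) y := by
  have h : pfl D.hQ (T a y) = k • (Orth.sfl D.s2 y).comp (D.cob a) := lin_ext (e := e) (P := P) fun x' y' => by
    show Qf (T x' y') (T a y) = k * f₂ (D.cob a (T x' y')) y
    rw [D.pol, D.cob_tvec, D.s2.bilinear.smul_left]
  exact LinearMap.congr_fun h z

theorem OO.pol_cod (x : Fin r → F) (d : Fin s → F) (z : ι → F) : Qf z (T x d) = k * f₁ (D.cod d z) x := by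
  have h : pfl D.hQ (T x d) = k • (Orth.sfl D.s1 x).comp (D.cod d) := lin_ext (e := e) (P := P) fun x' y' => by
    show Qf (T x' y') (T x d) = k * f₁ (D.cod d (T x' y')) x
    rw [D.pol, D.cod_tvec, D.s1.bilinear.smul_left, mul_comm (f₁ x' x)]
  exact LinearMap.congr_fun h z

theorem OO.eq_zero_of_cob {z : ι → F} (h : ∀ a, D.cob a z = 0) : z = 0 := by
  refine sym_eq_zero D.hf fun v => ?_
  induction tvec_span (e := e) (P := P) v using Submodule.span_induction with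
  | mem u hu => obtain ⟨x, y, rfl⟩ := hu; rw [D.pol_cob, h, Orth.sym_zero_left D.s2, mul_zero]
  | zero => exact pzero_right D.hQ z
  | add u v _ _ e1 e2 => rw [padd_right D.hQ, e1, e2, add_zero]
  | smul c u _ e1 => rw [psmul_right D.hQ, e1, mul_zero]

theorem OO.cob_kg {A : GL (Fin r) F} {B : GL (Fin s) F}
    (hA : ∀ x x', f₁ ((A : Matrix (Fin r) (Fin r) F) *ᵥ x) ((A : Matrix (Fin r) (Fin r) F) *ᵥ x') = f₁ x x')
    (a : Fin r → F) (z : ι → F) : D.cob ((A : Matrix (Fin r) (Fin r) F) *ᵥ a) ((kg e P A B : Matrix ι ι F) *ᵥ z) =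
      (B : Matrix (Fin s) (Fin s) F) *ᵥ D.cob a z := by
  have h : (D.cob ((A : Matrix (Fin r) (Fin r) F) *ᵥ a)).comp (Matrix.mulVecLin (kg e P A B : Matrix ι ι F)) =
      (Matrix.mulVecLin (B : Matrix (Fin s) (Fin s) F)).comp (D.cob a) := lin_ext (e := e) (P := P) fun x y => by
    show D.cob _ ((kg e P A B : Matrix ι ι F) *ᵥ T x y) = (B : Matrix (Fin s) (Fin s) F) *ᵥ D.cob a (T x y)
    rw [kg_tvec, D.cob_tvec, D.cob_tvec, hA, mulVec_smul]
  exact LinearMap.congr_fun h z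

theorem OO.eicL_mulVec {a w : Fin r → F} (haa : f₁ a a = 0) (hw : f₁ a w = 0) (z : ι → F) :
    (kg e P (eic D.s1 a w) (1 : GL (Fin s) F) : Matrix ι ι F) *ᵥ z =
      z + T w (D.cob a z) - T a (D.cob w z) - T a ((f₁ w w / 2) • D.cob a z) := by
  have h : Matrix.mulVecLin (kg e P (eic D.s1 a w) (1 : GL (Fin s) F) : Matrix ι ι F) =
      LinearMap.id + (tL e P w).comp (D.cob a) - (tL e P a).comp (D.cob w) -
        (tL e P a).comp ((f₁ w w / 2) • D.cob a) := lin_ext (e := e) (P := P) fun x y => by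
    show (kg e P (eic D.s1 a w) (1 : GL (Fin s) F) : Matrix ι ι F) *ᵥ T x y =
      T x y + T w (D.cob a (T x y)) - T a (D.cob w (T x y)) - T a ((f₁ w w / 2) • D.cob a (T x y))
    rw [kg_tvec, eic_mulVec D.s1 D.two haa hw, Units.val_one, one_mulVec, D.cob_tvec, D.cob_tvec, smul_smul,
      tvec_smul_right, tvec_smul_right, tvec_smul_right, tvec_sub_left, tvec_sub_left, tvec_add_left,
      tvec_smul_left, tvec_smul_left, tvec_smul_left]
  exact LinearMap.congr_fun h z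

theorem OO.exists_pair₁ : ∃ x x' : Fin r → F, f₁ x x' = 1 := by
  obtain ⟨a, -, ha⟩ := nd_aniso D.s1 D.two (nd_top D.s1) (by rw [top_finrank D.s1, Fintype.card_fin]; have := D.r3; omega)
  exact ⟨a, (f₁ a a)⁻¹ • a, by rw [D.s1.bilinear.smul_right, inv_mul_cancel₀ ha]⟩

/-- isometries in the tensor product subgroup as pairs of similitudes -/
theorem OO.tensor_data {g : GL ι F} (hg : g ∈ Cfsg.isometryGroup F Q) (hT : g ∈ tensorProductSubgroup r s e P) :
    ∃ (A : GL (Fin r) F) (B : GL (Fin s) F) (μ ν : F), μ * ν = 1 ∧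
      (∀ a a', f₁ ((A : Matrix (Fin r) (Fin r) F) *ᵥ a) ((A : Matrix (Fin r) (Fin r) F) *ᵥ a') = μ * f₁ a a') ∧
      (∀ y y', f₂ ((B : Matrix (Fin s) (Fin s) F) *ᵥ y) ((B : Matrix (Fin s) (Fin s) F) *ᵥ y') = ν * f₂ y y') ∧
      g = kg e P A B := by
  obtain ⟨A, B, hAB⟩ := mem_tensor hT
  have key : ∀ a a' y y', f₁ ((A : Matrix (Fin r) (Fin r) F) *ᵥ a) ((A : Matrix (Fin r) (Fin r) F) *ᵥ a') *
      f₂ ((B : Matrix (Fin s) (Fin s) F) *ᵥ y) ((B : Matrix (Fin s) (Fin s) F) *ᵥ y') = f₁ a a' * f₂ y y' :=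
    fun a a' y y' => by
      have h := iso_pol hg (T a y) (T a' y')
      rw [hAB, hAB, D.pol, D.pol] at h
      exact mul_left_cancel₀ D.kne h
  obtain ⟨a, c, hac⟩ := D.exists_pair₁
  obtain ⟨y, y', hy⟩ := D.swap.exists_pair₁
  obtain ⟨ν, hν⟩ : ∃ ν, ν = f₂ ((B : Matrix (Fin s) (Fin s) F) *ᵥ y) ((B : Matrix (Fin s) (Fin s) F) *ᵥ y') :=
    ⟨_, rfl⟩
  have h1 := key a c y y'
  rw [hac, hy, ← hν, one_mul] at h1
  have hν0 : ν ≠ 0 := fun h => by rw [h, mul_zero] at h1; exact zero_ne_one h1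
  have hA : ∀ a a', f₁ ((A : Matrix (Fin r) (Fin r) F) *ᵥ a) ((A : Matrix (Fin r) (Fin r) F) *ᵥ a') = ν⁻¹ * f₁ a a' :=
    fun a a' => by
      have h := key a a' y y'
      rw [hy, mul_one, ← hν] at h
      rw [← h]; field_simp
  refine ⟨A, B, ν⁻¹, ν, inv_mul_cancel₀ hν0, hA, fun z z' => ?_, gl_ext_tvec (e := e) (P := P) fun a y => ?_⟩
  · have h := key a c z z'
    rw [hA, hac, mul_one, one_mul] at h
    rw [← h]; field_simp
  · rw [hAB, kg_tvec]

theorem OO.cob_kgR {B : GL (Fin s) F} (a : Fin r → F) (z : ι → F) :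
    D.cob a ((kg e P (1 : GL (Fin r) F) B : Matrix ι ι F) *ᵥ z) = (B : Matrix (Fin s) (Fin s) F) *ᵥ D.cob a z := by
  have h := D.cob_kg (A := (1 : GL (Fin r) F)) (B := B) (fun x x' => by simp) a z
  rwa [Units.val_one, one_mulVec] at h

/-- Eichler transformations of the second factor -/
theorem OO.eicR_mem {b w : Fin s → F} (hbb : f₂ b b = 0) (hw : f₂ b w = 0) :
    kg e P (1 : GL (Fin r) F) (eic D.s2 b w) ∈ M := by
  rw [← kg_swap]
  exact D.swap.eicL_mem hbb hw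

end CfsgLib.Perm.Trans.TensorOO
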