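import Mathlib
import Cfsg.Agent.Lib.Perm.Trans.TensorOO.Space
import Cfsg.Agent.Lib.Coprime.Action

/-!
# Fixed elements of prime order, and unipotent isometries fixing a hyperplane
-/

set_option autoImplicit false
set_option linter.all false

namespace CfsgLib.Perm.Trans.TensorOO

open scoped Pointwise Matrix
open Matrix Cfsg.Geo CfsgLib.Perm.Asch CfsgLib.Perm.Trans CfsgLib.Perm.Trans.TensorSO

/-- a `p`-group normalising a group of order divisible by `p` centralises an element of order `p` -/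
theorem exists_fixed_pElement {G : Type*} [Group G] [Finite G] {p : ℕ} [Fact p.Prime] {A X : Subgroup G}
    (hA : IsPGroup p A) (hnorm : ∀ a ∈ A, ∀ x ∈ X, a * x * a⁻¹ ∈ X) (hp : p ∣ Nat.card X) :
    ∃ x ∈ X, x ≠ 1 ∧ x ^ p = 1 ∧ ∀ a ∈ A, a * x = x * a := by
  letI : MulDistribMulAction A X :=
    { smul := fun a x => ⟨(a : G) * x * (a : G)⁻¹, hnorm a a.2 x x.2⟩
      one_smul := fun x => Subtype.ext (show (1 : G) * x * (1 : G)⁻¹ = x by group)
      mul_smul := fun a b x => Subtype.ext (show (a * b : G) * x * ((a : G) * b)⁻¹ =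
        (a : G) * ((b : G) * x * (b : G)⁻¹) * (a : G)⁻¹ by group)
      smul_mul := fun a x y => Subtype.ext (show (a : G) * (x * y : G) * (a : G)⁻¹ =
        (a : G) * x * (a : G)⁻¹ * ((a : G) * y * (a : G)⁻¹) by group)
      smul_one := fun a => Subtype.ext (show (a : G) * 1 * (a : G)⁻¹ = 1 by group) }
  obtain ⟨S, hS⟩ := hA.nonempty_fixed_point_of_prime_not_dvd_card (Sylow p X) (not_dvd_card_sylow p X)
  letI : MulAction A (S : Subgroup X) :=
    { smul := fun a x => ⟨a • (x : X), by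
        have h : a • (x : X) ∈ a • (S : Subgroup X) := Subgroup.smul_mem_pointwise_smul _ _ _ x.2
        rwa [← Sylow.pointwise_smul_def, hS a] at h⟩
      one_smul := fun x => Subtype.ext (one_smul A (x : X))
      mul_smul := fun a b x => Subtype.ext (mul_smul a b (x : X)) }
  have hdvd : p ∣ Nat.card (S : Subgroup X) := S.dvd_card_of_dvd_card hp
  obtain ⟨x, hx, hx1⟩ := hA.exists_fixed_point_of_prime_dvd_card_of_fixed_point (α := (S : Subgroup X)) hdvd
    (a := 1) fun a => Subtype.ext (smul_one a)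
  obtain ⟨k, hk⟩ := S.2 x
  classical
  have hexk : ∃ k, (((x : X) : G)) ^ p ^ k = 1 := ⟨k, by
    have h := congrArg (fun z : (S : Subgroup X) => ((z : X) : G)) hk
    simpa using h⟩
  obtain ⟨j, hj⟩ : ∃ j, Nat.find hexk = j + 1 := Nat.exists_eq_succ_of_ne_zero fun h => hx1 (by
    have h1 := Nat.find_spec hexk
    rw [h, pow_zero, pow_one] at h1
    exact (Subtype.ext (Subtype.ext h1)).symm)
  refine ⟨((x : X) : G) ^ p ^ j, pow_mem (x : X).2 _, Nat.find_min hexk (by omega), ?_, fun a ha => ?_⟩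
  · rw [← pow_mul, ← pow_succ, ← hj]; exact Nat.find_spec hexk
  · have h : a * ((x : X) : G) * a⁻¹ = ((x : X) : G) :=
      congrArg (fun z : (S : Subgroup X) => ((z : X) : G)) (hx ⟨a, ha⟩)
    rw [← mul_inv_eq_iff_eq_mul, ← conj_pow, h]

variable {F : Type*} [Field F] [Finite F] {n : ℕ} {f : (Fin n → F) → (Fin n → F) → F}

/-- a unipotent isometry moving at most a line is trivial -/
theorem unip_rank_one (hf : IsSymmetricForm f) (h2 : (2 : F) ≠ 0) {p : ℕ} [Fact p.Prime] [CharP F p]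
    {B : Matrix (Fin n) (Fin n) F} (hB : ∀ y y', f (B *ᵥ y) (B *ᵥ y') = f y y') (hBp : B ^ p = 1)
    (hker : n ≤ Module.finrank F (LinearMap.ker (Matrix.mulVecLin B - LinearMap.id)) + 1) : ∀ y, B *ᵥ y = y := by
  by_contra hone
  push Not at hone
  obtain ⟨y1, hy1⟩ := hone
  obtain ⟨R, hR⟩ : ∃ R, R = LinearMap.range (Matrix.mulVecLin B - LinearMap.id) := ⟨_, rfl⟩
  have h1 := LinearMap.finrank_range_add_finrank_ker (Matrix.mulVecLin B - LinearMap.id)
  rw [← hR, Module.finrank_fin_fun] at h1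
  obtain ⟨d, hd⟩ : ∃ d, d = B *ᵥ y1 - y1 := ⟨_, rfl⟩
  have hd0 : d ≠ 0 := hd ▸ sub_ne_zero.2 hy1
  have hspan : Submodule.span F {d} = R := Submodule.eq_of_le_of_finrank_le
    ((Submodule.span_singleton_le_iff_mem _ _).2 (hR ▸ ⟨y1, hd.symm⟩)) (by rw [finrank_span_singleton hd0]; omega)
  have hline : ∀ y, ∃ t : F, t • d = B *ᵥ y - y := fun y => Submodule.mem_span_singleton.1 (by
    rw [hspan, hR]; exact ⟨y, rfl⟩)
  choose φ hφ using hline
  have hBy : ∀ y, B *ᵥ y = y + φ y • d := fun y => by rw [hφ]; abel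
  have hφd : φ d = 0 := by
    have hpw : ∀ j : ℕ, (B ^ j) *ᵥ d = (1 + φ d) ^ j • d := by
      intro j
      induction j with
      | zero => simp
      | succ j ih =>
        rw [pow_succ', ← mulVec_mulVec, ih, mulVec_smul, hBy d, pow_succ']
        module
    have h := hpw p
    rw [hBp, one_mulVec, add_pow_char, one_pow, add_smul, one_smul, left_eq_add, smul_eq_zero] at h
    exact eq_zero_of_pow_eq_zero (h.resolve_right hd0)
  have hdd : f d d = 0 := by
    have h := hB y1 d
    rw [hBy y1, hBy d, hφd, zero_smul, add_zero, hf.bilinear.add_left, hf.bilinear.smul_left, add_eq_left] at h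
    refine (mul_eq_zero.1 h).resolve_left fun h' => hy1 ?_
    rw [hBy y1, h', zero_smul, add_zero]
  have hφ1 : φ y1 ≠ 0 := fun h' => hy1 (by rw [hBy y1, h', zero_smul, add_zero])
  have hy1d : f y1 d = 0 := by
    have h := hB y1 y1
    rw [hBy y1] at h
    simp only [hf.bilinear.add_left, hf.bilinear.add_right, hf.bilinear.smul_left, hf.bilinear.smul_right, hdd,
      hf.symm d y1] at h
    exact (mul_eq_zero.1 (show (2 * φ y1) * f y1 d = 0 by linear_combination h)).resolve_left
      (mul_ne_zero h2 hφ1)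
  refine hd0 (sym_eq_zero hf fun y => ?_)
  have h := hB y1 y
  rw [hBy y1, hBy y] at h
  simp only [hf.bilinear.add_left, hf.bilinear.add_right, hf.bilinear.smul_left, hf.bilinear.smul_right, hdd,
    hy1d] at h
  exact (mul_eq_zero.1 (show φ y1 * f d y = 0 by linear_combination h)).resolve_left hφ1

/-- a unipotent isometry of three-space fixing an anisotropic vector is trivial -/
theorem unip_fix_three (hf : IsSymmetricForm f) (h2 : (2 : F) ≠ 0) (hn : n = 3) {p : ℕ} [Fact p.Prime] [CharP F p]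
    {A : GL (Fin n) F} (hA : ∀ y y', f ((A : Matrix (Fin n) (Fin n) F) *ᵥ y) ((A : Matrix (Fin n) (Fin n) F) *ᵥ y') =
      f y y') (hAp : A ^ p = 1) {d : Fin n → F} (hd : f d d ≠ 0) (hAd : (A : Matrix (Fin n) (Fin n) F) *ᵥ d = d) :
    A = 1 := by
  classical
  obtain ⟨N, hN⟩ : ∃ N : Matrix (Fin n) (Fin n) F, N = (A : Matrix (Fin n) (Fin n) F) - 1 := ⟨_, rfl⟩
  have hNv : ∀ v, N *ᵥ v = (A : Matrix (Fin n) (Fin n) F) *ᵥ v - v := fun v => by rw [hN, sub_mulVec, one_mulVec]
  haveI : Nonempty (Fin n) := ⟨⟨0, by omega⟩⟩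
  have hAp' : (A : Matrix (Fin n) (Fin n) F) ^ p = 1 := by rw [← Units.val_pow_eq_pow_val, hAp, Units.val_one]
  have hNp : N ^ p = 0 := by
    rw [hN, sub_pow_char_of_commute p (Commute.one_right _), one_pow, hAp', sub_self]
  have htop := top_finrank hf (F := F)
  have hd1 := perp_finrank hf (⊤ : Submodule F (Fin n → F)) d
  rw [htop, Fintype.card_fin] at hd1
  obtain ⟨y0, hy0, hy00⟩ := nd_aniso hf h2 (nd_perp hf (nd_top hf) Submodule.mem_top hd) (by omega)
  have hexj : ∃ j, (N ^ j) *ᵥ y0 = 0 := ⟨p, by rw [hNp, zero_mulVec]⟩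
  obtain ⟨j, hj⟩ : ∃ j, Nat.find hexj = j + 1 := Nat.exists_eq_succ_of_ne_zero fun h => hy00 (by
    have h1 := Nat.find_spec hexj
    rw [h, pow_zero, one_mulVec] at h1
    rw [h1, Orth.sym_zero_left hf])
  obtain ⟨v, hv⟩ : ∃ v, v = (N ^ j) *ᵥ y0 := ⟨_, rfl⟩
  have hv0 : v ≠ 0 := hv ▸ Nat.find_min hexj (by omega)
  have hvfix : (A : Matrix (Fin n) (Fin n) F) *ᵥ v = v := sub_eq_zero.1 (by
    rw [← hNv, hv, mulVec_mulVec, ← pow_succ', ← hj]; exact Nat.find_spec hexj)
  have hperp : ∀ (j : ℕ), f ((N ^ j) *ᵥ y0) d = 0 := by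
    intro j
    induction j with
    | zero => rw [pow_zero, one_mulVec]; exact hy0.2
    | succ j ih =>
      rw [pow_succ', ← mulVec_mulVec, hNv, Orth.sym_sub_left hf]
      nth_rewrite 1 [← hAd]
      rw [hA, ih, sub_self]
  have hli : LinearIndependent F ![v, d] := by
    refine LinearIndependent.pair_iff.2 fun s t hst => ?_
    have h := congrArg (fun x => f x d) hst
    simp [hf.bilinear.add_left, hf.bilinear.smul_left, hv ▸ hperp j, Orth.sym_zero_left hf, hd] at h
    subst h
    simp [hv0] at hst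
    exact ⟨hst, rfl⟩
  have hker : n ≤ Module.finrank F (LinearMap.ker (Matrix.mulVecLin (A : Matrix (Fin n) (Fin n) F) - LinearMap.id)) + 1 := by
    have h1 := finrank_span_eq_card hli
    have h3 : Submodule.span F (Set.range ![v, d]) ≤
        LinearMap.ker (Matrix.mulVecLin (A : Matrix (Fin n) (Fin n) F) - LinearMap.id) :=
      Submodule.span_le.2 (by
        rintro _ ⟨i, rfl⟩
        fin_cases i
        · exact sub_eq_zero.2 hvfix
        · exact sub_eq_zero.2 hAd)
    have h4 := Submodule.finrank_mono h3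
    rw [Fintype.card_fin] at h1
    omega
  exact gl_ext_vec fun y => by rw [unip_rank_one hf h2 hA hAp' hker y, Units.val_one, one_mulVec]

end CfsgLib.Perm.Trans.TensorOO
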