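import Mathlib
import Cfsg.Agent.Lib.Perm.Trans.TensorOO.Space

/-!
# Self-adjoint operators fixed modulo scalars by the Eichler group of a singular vector
-/

set_option autoImplicit false
set_option linter.all false

namespace CfsgLib.Perm.Trans.TensorOO

open scoped Matrix
open Matrix Cfsg.Geo CfsgLib.Perm.Asch CfsgLib.Perm.Trans CfsgLib.Perm.Trans.TensorSO

variable {F : Type*} [Field F] [Finite F] {s : ℕ} {f₂ : (Fin s → F) → (Fin s → F) → F}

theorem fixed_shape (hg : IsSymmetricForm f₂) (h2 : (2 : F) ≠ 0) (hs : 3 ≤ s)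
    (hex : 4 ≤ s ∨ ∃ t : F, t ≠ 0 ∧ t * t ≠ 1) {b p : Fin s → F} (hbb : f₂ b b = 0) (hpp : f₂ p p = 0)
    (hpb : f₂ p b = 1) {G : (Fin s → F) →ₗ[F] (Fin s → F)} (hG : ∀ y y', f₂ (G y) y' = f₂ y (G y'))
    (hfix : ∀ y, f₂ b y = 0 → ∃ l : F, ∀ z, (eic hg b y : Matrix (Fin s) (Fin s) F) *ᵥ G z =
      G ((eic hg b y : Matrix (Fin s) (Fin s) F) *ᵥ z) + l • ((eic hg b y : Matrix (Fin s) (Fin s) F) *ᵥ z)) :
    ∃ lam μ : F, ∀ z, G z = lam • z + (μ * f₂ z b) • b := by
  have hbp : f₂ b p = 1 := by rw [hg.symm, hpb]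
  obtain ⟨L, hL⟩ : ∃ L, L = perp hg (perp hg ⊤ b) p := ⟨_, rfl⟩
  have hmem : ∀ y, y ∈ L ↔ f₂ y b = 0 ∧ f₂ y p = 0 := fun y => by rw [hL]; simp [mem_perp]
  have hLnd : Nd f₂ L := hL ▸ nd_perp_pair hg (nd_top hg) Submodule.mem_top Submodule.mem_top hbb hpp hpb
  have hdim := pair_finrank hg (⊤ : Submodule F (Fin s → F)) b p
  rw [top_finrank hg, Fintype.card_fin, ← hL] at hdim
  obtain ⟨y0, hy0, hy00⟩ := nd_aniso hg h2 hLnd (by omega)
  obtain ⟨v, hv⟩ : ∃ v, v = G b := ⟨_, rfl⟩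
  -- the image of `b`
  have hl : ∀ y, f₂ b y = 0 → ∃ l : F, (∀ z, (eic hg b y : Matrix (Fin s) (Fin s) F) *ᵥ G z =
      G ((eic hg b y : Matrix (Fin s) (Fin s) F) *ᵥ z) + l • ((eic hg b y : Matrix (Fin s) (Fin s) F) *ᵥ z)) ∧
      f₂ v b • y - f₂ v y • b - (f₂ y y / 2 * f₂ v b) • b = l • b := fun y hy => by
    obtain ⟨l, hl⟩ := hfix y hy
    refine ⟨l, hl, ?_⟩
    have h := hl b
    rw [eic_fix hg h2 hbb hy hbb hy, ← hv, eic_mulVec hg h2 hbb hy] at h
    linear_combination (norm := module) h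
  have hvb : f₂ v b = 0 := by
    obtain ⟨l, -, h⟩ := hl y0 (by rw [hg.symm]; exact ((hmem y0).1 hy0).1)
    have h1 := congrArg (fun x => f₂ x y0) h
    simp [Orth.sym_sub_left hg, hg.bilinear.smul_left, hg.symm b y0, ((hmem y0).1 hy0).1, hy00] at h1
    exact h1
  have hL' : ∀ y, f₂ b y = 0 → ∀ z, (eic hg b y : Matrix (Fin s) (Fin s) F) *ᵥ G z =
      G ((eic hg b y : Matrix (Fin s) (Fin s) F) *ᵥ z) +
        (-f₂ v y) • ((eic hg b y : Matrix (Fin s) (Fin s) F) *ᵥ z) := fun y hy z => by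
    obtain ⟨l, hl, h⟩ := hl y hy
    have h1 := congrArg (fun x => f₂ x p) h
    simp [Orth.sym_sub_left hg, Orth.sym_neg_left hg, hg.bilinear.smul_left, hvb, hbp, Orth.sym_zero_left hg] at h1
    rw [hl z, ← h1]
  -- the two equations
  have e1 : ∀ y ∈ L, ∀ y' ∈ L, (∀ z ∈ L, f₂ y' v * f₂ y z + f₂ y' y * f₂ v z + f₂ v y * f₂ y' z = 0) ∧
      (-f₂ (G y') y - f₂ y y / 2 * f₂ y' v + f₂ y' y * f₂ v p = f₂ v y * f₂ y' y) := by
    intro y hy y' hy'
    obtain ⟨hyb, hyp⟩ := (hmem y).1 hy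
    obtain ⟨hy'b, hy'p⟩ := (hmem y').1 hy'
    have hby : f₂ b y = 0 := by rw [hg.symm, hyb]
    have h := hL' y hby y'
    rw [eic_mulVec hg h2 hbb hby, eic_mulVec hg h2 hbb hby, hy'b, show f₂ (G y') b = f₂ y' v by rw [hG, hv]] at h
    simp only [zero_smul, mul_zero, add_zero, sub_zero, map_sub, map_smul, ← hv] at h
    refine ⟨fun z hz => ?_, ?_⟩
    · obtain ⟨hzb, -⟩ := (hmem z).1 hz
      have h1 := congrArg (fun x => f₂ x z) h
      simp only [hg.bilinear.add_left, Orth.sym_sub_left hg, hg.bilinear.smul_left, hg.symm b z, hzb] at h1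
      linear_combination h1
    · have h1 := congrArg (fun x => f₂ x p) h
      simp only [hg.bilinear.add_left, Orth.sym_sub_left hg, hg.bilinear.smul_left, hbp, hyp, hy'p] at h1
      linear_combination h1
  have e2 : ∀ y ∈ L, -2 * f₂ (G p) y = f₂ v y * (f₂ y y / 2) := by
    intro y hy
    obtain ⟨hyb, hyp⟩ := (hmem y).1 hy
    have hby : f₂ b y = 0 := by rw [hg.symm, hyb]
    have hpy : f₂ p y = 0 := by rw [hg.symm, hyp]
    have h := congrArg (fun x => f₂ x p) (hL' y hby p)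
    rw [eic_mulVec hg h2 hbb hby, eic_mulVec hg h2 hbb hby] at h
    simp only [hg.bilinear.add_left, Orth.sym_sub_left hg, hg.bilinear.smul_left, hG _ p, hpb, hpy, hbp, hyp, hpp,
      show f₂ (G p) b = f₂ p v by rw [hG, hv]] at h
    rw [show f₂ p (G p) = f₂ (G p) p from hg.symm _ _, show f₂ y (G p) = f₂ (G p) y from hg.symm _ _,
      show f₂ b (G p) = f₂ p v by rw [hg.symm, hG, hv]] at h
    linear_combination h
  have hvL : ∀ y ∈ L, f₂ v y = 0 := by
    rcases hex with h4 | ⟨t, ht, ht1⟩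
    · have hd := perp_finrank hg L y0
      obtain ⟨z0, hz0, hz00⟩ := nd_aniso hg h2 (nd_perp hg hLnd hy0 hy00) (by omega)
      have hzy : f₂ z0 y0 = 0 := hz0.2
      have hperp : ∀ y' ∈ L, f₂ y' y0 = 0 → f₂ v y' = 0 := fun y' hy' h => by
        have h1 := (e1 y0 hy0 y' hy').1 y0 hy0
        rw [h, zero_mul, mul_zero, add_zero, add_zero, hg.symm y' v] at h1
        exact (mul_eq_zero.1 h1).resolve_right hy00
      have hv0 : f₂ v y0 = 0 := by
        have h1 := (e1 z0 hz0.1 z0 hz0.1).1 y0 hy0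
        rw [hzy, hperp z0 hz0.1 hzy, mul_zero, mul_zero, add_zero, zero_add] at h1
        exact (mul_eq_zero.1 h1).resolve_left hz00
      intro y hy
      have h := hperp (y - (f₂ y y0 / f₂ y0 y0) • y0) (L.sub_mem hy (L.smul_mem _ hy0))
        (by rw [Orth.sym_sub_left hg, hg.bilinear.smul_left, div_mul_cancel₀ _ hy00, sub_self])
      rwa [Orth.sym_sub_right hg, hg.bilinear.smul_right, hv0, mul_zero, sub_zero] at h
    · have hani : ∀ y ∈ L, f₂ y y ≠ 0 → f₂ v y = 0 := fun y hy hyy => by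
        have h1 := e2 y hy
        have h3 := e2 (t • y) (L.smul_mem t hy)
        simp only [hg.bilinear.smul_left, hg.bilinear.smul_right] at h3
        have h4 : (t * (t * t - 1) / 2) * (f₂ v y * f₂ y y) = 0 := by linear_combination t * h1 - h3
        exact (mul_eq_zero.1 ((mul_eq_zero.1 h4).resolve_left
          (div_ne_zero (mul_ne_zero ht (sub_ne_zero.2 ht1)) h2))).resolve_right hyy
      intro y hy
      by_cases hyy : f₂ y y = 0
      swap
      · exact hani y hy hyy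
      rcases eq_or_ne y 0 with rfl | h0
      · exact Orth.sym_zero_right hg v
      obtain ⟨c, hc, hcc, hcy⟩ := nd_partner hg h2 hLnd hy h0 hyy
      have hp := hani (c + y) (L.add_mem hc hy) (by
        simpa [hg.bilinear.add_left, hg.bilinear.add_right, hcc, hyy, hcy, hg.symm y c, one_add_one_eq_two] using h2)
      have hm := hani (c - y) (L.sub_mem hc hy) (by
        simp only [Orth.sym_sub_left hg, Orth.sym_sub_right hg, hcc, hyy, hcy, hg.symm y c]
        ring_nf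
        simpa using h2)
      rw [hg.bilinear.add_right] at hp
      rw [Orth.sym_sub_right hg] at hm
      exact (mul_eq_zero.1 (show (2 : F) * f₂ v y = 0 by linear_combination hp - hm)).resolve_left h2
  have hsplit : ∀ x, (∀ y ∈ L, f₂ x y = 0) → x = f₂ x p • b + f₂ x b • p := fun x hx => by
    refine sub_eq_zero.1 (sym_eq_zero hg fun w => ?_)
    obtain ⟨w', hw'⟩ : ∃ w', w' = w - f₂ w p • b - f₂ w b • p := ⟨_, rfl⟩
    have h := hx w' ((hmem w').2 ⟨by simp [hw', Orth.sym_sub_left hg, hg.bilinear.smul_left, hbb, hpb],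
      by simp [hw', Orth.sym_sub_left hg, hg.bilinear.smul_left, hpp, hbp]⟩)
    rw [hw', Orth.sym_sub_right hg, Orth.sym_sub_right hg, hg.bilinear.smul_right, hg.bilinear.smul_right] at h
    rw [Orth.sym_sub_left hg, hg.bilinear.add_left, hg.bilinear.smul_left, hg.bilinear.smul_left, hg.symm b w,
      hg.symm p w]
    linear_combination h
  obtain ⟨d, hd⟩ : ∃ d, d = f₂ v p := ⟨_, rfl⟩
  have hvd : v = d • b := by rw [hsplit v hvL, hvb, ← hd, zero_smul, add_zero]
  have hgL : ∀ y ∈ L, f₂ (G p) y = 0 := fun y hy => by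
    have h := e2 y hy
    rw [hvL y hy, zero_mul] at h
    exact (mul_eq_zero.1 h).resolve_left (neg_ne_zero.2 h2)
  have hGL : ∀ y' ∈ L, G y' = d • y' := by
    intro y' hy'
    refine sub_eq_zero.1 ?_
    rw [hsplit (G y' - d • y') fun y hy => by
      have h := (e1 y hy y' hy').2
      rw [hg.symm y' v, hvL y' hy', hvL y hy, ← hd] at h
      rw [Orth.sym_sub_left hg, hg.bilinear.smul_left]
      linear_combination -h]
    obtain ⟨hy'b, hy'p⟩ := (hmem y').1 hy'
    rw [Orth.sym_sub_left hg, Orth.sym_sub_left hg, hg.bilinear.smul_left, hg.bilinear.smul_left, hy'b, hy'p,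
      hG y' p, hg.symm y' (G p), hgL y' hy', hG y' b, ← hv, hg.symm y' v, hvL y' hy']
    simp
  refine ⟨d, f₂ (G p) p, fun z => ?_⟩
  have hzL : z - f₂ z p • b - f₂ z b • p ∈ L := (hmem _).2
    ⟨by simp [Orth.sym_sub_left hg, hg.bilinear.smul_left, hbb, hpb],
     by simp [Orth.sym_sub_left hg, hg.bilinear.smul_left, hpp, hbp]⟩
  have h := hGL _ hzL
  rw [map_sub, map_sub, map_smul, map_smul, ← hv, hvd, hsplit (G p) hgL, hG p b, ← hv, hg.symm p v, ← hd] at h
  linear_combination (norm := module) h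

end CfsgLib.Perm.Trans.TensorOO
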