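import Mathlib
import Cfsg.Agent.Lib.Perm.Trans.TensorOO.Basic

/-!
# Elements centralising the hyperplanes of a singular pure subspace give all of `Ω`
-/

set_option autoImplicit false
set_option linter.all false

namespace CfsgLib.Perm.Trans.TensorOO

open scoped Matrix
open Matrix Cfsg.Geo CfsgLib.Perm.Asch CfsgLib.Perm.Trans CfsgLib.Perm.Trans.TensorFrame
open CfsgLib.Perm.Trans.TensorMax CfsgLib.Perm.Trans.Quad CfsgLib.Perm.Trans.TensorSO

/-- a `p`-group acting on an elementary abelian group fixes a nonzero element of each invariant subgroup -/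
theorem exists_fixed {G : Type*} [Group G] {p : ℕ} [Fact p.Prime] (hG : IsPGroup p G) {V : Type*} [AddCommGroup V]
    [Finite V] (hV : ∀ v : V, p • v = 0) (A : AddSubgroup V) (act : G → V → V) (h1 : ∀ v, act 1 v = v)
    (hmul : ∀ g h v, act (g * h) v = act g (act h v)) (hzero : ∀ g, act g 0 = 0)
    (hA : ∀ g, ∀ v ∈ A, act g v ∈ A) (hne : ∃ v ∈ A, v ≠ 0) : ∃ v ∈ A, v ≠ 0 ∧ ∀ g, act g v = v := by
  letI : MulAction G A :=
    { smul := fun g v => ⟨act g v, hA g v v.2⟩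
      one_smul := fun v => Subtype.ext (h1 v)
      mul_smul := fun g h v => Subtype.ext (hmul g h v) }
  obtain ⟨v, hv, hv0⟩ := hne
  have hord : addOrderOf (⟨v, hv⟩ : A) = p :=
    addOrderOf_eq_prime (Subtype.ext (by simpa using hV v)) fun h => hv0 (by simpa using congrArg Subtype.val h)
  have hdvd : p ∣ Nat.card A := hord ▸ addOrderOf_dvd_natCard (⟨v, hv⟩ : A)
  obtain ⟨w, hw, hw0⟩ := IsPGroup.exists_fixed_point_of_prime_dvd_card_of_fixed_point (p := p) hG A hdvd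
    (a := (0 : A)) fun g => Subtype.ext (hzero g)
  exact ⟨w, w.2, fun h => hw0 (Subtype.ext h.symm), fun g => congrArg Subtype.val (hw g)⟩

variable {ι : Type} [Fintype ι] [DecidableEq ι] {F : Type*} [Field F] [Fintype F] {r s : ℕ}
variable {e : ι ≃ Fin r × Fin s} {P : GL ι F}
variable {Q : (ι → F) → F} {f₁ : (Fin r → F) → (Fin r → F) → F} {f₂ : (Fin s → F) → (Fin s → F) → F}
variable {k : F} {M : Subgroup (GL ι F)}

local notation "T" => tvec e P
local notation "Qf" => QuadraticMap.polar Q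

/-- the skew product of two vectors, as an operator -/
def wedge (hg : IsSymmetricForm f₂) (u v : Fin s → F) : (Fin s → F) →ₗ[F] (Fin s → F) :=
  (Orth.sfl hg u).smulRight v - (Orth.sfl hg v).smulRight u

theorem wedge_apply (hg : IsSymmetricForm f₂) (u v y : Fin s → F) : wedge hg u v y = f₂ y u • v - f₂ y v • u := rfl

theorem wedge_add_right (hg : IsSymmetricForm f₂) (u v v' : Fin s → F) :
    wedge hg u (v + v') = wedge hg u v + wedge hg u v' := LinearMap.ext fun y => by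
  simp only [LinearMap.add_apply, wedge_apply, hg.bilinear.add_right]
  module

theorem wedge_smul_right (hg : IsSymmetricForm f₂) (u v : Fin s → F) (c : F) :
    wedge hg u (c • v) = c • wedge hg u v := LinearMap.ext fun y => by
  simp only [LinearMap.smul_apply, wedge_apply, hg.bilinear.smul_right]
  module

theorem wedge_comm (hg : IsSymmetricForm f₂) (u v : Fin s → F) : wedge hg u v = -wedge hg v u :=
  LinearMap.ext fun y => by simp only [LinearMap.neg_apply, wedge_apply, neg_sub]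

theorem wedge_smul_left (hg : IsSymmetricForm f₂) (u v : Fin s → F) (c : F) :
    wedge hg (c • u) v = c • wedge hg u v := by
  rw [wedge_comm, wedge_smul_right, wedge_comm hg u, smul_neg]

theorem wedge_add_left (hg : IsSymmetricForm f₂) (u u' v : Fin s → F) :
    wedge hg (u + u') v = wedge hg u v + wedge hg u' v := by
  rw [wedge_comm, wedge_add_right, wedge_comm hg u, wedge_comm hg u', neg_add]

theorem wedge_self (hg : IsSymmetricForm f₂) (u : Fin s → F) : wedge hg u u = 0 :=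
  LinearMap.ext fun y => by simp [wedge_apply]

variable (D : OO Q f₁ f₂ e P k M)
include D

/-- the operators occurring at a singular vector -/
def OO.cenSet (D : OO Q f₁ f₂ e P k M) (a : Fin r → F) : Set ((Fin s → F) →ₗ[F] (Fin s → F)) :=
  {S | ∃ m ∈ M, ∀ z, (m : Matrix ι ι F) *ᵥ z = z + T a (S (D.cob a z))}

theorem OO.cenSet_zero (a : Fin r → F) : (0 : (Fin s → F) →ₗ[F] (Fin s → F)) ∈ D.cenSet a :=
  ⟨1, one_mem M, fun z => by rw [Units.val_one, one_mulVec, LinearMap.zero_apply, tvec_zero_right, add_zero]⟩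

theorem OO.cenSet_add {a : Fin r → F} (haa : f₁ a a = 0) {S S' : (Fin s → F) →ₗ[F] (Fin s → F)}
    (h : S ∈ D.cenSet a) (h' : S' ∈ D.cenSet a) : S + S' ∈ D.cenSet a := by
  obtain ⟨m, hm, hmz⟩ := h
  obtain ⟨m', hm', hmz'⟩ := h'
  refine ⟨m * m', mul_mem hm hm', fun z => ?_⟩
  rw [gl_mul_mulVec, hmz', hmz, map_add, D.cob_self haa, add_zero, LinearMap.add_apply, tvec_add_right]
  abel

theorem OO.cenSet_neg {a : Fin r → F} (haa : f₁ a a = 0) {S : (Fin s → F) →ₗ[F] (Fin s → F)}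
    (h : S ∈ D.cenSet a) : -S ∈ D.cenSet a := by
  obtain ⟨m, hm, hmz⟩ := h
  refine ⟨m⁻¹, inv_mem hm, fun z => ?_⟩
  have h1 : z = (m : Matrix ι ι F) *ᵥ (z + T a (-(S (D.cob a z)))) := by
    rw [hmz, map_add, D.cob_self haa, add_zero, tvec_neg_right]
    abel
  conv_lhs => rw [h1, gl_inv_mulVec]
  rfl

theorem OO.cenSet_skew {a : Fin r → F} (ha : a ≠ 0) (haa : f₁ a a = 0) {S : (Fin s → F) →ₗ[F] (Fin s → F)}
    (h : S ∈ D.cenSet a) (y y' : Fin s → F) : f₂ (S y) y' = -f₂ y (S y') := by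
  obtain ⟨m, hm, hmz⟩ := h
  obtain ⟨c, -, -, hca⟩ := nd_partner D.s1 D.two (nd_top D.s1) Submodule.mem_top ha haa
  have key : ∀ y, D.cob a (T c y) = y := fun y => by rw [D.cob_tvec, hca, one_smul]
  have h1 := D.M_pol hm (T c y) (T c y')
  rw [hmz, hmz, key, key, padd_left D.hQ, padd_right D.hQ, padd_right D.hQ, D.pol, D.pol, D.pol, D.pol,
    haa, D.s1.symm a c, hca] at h1
  have h2 : k * (f₂ y (S y') + f₂ (S y) y') = 0 := by linear_combination h1
  linear_combination (mul_eq_zero.1 h2).resolve_left D.kne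

theorem OO.cenSet_conjR {a : Fin r → F} {S : (Fin s → F) →ₗ[F] (Fin s → F)} (h : S ∈ D.cenSet a) {B : GL (Fin s) F}
    (hB : kg e P (1 : GL (Fin r) F) B ∈ M) : (Matrix.mulVecLin (B : Matrix (Fin s) (Fin s) F)).comp
      (S.comp (Matrix.mulVecLin ((B⁻¹ : GL (Fin s) F) : Matrix (Fin s) (Fin s) F))) ∈ D.cenSet a := by
  obtain ⟨m, hm, hmz⟩ := h
  obtain ⟨g, hg⟩ : ∃ g, g = kg e P (1 : GL (Fin r) F) B := ⟨_, rfl⟩
  rw [← hg] at hB
  refine ⟨g * m * g⁻¹, mul_mem (mul_mem hB hm) (inv_mem hB), fun z => ?_⟩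
  obtain ⟨w, rfl⟩ : ∃ w, z = (g : Matrix ι ι F) *ᵥ w := ⟨_, (gl_mulVec_inv g z).symm⟩
  rw [gl_mul_mulVec, gl_mul_mulVec, gl_inv_mulVec, hmz, mulVec_add, hg, kg_tvec, Units.val_one, one_mulVec, D.cob_kgR]
  simp [gl_inv_mulVec]

theorem OO.cenSet_wedge_conj {a : Fin r → F} {u v : Fin s → F} (h : wedge D.s2 u v ∈ D.cenSet a) {B : GL (Fin s) F}
    (hBi : ∀ y y', f₂ ((B : Matrix (Fin s) (Fin s) F) *ᵥ y) ((B : Matrix (Fin s) (Fin s) F) *ᵥ y') = f₂ y y')
    (hB : kg e P (1 : GL (Fin r) F) B ∈ M) :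
    wedge D.s2 ((B : Matrix (Fin s) (Fin s) F) *ᵥ u) ((B : Matrix (Fin s) (Fin s) F) *ᵥ v) ∈ D.cenSet a := by
  convert D.cenSet_conjR h hB using 1
  refine LinearMap.ext fun y => ?_
  obtain ⟨w, rfl⟩ : ∃ w, y = (B : Matrix (Fin s) (Fin s) F) *ᵥ w := ⟨_, (gl_mulVec_inv B y).symm⟩
  simp [wedge_apply, gl_inv_mulVec, hBi, mulVec_sub, mulVec_smul]

/-- a square of the torus of a hyperbolic pair -/
theorem OO.exists_torusR {b p : Fin s → F} (hbb : f₂ b b = 0) (hpp : f₂ p p = 0) (hpb : f₂ p b = 1) {μ : F}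
    (hμ : μ ≠ 0) : ∃ B : GL (Fin s) F,
      (∀ y y', f₂ ((B : Matrix (Fin s) (Fin s) F) *ᵥ y) ((B : Matrix (Fin s) (Fin s) F) *ᵥ y') = f₂ y y') ∧
      kg e P (1 : GL (Fin r) F) B ∈ M ∧ (B : Matrix (Fin s) (Fin s) F) *ᵥ b = (μ * μ) • b ∧
      ∀ x, f₂ x b = 0 → f₂ x p = 0 → (B : Matrix (Fin s) (Fin s) F) *ᵥ x = x := by
  have hbp : f₂ b p = 1 := by rw [D.s2.symm, hpb]
  have h2 := D.two
  have hn1 : f₂ (b - p) (b - p) ≠ 0 := by
    simp only [Orth.sym_sub_left D.s2, Orth.sym_sub_right D.s2, hbb, hpp, hpb, hbp]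
    ring_nf
    simpa using h2
  have hn2 : f₂ (b - μ⁻¹ • p) (b - μ⁻¹ • p) ≠ 0 := by
    simp only [Orth.sym_sub_left D.s2, Orth.sym_sub_right D.s2, D.s2.bilinear.smul_left, D.s2.bilinear.smul_right,
      hbb, hpp, hpb, hbp]
    ring_nf
    simpa using ⟨hμ, h2⟩
  obtain ⟨B, hB⟩ : ∃ B, B = refl D.s2 _ hn2 * refl D.s2 _ hn1 := ⟨_, rfl⟩
  have hBi : ∀ y y', f₂ ((B : Matrix (Fin s) (Fin s) F) *ᵥ y) ((B : Matrix (Fin s) (Fin s) F) *ᵥ y') = f₂ y y' :=
    fun y y' => by rw [hB, gl_mul_mulVec, gl_mul_mulVec, refl_iso D.s2, refl_iso D.s2]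
  have hBb : (B : Matrix (Fin s) (Fin s) F) *ᵥ b = μ • b := by
    rw [hB, gl_mul_mulVec, refl_mulVec, refl_mulVec]
    simp only [Orth.sym_sub_left D.s2, Orth.sym_sub_right D.s2, D.s2.bilinear.smul_left, D.s2.bilinear.smul_right,
      hbb, hpp, hpb, hbp]
    have h2' : (-2 : F) ≠ 0 := neg_ne_zero.2 h2
    match_scalars <;> (ring_nf; field_simp; ring)
  refine ⟨B * B, fun y y' => by rw [gl_mul_mulVec, gl_mul_mulVec, hBi, hBi], ?_, ?_, fun x hxb hxp => ?_⟩
  · refine D.kg_mem_of_omega ?_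
    have hiso : kg e P (1 : GL (Fin r) F) B ∈ Cfsg.isometryGroup F Q :=
      D.kg_iso (μ := 1) (ν := 1) (one_mul 1) (fun x x' => by simp) fun y y' => by rw [hBi, one_mul]
    have := D.sq_omega hiso
    rwa [kg_mul, one_mul] at this
  · rw [gl_mul_mulVec, hBb, mulVec_smul, hBb, smul_smul]
  · have hBx : (B : Matrix (Fin s) (Fin s) F) *ᵥ x = x := by
      rw [hB, gl_mul_mulVec, refl_mulVec, refl_mulVec]
      simp [Orth.sym_sub_right D.s2, D.s2.bilinear.smul_right, hxb, hxp]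
    rw [gl_mul_mulVec, hBx, hBx]

theorem OO.wedge_scale {a : Fin r → F} (haa : f₁ a a = 0) {b p x : Fin s → F} (hbb : f₂ b b = 0) (hpp : f₂ p p = 0)
    (hpb : f₂ p b = 1) (hxb : f₂ x b = 0) (hxp : f₂ x p = 0) (h : wedge D.s2 b x ∈ D.cenSet a) (t : F) :
    wedge D.s2 b (t • x) ∈ D.cenSet a := by
  obtain ⟨i, j, hij⟩ := CfsgLib.Classical.SpInvolClasses.exists_two_sq D.two t
  have hsq : ∀ μ : F, wedge D.s2 b ((μ * μ) • x) ∈ D.cenSet a := by
    intro μ
    rcases eq_or_ne μ 0 with rfl | hμ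
    · rw [mul_zero, zero_smul, ← zero_smul F x, wedge_smul_right, zero_smul]; exact D.cenSet_zero a
    obtain ⟨B, hBi, hBM, hBb, hBx⟩ := D.exists_torusR hbb hpp hpb hμ
    have := D.cenSet_wedge_conj h hBi hBM
    rwa [hBb, hBx x hxb hxp, wedge_smul_left, ← wedge_smul_right] at this
  rw [← hij, pow_two, pow_two, add_smul, wedge_add_right]
  exact D.cenSet_add haa (hsq i) (hsq j)

/-- the second factors of the operators at `a` in the direction `u` -/
def OO.lam (D : OO Q f₁ f₂ e P k M) {a : Fin r → F} (haa : f₁ a a = 0) (u : Fin s → F) : Submodule F (Fin s → F) where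
  carrier := {v | ∀ t : F, wedge D.s2 u (t • v) ∈ D.cenSet a}
  zero_mem' t := by
    rw [smul_zero, ← zero_smul F (0 : Fin s → F), wedge_smul_right, zero_smul]; exact D.cenSet_zero a
  add_mem' {v v'} hv hv' t := by rw [smul_add, wedge_add_right]; exact D.cenSet_add haa (hv t) (hv' t)
  smul_mem' c v hv t := by rw [smul_smul]; exact hv _

theorem OO.mem_lam {a : Fin r → F} (haa : f₁ a a = 0) {u v : Fin s → F} :
    v ∈ D.lam haa u ↔ ∀ t : F, wedge D.s2 u (t • v) ∈ D.cenSet a := Iff.rfl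

/-- the two parts of a conjugate of `b ∧ x` -/
theorem OO.step {a : Fin r → F} (haa : f₁ a a = 0) {b p x y : Fin s → F} (hbb : f₂ b b = 0) (hpp : f₂ p p = 0)
    (hpb : f₂ p b = 1) (hxb : f₂ x b = 0) (hxp : f₂ x p = 0) (hx : x ∈ D.lam haa b) (hyb : f₂ y b = 0)
    (hyp : f₂ y p = 0) : f₂ x y • y - (f₂ y y / 2) • x ∈ D.lam haa p ∧
      ∀ t : F, wedge D.s2 y (t • x) - (t * f₂ x y) • wedge D.s2 b p ∈ D.cenSet a := by
  have h2 := D.two
  have hbp : f₂ b p = 1 := by rw [D.s2.symm, hpb]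
  have hconj : ∀ z : Fin s → F, f₂ z b = 0 → f₂ z p = 0 → ∀ t : F,
      wedge D.s2 (b + z - (f₂ z z / 2) • p) (t • (x - f₂ x z • p)) ∈ D.cenSet a := by
    intro z hzb hzp t
    have hpz : f₂ p z = 0 := by rw [D.s2.symm, hzp]
    have := D.cenSet_wedge_conj (hx t) (eic_iso D.s2 D.two hpp hpz) (D.eicR_mem hpp hpz)
    rw [mulVec_smul, eic_mulVec D.s2 D.two hpp hpz, eic_mulVec D.s2 D.two hpp hpz, hbp, D.s2.symm b z, hzb, hxp] at this
    simpa using this
  have hplus : ∀ t, wedge D.s2 (b + y - (f₂ y y / 2) • p) (t • (x - f₂ x y • p)) ∈ D.cenSet a := hconj y hyb hyp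
  have hminus : ∀ t, wedge D.s2 (b + -y - (f₂ y y / 2) • p) (t • (x + f₂ x y • p)) ∈ D.cenSet a := fun t => by
    have := hconj (-y) (by rw [Orth.sym_neg_left D.s2, hyb, neg_zero]) (by rw [Orth.sym_neg_left D.s2, hyp, neg_zero]) t
    simpa [Orth.sym_neg_left D.s2, Orth.sym_neg_right D.s2] using this
  have hsub : ∀ {S S'}, S ∈ D.cenSet a → S' ∈ D.cenSet a → S - S' ∈ D.cenSet a := fun h h' => by
    rw [sub_eq_add_neg]; exact D.cenSet_add haa h (D.cenSet_neg haa h')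
  constructor
  · intro t
    have h := hsub (hsub (D.cenSet_add haa (hplus (t / 2)) (hminus (t / 2))) (hx (t / 2))) (hx (t / 2))
    convert h using 1
    refine LinearMap.ext fun z => ?_
    simp only [LinearMap.add_apply, LinearMap.sub_apply, wedge_apply, D.s2.bilinear.add_left, D.s2.bilinear.add_right,
      Orth.sym_sub_right D.s2, D.s2.bilinear.smul_right, Orth.sym_neg_right D.s2]
    match_scalars <;> field_simp <;> ring
  · intro t
    have h := hsub (hplus (t / 2)) (hminus (t / 2))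
    convert h using 1
    refine LinearMap.ext fun z => ?_
    simp only [LinearMap.sub_apply, LinearMap.smul_apply, wedge_apply, D.s2.bilinear.add_right,
      Orth.sym_sub_right D.s2, D.s2.bilinear.smul_right, Orth.sym_neg_right D.s2]
    match_scalars <;> field_simp <;> ring

theorem OO.spread {a : Fin r → F} (haa : f₁ a a = 0) {b p x : Fin s → F} (hbb : f₂ b b = 0) (hpp : f₂ p p = 0)
    (hpb : f₂ p b = 1) (hxb : f₂ x b = 0) (hxp : f₂ x p = 0) (hx0 : x ≠ 0) (hx : x ∈ D.lam haa b) :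
    perp D.s2 (perp D.s2 ⊤ b) p ≤ D.lam haa p := by
  have hg := D.s2
  have h2 := D.two
  have hbp : f₂ b p = 1 := by rw [hg.symm, hpb]
  obtain ⟨L, hL⟩ : ∃ L, L = perp D.s2 (perp D.s2 ⊤ b) p := ⟨_, rfl⟩
  rw [← hL]
  have hLnd : Nd f₂ L := hL ▸ nd_perp_pair hg (nd_top hg) Submodule.mem_top Submodule.mem_top hbb hpp hpb
  have hmem : ∀ y, y ∈ L ↔ f₂ y b = 0 ∧ f₂ y p = 0 := fun y => by rw [hL]; simp [mem_perp]
  have hg1 : ∀ y ∈ L, f₂ x y • y - (f₂ y y / 2) • x ∈ D.lam haa p := fun y hy =>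
    (D.step haa hbb hpp hpb hxb hxp hx ((hmem y).1 hy).1 ((hmem y).1 hy).2).1
  have hpol : ∀ y ∈ L, ∀ y' ∈ L, f₂ x y • y' + f₂ x y' • y - f₂ y y' • x ∈ D.lam haa p := by
    intro y hy y' hy'
    have := Submodule.sub_mem _ (Submodule.sub_mem _ (hg1 _ (L.add_mem hy hy')) (hg1 y hy)) (hg1 y' hy')
    convert this using 1
    simp only [hg.bilinear.add_left, hg.bilinear.add_right, hg.symm y' y]
    match_scalars <;> field_simp <;> ring
  have hxL : x ∈ L := (hmem x).2 ⟨hxb, hxp⟩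
  intro v hv
  by_cases hxx : f₂ x x = 0
  · obtain ⟨z, hz, hzz, hzx⟩ := nd_partner hg h2 hLnd hxL hx0 hxx
    have hxz : f₂ x z = 1 := by rw [hg.symm, hzx]
    have hzΛ : z ∈ D.lam haa p := by simpa [hxz, hzz] using hg1 z hz
    have h5 : 5 ≤ s := by
      by_contra hs
      have hs3 : s = 3 := by
        rcases D.s4 with h | h
        · have := D.s3; omega
        · exfalso
          obtain ⟨l, hl⟩ := h b x hbb hxx (by rw [hg.symm, hxb])
            (fun hb => by rw [hb, Orth.sym_zero_right hg] at hpb; exact zero_ne_one hpb)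
          rw [hl, hg.bilinear.smul_left, hbp, mul_one] at hxp
          exact hx0 (by rw [hl, hxp, zero_smul])
      -- a third vector forces four dimensions
      have hli : LinearIndependent F ![b, p, x, z] := by
        refine Fintype.linearIndependent_iff.2 fun g hsum => ?_
        simp only [Fin.sum_univ_four] at hsum
        have hxb' : f₂ b x = 0 := by rw [hg.symm, hxb]
        have hxp' : f₂ p x = 0 := by rw [hg.symm, hxp]
        obtain ⟨hzb, hzp⟩ := (hmem z).1 hz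
        have e1 := congrArg (fun w => f₂ w p) hsum
        have e2 := congrArg (fun w => f₂ w b) hsum
        have e3 := congrArg (fun w => f₂ w z) hsum
        have e4 := congrArg (fun w => f₂ w x) hsum
        simp [hg.bilinear.add_left, hg.bilinear.smul_left, hbb, hpp, hpb, hbp, hxb, hxp, hxx, hzz, hzx, hxz, hzb, hzp,
          hxb', hxp', Orth.sym_zero_left hg, hg.symm b z, hg.symm p z] at e1 e2 e3 e4
        intro i
        fin_cases i
        · simpa using e1
        · simpa using e2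
        · simpa using e3
        · simpa using e4
      have := hli.fintype_card_le_finrank
      simp [hs3] at this
    have hdim := pair_finrank hg (⊤ : Submodule F (Fin s → F)) b p
    rw [top_finrank hg, Fintype.card_fin, ← hL] at hdim
    obtain ⟨y0, hy0, hy0y⟩ := nd_aniso hg h2 (P := perp hg (perp hg L x) z)
      (nd_perp_pair hg hLnd hxL hz hxx hzz hzx) (by have := pair_finrank hg L x z; omega)
    have hy0L : y0 ∈ L := hy0.1.1
    have hyx : f₂ y0 x = 0 := hy0.1.2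
    have hxΛ : x ∈ D.lam haa p := by
      have h1 := hg1 y0 hy0L
      rw [hg.symm x y0, hyx, zero_smul, zero_sub] at h1
      have h3 := Submodule.smul_mem _ (-(2 / f₂ y0 y0)) h1
      convert h3 using 1
      match_scalars
      field_simp
    have hrest : ∀ y ∈ L, f₂ y x = 0 → f₂ y z = 0 → y ∈ D.lam haa p := fun y hy h1 h3 => by
      have h := hpol y hy z hz
      rw [hg.symm x y, h1, hxz, h3] at h
      simpa using h
    obtain ⟨w, hw⟩ : ∃ w, w = v - f₂ v z • x - f₂ v x • z := ⟨_, rfl⟩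
    have hwΛ := hrest w (hw ▸ L.sub_mem (L.sub_mem hv (L.smul_mem _ hxL)) (L.smul_mem _ hz))
      (by simp [hw, Orth.sym_sub_left hg, hg.bilinear.smul_left, hxx, hzx])
      (by simp [hw, Orth.sym_sub_left hg, hg.bilinear.smul_left, hxz, hzz])
    have := Submodule.add_mem _ (Submodule.add_mem _ hwΛ (Submodule.smul_mem _ (f₂ v z) hxΛ))
      (Submodule.smul_mem _ (f₂ v x) hzΛ)
    convert this using 1
    rw [hw]
    abel
  · have hxΛ : x ∈ D.lam haa p := by
      have h := Submodule.smul_mem _ (f₂ x x)⁻¹ (hpol x hxL x hxL)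
      rwa [add_sub_cancel_right, smul_smul, inv_mul_cancel₀ hxx, one_smul] at h
    obtain ⟨w, hw⟩ : ∃ w, w = v - (f₂ v x / f₂ x x) • x := ⟨_, rfl⟩
    have hwx : f₂ w x = 0 := by
      rw [hw, Orth.sym_sub_left hg, hg.bilinear.smul_left, div_mul_cancel₀ _ hxx, sub_self]
    have hwΛ : w ∈ D.lam haa p := by
      have h := hpol x hxL w (hw ▸ L.sub_mem hv (L.smul_mem _ hxL))
      rw [hg.symm x w, hwx, zero_smul, add_zero, sub_zero] at h
      have h3 := Submodule.smul_mem _ (f₂ x x)⁻¹ h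
      rwa [smul_smul, inv_mul_cancel₀ hxx, one_smul] at h3
    have := Submodule.add_mem _ hwΛ (Submodule.smul_mem _ (f₂ v x / f₂ x x) hxΛ)
    convert this using 1
    rw [hw]
    abel

/-- one nonzero operator gives a `b ∧ x` -/
theorem OO.exists_wedge {a : Fin r → F} (ha : a ≠ 0) (haa : f₁ a a = 0) {b p : Fin s → F} (hbb : f₂ b b = 0)
    (hpp : f₂ p p = 0) (hpb : f₂ p b = 1) {S₀ : (Fin s → F) →ₗ[F] (Fin s → F)} (hS₀ : S₀ ∈ D.cenSet a)
    (h0 : S₀ ≠ 0) : ∃ x, f₂ x b = 0 ∧ f₂ x p = 0 ∧ x ≠ 0 ∧ wedge D.s2 b x ∈ D.cenSet a := by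
  obtain ⟨pc, hpc, hc, -⟩ := D.exists_char
  haveI := hc
  haveI : Fact pc.Prime := ⟨hpc⟩
  have hg := D.s2
  have h2 := D.two
  haveI : Finite ((Fin s → F) →ₗ[F] (Fin s → F)) :=
    Finite.of_injective (fun g => (g : (Fin s → F) → Fin s → F)) DFunLike.coe_injective
  let G : Subgroup (GL (Fin s) F) :=
    { carrier := {g | ∃ y, f₂ b y = 0 ∧ g = eic hg b y}
      one_mem' := ⟨0, Orth.sym_zero_right hg b, (eic_zero hg h2 hbb).symm⟩
      mul_mem' := fun {g g'} ⟨y, hy, hgy⟩ ⟨y', hy', hgy'⟩ =>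
        ⟨y + y', by rw [hg.bilinear.add_right, hy, hy', add_zero], by rw [hgy, hgy', eic_mul hg h2 hbb hy hy']⟩
      inv_mem' := fun {g} ⟨y, hy, hgy⟩ =>
        ⟨-y, by rw [Orth.sym_neg_right hg, hy, neg_zero], inv_eq_of_mul_eq_one_right (by
          rw [hgy, eic_mul hg h2 hbb hy (by rw [Orth.sym_neg_right hg, hy, neg_zero]), add_neg_cancel,
            eic_zero hg h2 hbb])⟩ }
  have hG : IsPGroup pc G := fun ⟨g, hgG⟩ => by
    obtain ⟨y, hy, rfl⟩ := hgG
    exact ⟨1, Subtype.ext (by simpa using eic_pow_char hg h2 hbb hy)⟩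
  let act : G → ((Fin s → F) →ₗ[F] (Fin s → F)) → ((Fin s → F) →ₗ[F] (Fin s → F)) := fun g S =>
    (Matrix.mulVecLin ((g : GL (Fin s) F) : Matrix (Fin s) (Fin s) F)).comp
      (S.comp (Matrix.mulVecLin (((g : GL (Fin s) F)⁻¹ : GL (Fin s) F) : Matrix (Fin s) (Fin s) F)))
  obtain ⟨S, hS, hS0, hfix⟩ := exists_fixed hG
    (fun v => by rw [← Nat.cast_smul_eq_nsmul F, CharP.cast_eq_zero, zero_smul])
    { carrier := D.cenSet a
      zero_mem' := D.cenSet_zero a
      add_mem' := D.cenSet_add haa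
      neg_mem' := D.cenSet_neg haa } act (fun S => LinearMap.ext fun y => by simp [act])
    (fun g g' S => LinearMap.ext fun y => by
      simp only [act, LinearMap.comp_apply, Matrix.mulVecLin_apply, Subgroup.coe_mul, _root_.mul_inv_rev, gl_mul_mulVec])
    (fun g => LinearMap.ext fun y => by simp [act]) (fun g S hS => by
      obtain ⟨y, hy, hgy⟩ := g.2
      exact D.cenSet_conjR hS (hgy ▸ D.eicR_mem hbb hy)) ⟨S₀, hS₀, h0⟩
  have hsk := D.cenSet_skew ha haa hS
  have hcomm : ∀ y, f₂ b y = 0 → ∀ z, S ((eic hg b y : Matrix (Fin s) (Fin s) F) *ᵥ z) =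
      (eic hg b y : Matrix (Fin s) (Fin s) F) *ᵥ S z := fun y hy z => by
    have h := LinearMap.congr_fun (hfix ⟨eic hg b y, y, hy, rfl⟩) ((eic hg b y : Matrix (Fin s) (Fin s) F) *ᵥ z)
    simp only [act, LinearMap.comp_apply, Matrix.mulVecLin_apply, gl_inv_mulVec] at h
    exact h.symm
  have hparts : ∀ y, f₂ b y = 0 → ∀ z, (f₂ z b • S y - f₂ z y • S b = f₂ (S z) b • y - f₂ (S z) y • b) ∧
      ((f₂ y y * f₂ z b) • S b = (f₂ y y * f₂ (S z) b) • b) := by
    intro y hy z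
    have e1 := hcomm y hy z
    have e2 := hcomm (-y) (by rw [Orth.sym_neg_right hg, hy, neg_zero]) z
    rw [eic_mulVec hg h2 hbb hy, eic_mulVec hg h2 hbb hy] at e1
    rw [eic_mulVec hg h2 hbb (by rw [Orth.sym_neg_right hg, hy, neg_zero]),
      eic_mulVec hg h2 hbb (by rw [Orth.sym_neg_right hg, hy, neg_zero])] at e2
    simp only [map_sub, map_add, map_smul, map_neg, Orth.sym_neg_right hg, Orth.sym_neg_left hg, neg_neg] at e1 e2
    constructor
    · have : (2 : F) • (f₂ z b • S y - f₂ z y • S b) = (2 : F) • (f₂ (S z) b • y - f₂ (S z) y • b) := by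
        linear_combination (norm := module) e1 - e2
      exact smul_right_injective _ h2 this
    · have : (-1 : F) • ((f₂ y y * f₂ z b) • S b) = (-1 : F) • ((f₂ y y * f₂ (S z) b) • b) := by
        linear_combination (norm := skip) e1 + e2
        match_scalars <;> field_simp <;> ring
      exact smul_right_injective _ (neg_ne_zero.2 one_ne_zero) this
  have hb0 : b ≠ 0 := fun h => by rw [h, Orth.sym_zero_right hg] at hpb; exact zero_ne_one hpb
  obtain ⟨y1, hy1, hy11⟩ := nd_aniso hg h2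
    (P := perp hg (perp hg ⊤ b) p) (nd_perp_pair hg (nd_top hg) Submodule.mem_top Submodule.mem_top hbb hpp hpb)
    (by have h := pair_finrank hg (⊤ : Submodule F (Fin s → F)) b p
        rw [top_finrank hg, Fintype.card_fin] at h
        have := D.s3
        omega)
  obtain ⟨lam, hlam⟩ : ∃ lam, lam = f₂ (S p) b := ⟨_, rfl⟩
  have hSb : S b = lam • b := by
    have h := (hparts y1 (by rw [hg.symm]; exact hy1.1.2) p).2
    rw [hpb, ← hlam, mul_one, ← smul_smul] at h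
    exact smul_right_injective _ hy11 h
  have hlam0 : lam = 0 := by
    have h := hsk p b
    rw [hSb, hg.bilinear.smul_right, hpb, mul_one, ← hlam] at h
    exact (mul_eq_zero.1 (show (2 : F) * lam = 0 by linear_combination h)).resolve_left h2
  rw [hlam0, zero_smul] at hSb
  have hSzb : ∀ z, f₂ (S z) b = 0 := fun z => by rw [hsk, hSb, Orth.sym_zero_right hg, neg_zero]
  obtain ⟨x, hx⟩ : ∃ x, x = S p := ⟨_, rfl⟩
  have hxb : f₂ x b = 0 := hx ▸ hSzb p
  have hxp : f₂ x p = 0 := by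
    have h := hsk p p
    rw [hg.symm p (S p), ← hx] at h
    exact (mul_eq_zero.1 (show (2 : F) * f₂ x p = 0 by linear_combination h)).resolve_left h2
  have hSy : ∀ y, f₂ b y = 0 → S y = -(f₂ y x) • b := fun y hy => by
    have h := (hparts y hy p).1
    rw [hpb, one_smul, hSb, smul_zero, sub_zero, hSzb, zero_smul, zero_sub] at h
    rw [h, ← hx, neg_smul, hg.symm x y]
  have hSeq : S = wedge hg b x := LinearMap.ext fun z => by
    obtain ⟨z', hz'⟩ : ∃ z', z' = z - f₂ z b • p := ⟨_, rfl⟩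
    have hzb : f₂ b z' = 0 := by
      rw [hz', Orth.sym_sub_right hg, hg.bilinear.smul_right, hg.symm b p, hpb, hg.symm b z]; ring
    have h := hSy z' hzb
    rw [hz', map_sub, map_smul, ← hx, Orth.sym_sub_left hg, hg.bilinear.smul_left, hg.symm p x, hxp] at h
    rw [wedge_apply]
    linear_combination (norm := module) h
  refine ⟨x, hxb, hxp, fun h => hS0 ?_, hSeq ▸ hS⟩
  rw [hSeq, h, ← zero_smul F (0 : Fin s → F), wedge_smul_right, zero_smul]

/-- one nonzero operator gives all -/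
theorem OO.wedge_all {a : Fin r → F} (ha : a ≠ 0) (haa : f₁ a a = 0) {S₀ : (Fin s → F) →ₗ[F] (Fin s → F)}
    (hS₀ : S₀ ∈ D.cenSet a) (h0 : S₀ ≠ 0) : ∀ u v, wedge D.s2 u v ∈ D.cenSet a := by
  have hg := D.s2
  have h2 := D.two
  have htop : 3 ≤ Module.finrank F (⊤ : Submodule F (Fin s → F)) := by
    rw [top_finrank hg, Fintype.card_fin]; exact D.s3
  obtain ⟨b, -, hb0, hbb⟩ := nd_singular hg h2 (nd_top hg) htop
  obtain ⟨p, -, hpp, hpb⟩ := nd_partner hg h2 (nd_top hg) Submodule.mem_top hb0 hbb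
  have hbp : f₂ b p = 1 := by rw [hg.symm, hpb]
  obtain ⟨L, hL⟩ : ∃ L, L = perp hg (perp hg ⊤ b) p := ⟨_, rfl⟩
  have hL' : L = perp hg (perp hg ⊤ p) b := by rw [hL]; ext y; simp [mem_perp, and_comm]
  have hmem : ∀ y, y ∈ L ↔ f₂ y b = 0 ∧ f₂ y p = 0 := fun y => by rw [hL]; simp [mem_perp]
  obtain ⟨x, hxb, hxp, hx0, hx⟩ := D.exists_wedge ha haa hbb hpp hpb hS₀ h0
  have hxΛ : x ∈ D.lam haa b := fun t => D.wedge_scale haa hbb hpp hpb hxb hxp hx t
  have hLp : L ≤ D.lam haa p := hL ▸ D.spread haa hbb hpp hpb hxb hxp hx0 hxΛ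
  have hdim := pair_finrank hg (⊤ : Submodule F (Fin s → F)) b p
  rw [← hL] at hdim
  obtain ⟨x', hx', hx'x⟩ := nd_aniso hg h2 (P := L)
    (hL ▸ nd_perp_pair hg (nd_top hg) Submodule.mem_top Submodule.mem_top hbb hpp hpb) (by omega)
  have hLb : L ≤ D.lam haa b := hL' ▸ D.spread haa hpp hbb hbp ((hmem x').1 hx').2 ((hmem x').1 hx').1
    (fun h => hx'x (by rw [h, Orth.sym_zero_left hg])) (hLp hx')
  have hstep : ∀ y ∈ L, ∀ x ∈ L, ∀ t : F,
      wedge hg y (t • x) - (t * f₂ x y) • wedge hg b p ∈ D.cenSet a := fun y hy x hx =>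
    (D.step haa hbb hpp hpb ((hmem x).1 hx).1 ((hmem x).1 hx).2 (hLb hx) ((hmem y).1 hy).1 ((hmem y).1 hy).2).2
  have hbpΛ : p ∈ D.lam haa b := fun t => by
    have := D.cenSet_neg haa (hstep x' hx' x' hx' (t / f₂ x' x'))
    rwa [wedge_smul_right, wedge_self, smul_zero, zero_sub, div_mul_cancel₀ _ hx'x, neg_neg,
      ← wedge_smul_right] at this
  have hLL : ∀ y ∈ L, L ≤ D.lam haa y := fun y hy v hv t => by
    have h := D.cenSet_add haa (hstep y hy v hv t) (hbpΛ (t * f₂ v y))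
    rwa [wedge_smul_right hg b, sub_add_cancel] at h
  have hflip : ∀ {u v}, v ∈ D.lam haa u → u ∈ D.lam haa v := fun {u v} h t => by
    have h1 := D.cenSet_neg haa (h t)
    rwa [wedge_smul_right, ← wedge_smul_left, ← wedge_comm] at h1
  have hdec : ∀ v, v = (f₂ v p • b + f₂ v b • p) + (v - f₂ v p • b - f₂ v b • p) ∧
      v - f₂ v p • b - f₂ v b • p ∈ L := fun v => ⟨by abel, (hmem _).2
    ⟨by simp [Orth.sym_sub_left hg, hg.bilinear.smul_left, hbb, hpb],
     by simp [Orth.sym_sub_left hg, hg.bilinear.smul_left, hpp, hbp]⟩⟩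
  have htotal : ∀ u, b ∈ D.lam haa u → p ∈ D.lam haa u → L ≤ D.lam haa u → ∀ v, v ∈ D.lam haa u :=
    fun u h1 h3 h4 v => by
    rw [(hdec v).1]
    exact Submodule.add_mem _ (Submodule.add_mem _ (Submodule.smul_mem _ _ h1) (Submodule.smul_mem _ _ h3))
      (h4 (hdec v).2)
  have hzero : ∀ u, u ∈ D.lam haa u := fun u t => by
    rw [wedge_smul_right, wedge_self, smul_zero]; exact D.cenSet_zero a
  intro u v
  have hu : u ∈ D.lam haa v := htotal v (hflip (htotal b (hzero b) hbpΛ hLb v))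
    (hflip (htotal p (hflip hbpΛ) (hzero p) hLp v))
    (fun y hy => hflip (htotal y (hflip (hLb hy)) (hflip (hLp hy)) (hLL y hy) v)) u
  have := hflip hu 1
  rwa [one_smul] at this

/-- the operators at another singular vector -/
theorem OO.wedge_transfer {a a' : Fin r → F} (haa : f₁ a a = 0) (haa' : f₁ a' a' = 0) (hne : f₁ a' a ≠ 0)
    (h : ∀ u v, wedge D.s2 u v ∈ D.cenSet a) : ∀ u v, wedge D.s2 u v ∈ D.cenSet a' := by
  have hg := D.s1
  have h2 := D.two
  obtain ⟨c, hc⟩ : ∃ c, c = (f₁ a' a)⁻¹ • a' := ⟨_, rfl⟩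
  have hca : f₁ c a = 1 := by rw [hc, hg.bilinear.smul_left, inv_mul_cancel₀ hne]
  have hac : f₁ a c = 1 := by rw [hg.symm, hca]
  have hcc : f₁ c c = 0 := by rw [hc, hg.bilinear.smul_left, hg.bilinear.smul_right, haa', mul_zero, mul_zero]
  have hdim := pair_finrank hg (⊤ : Submodule F (Fin r → F)) a c
  rw [top_finrank hg, Fintype.card_fin] at hdim
  obtain ⟨y, hy, hyy⟩ := nd_aniso hg h2 (P := perp hg (perp hg ⊤ a) c)
    (nd_perp_pair hg (nd_top hg) Submodule.mem_top Submodule.mem_top haa hcc hca) (by have := D.r3; omega)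
  have hya : f₁ y a = 0 := hy.1.2
  have hyc : f₁ y c = 0 := hy.2
  obtain ⟨q, hq⟩ : ∃ q, q = f₁ y y / 2 := ⟨_, rfl⟩
  have hq0 : q ≠ 0 := hq ▸ div_ne_zero hyy h2
  have hcy : f₁ c y = 0 := by rw [hg.symm, hyc]
  have haw : f₁ a (q⁻¹ • y) = 0 := by rw [hg.bilinear.smul_right, hg.symm, hya, mul_zero]
  obtain ⟨A, hA⟩ : ∃ A, A = eic hg a (q⁻¹ • y) * eic hg c y := ⟨_, rfl⟩
  have hAa : (A : Matrix (Fin r) (Fin r) F) *ᵥ a = (-q) • c := by
    rw [hA, gl_mul_mulVec, eic_mulVec hg h2 hcc hcy, hac, hg.symm a y, hya, ← hq, eic_mulVec hg h2 haa haw]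
    simp only [hg.bilinear.add_left, Orth.sym_sub_left hg, hg.bilinear.smul_left, hg.bilinear.smul_right, hca, haa,
      hya, hcy, hg.symm a y]
    rw [hq]
    match_scalars <;> field_simp <;> ring
  have hAi : ∀ x x', f₁ ((A : Matrix (Fin r) (Fin r) F) *ᵥ x) ((A : Matrix (Fin r) (Fin r) F) *ᵥ x') = f₁ x x' :=
    fun x x' => by rw [hA, gl_mul_mulVec, gl_mul_mulVec, eic_iso hg h2 haa haw, eic_iso hg h2 hcc hcy]
  obtain ⟨g, hgdef⟩ : ∃ g, g = kg e P A (1 : GL (Fin s) F) := ⟨_, rfl⟩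
  have hgM : g ∈ M := by
    have := mul_mem (D.eicL_mem haa haw) (D.eicL_mem hcc hcy)
    rwa [kg_mul, one_mul, ← hA, ← hgdef] at this
  obtain ⟨t, ht, hta⟩ : ∃ t : F, t ≠ 0 ∧ (A : Matrix (Fin r) (Fin r) F) *ᵥ a = t • a' :=
    ⟨-q * (f₁ a' a)⁻¹, mul_ne_zero (neg_ne_zero.2 hq0) (inv_ne_zero hne), by rw [hAa, hc, smul_smul]⟩
  intro u v
  obtain ⟨m, hm, hmz⟩ := h u ((t * t)⁻¹ • v)
  refine ⟨g * m * g⁻¹, mul_mem (mul_mem hgM hm) (inv_mem hgM), fun z => ?_⟩
  obtain ⟨w, rfl⟩ : ∃ w, z = (g : Matrix ι ι F) *ᵥ w := ⟨_, (gl_mulVec_inv g z).symm⟩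
  rw [gl_mul_mulVec, gl_mul_mulVec, gl_inv_mulVec, hmz, mulVec_add]
  congr 1
  have h1 : D.cob ((A : Matrix (Fin r) (Fin r) F) *ᵥ a) ((g : Matrix ι ι F) *ᵥ w) = D.cob a w := by
    rw [hgdef, D.cob_kg hAi, Units.val_one, one_mulVec]
  conv_lhs => rw [hgdef, kg_tvec, Units.val_one, one_mulVec, hta]
  rw [hta, D.cob_smul_left] at h1
  rw [← h1, map_smul, wedge_smul_right, LinearMap.smul_apply, smul_smul, tvec_smul_left, tvec_smul_right, smul_smul,
    show t * (t * (t * t)⁻¹) = 1 by field_simp, one_smul]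

/-- Eichler parameters reach `U ⊗ b⊥` -/
theorem OO.eparams {a : Fin r → F} (ha : a ≠ 0) (haa : f₁ a a = 0) (hall : ∀ u v, wedge D.s2 u v ∈ D.cenSet a)
    {b : Fin s → F} (hb : f₂ b b ≠ 0) : ∃ Pp : Submodule F (ι → F),
      (∀ z, z ∈ Pp ↔ Qf (T a b) z = 0 ∧ ∀ t : F, EIn Q M (T a b) (t • z)) ∧
      ∀ x y, f₂ y b = 0 → T x y ∈ Pp := by
  have hQ := D.hQ
  have hg := D.s2
  have hg1 := D.s1
  have h2 := D.two
  have hQT : ∀ x y, f₁ x x = 0 → Q (T x y) = 0 := fun x y hx => by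
    have h := pself hQ (T x y)
    rw [D.pol, hx, zero_mul, mul_zero] at h
    exact (mul_eq_zero.1 h.symm).resolve_left h2
  obtain ⟨u, hu⟩ : ∃ u, u = T a b := ⟨_, rfl⟩
  have hQu : Q u = 0 := hu ▸ hQT a b haa
  rw [← hu]
  let Pp : Submodule F (ι → F) :=
    { carrier := {z | Qf u z = 0 ∧ ∀ t : F, EIn Q M u (t • z)}
      zero_mem' := ⟨pzero_right hQ u, fun t => by
        rw [smul_zero]
        have := EIn.smul_self hQ M hQu 0
        rwa [zero_smul] at this⟩
      add_mem' := fun {z z'} hz hz' => ⟨by rw [padd_right hQ, hz.1, hz'.1, add_zero], fun t => by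
        rw [smul_add]
        exact EIn.add hQ hQu (by rw [psmul_right hQ, hz.1, mul_zero]) (by rw [psmul_right hQ, hz'.1, mul_zero])
          (hz.2 t) (hz'.2 t)⟩
      smul_mem' := fun c z hz => ⟨by rw [psmul_right hQ, hz.1, mul_zero], fun t => by
        rw [smul_smul]; exact hz.2 _⟩ }
  have hPp : ∀ z, z ∈ Pp ↔ Qf u z = 0 ∧ ∀ t : F, EIn Q M u (t • z) := fun z => Iff.rfl
  have hconj : ∀ {g : GL ι F}, g ∈ M → (g : Matrix ι ι F) *ᵥ u = u → ∀ {z}, z ∈ Pp → (g : Matrix ι ι F) *ᵥ z ∈ Pp :=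
    fun {g} hgM hgu {z} hz => (hPp _).2 ⟨by rw [← hgu, D.M_pol hgM]; exact hz.1, fun t => by
      rw [← mulVec_smul]
      have h := EIn.conj (hz.2 t) (D.le_iso hgM) hgM
      rwa [hgu] at h⟩
  have hTa : ∀ w, T a w ∈ Pp := fun w => (hPp _).2 ⟨by rw [hu, D.pol, haa]; ring, fun t => by
    obtain ⟨m, hm, hmz⟩ := hall b (k • t • w)
    refine ⟨m, hm, fun z => ?_⟩
    rw [hmz, ← tvec_smul_right, hQT a _ haa, hu, D.pol_cob, D.pol_cob, wedge_apply, tvec_sub_right, zero_mul,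
      zero_smul, sub_zero, hg.bilinear.smul_right, hg.bilinear.smul_right]
    simp only [tvec_smul_right, smul_smul]
    module⟩
  have hsing : ∀ a', f₁ a' a' = 0 → f₁ a' a ≠ 0 → ∀ w1 w2, f₂ b w1 = 0 → f₂ b w2 = 0 → ∀ w,
      T a' (wedge hg w1 w2 w) ∈ Pp := by
    intro a' ha' hne w1 w2 h1 h3 w
    obtain ⟨m, hm, hmz⟩ := D.wedge_transfer haa ha' hne hall w1 w2
    have haa' : f₁ a a' ≠ 0 := by rwa [hg1.symm]
    have hmu : (m : Matrix ι ι F) *ᵥ u = u := by
      rw [hmz, hu, D.cob_tvec, map_smul, wedge_apply, h1, h3]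
      simp [tvec_zero_right]
    have h := Pp.sub_mem (hconj hm hmu (hTa w)) (hTa w)
    rw [hmz, add_sub_cancel_left, D.cob_tvec, map_smul, tvec_smul_right] at h
    have h4 := Pp.smul_mem (f₁ a a')⁻¹ h
    rwa [smul_smul, inv_mul_cancel₀ haa', one_smul] at h4
  have hbnd : Nd f₂ (perp hg ⊤ b) := nd_perp hg (nd_top hg) Submodule.mem_top hb
  have hbdim : 2 ≤ Module.finrank F (perp hg (⊤ : Submodule F (Fin s → F)) b) := by
    have h := perp_finrank hg (⊤ : Submodule F (Fin s → F)) b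
    rw [top_finrank hg, Fintype.card_fin] at h
    have := D.s3
    omega
  have hsing' : ∀ a', f₁ a' a' = 0 → f₁ a' a ≠ 0 → ∀ y, f₂ y b = 0 → T a' y ∈ Pp := by
    intro a' ha' hne y hyb
    have hby : f₂ b y = 0 := by rw [hg.symm, hyb]
    rcases eq_or_ne y 0 with rfl | hy0
    · rw [tvec_zero_right]; exact Pp.zero_mem
    by_cases hyy : f₂ y y = 0
    · obtain ⟨w, hw, -, hwy⟩ := nd_partner hg h2 hbnd (mem_perp.2 ⟨trivial, hyb⟩) hy0 hyy
      have h := hsing a' ha' hne w y (by rw [hg.symm]; exact hw.2) hby y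
      rwa [wedge_apply, hg.symm y w, hwy, hyy, zero_smul, sub_zero, one_smul] at h
    · have hd := perp_finrank hg (perp hg (⊤ : Submodule F (Fin s → F)) b) y
      obtain ⟨w, hw, hww⟩ := nd_aniso hg h2 (nd_perp hg hbnd (mem_perp.2 ⟨trivial, hyb⟩) hyy) (by omega)
      have h := hsing a' ha' hne w y (by rw [hg.symm]; exact hw.1.2) hby w
      rw [wedge_apply, show f₂ w y = 0 from hw.2, zero_smul, sub_zero, tvec_smul_right] at h
      have h3 := Pp.smul_mem (f₂ w w)⁻¹ h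
      rwa [smul_smul, inv_mul_cancel₀ hww, one_smul] at h3
  refine ⟨Pp, hPp, fun x y hyb => ?_⟩
  obtain ⟨c, -, hcc, hca⟩ := nd_partner hg1 h2 (nd_top hg1) Submodule.mem_top ha haa
  have hac : f₁ a c = 1 := by rw [hg1.symm, hca]
  obtain ⟨L, hL⟩ : ∃ L, L = perp hg1 (perp hg1 ⊤ a) c := ⟨_, rfl⟩
  have hLnd : Nd f₁ L := hL ▸ nd_perp_pair hg1 (nd_top hg1) Submodule.mem_top Submodule.mem_top haa hcc hca
  have hcP := hsing' c hcc (by rw [hca]; exact one_ne_zero) y hyb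
  have key : ∀ z ∈ L, ∀ σ : F, σ * σ = 1 → T (c + σ • z - (f₁ z z / 2) • a) y ∈ Pp := by
    intro z hz σ hσ
    have hza : f₁ z a = 0 := by rw [hL] at hz; exact hz.1.2
    have hzc : f₁ z c = 0 := by rw [hL] at hz; exact hz.2
    refine hsing' _ ?_ ?_ y hyb
    · simp only [hg1.bilinear.add_left, hg1.bilinear.add_right, Orth.sym_sub_left hg1, Orth.sym_sub_right hg1,
        hg1.bilinear.smul_left, hg1.bilinear.smul_right, hcc, hca, hac, haa, hza, hzc, hg1.symm c z, hg1.symm a z]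
      field_simp
      linear_combination (4 * f₁ z z) * hσ
    · simp [hg1.bilinear.add_left, Orth.sym_sub_left hg1, hg1.bilinear.smul_left, hca, haa, hza]
  have hLP : ∀ z ∈ L, T z y ∈ Pp := fun z hz => by
    have h := Pp.smul_mem (2 : F)⁻¹ (Pp.sub_mem (key z hz 1 (one_mul 1)) (key z hz (-1) (by ring)))
    convert h using 1
    rw [← tvec_sub_left, ← tvec_smul_left]
    congr 1
    match_scalars <;> field_simp <;> ring
  have haP : T a y ∈ Pp := by
    have hdim := pair_finrank hg1 (⊤ : Submodule F (Fin r → F)) a c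
    rw [top_finrank hg1, Fintype.card_fin, ← hL] at hdim
    obtain ⟨z, hz, hzz⟩ := nd_aniso hg1 h2 hLnd (by have := D.r3; omega)
    have h := Pp.smul_mem (2 / f₁ z z) (Pp.sub_mem (Pp.add_mem hcP (hLP z hz)) (key z hz 1 (one_mul 1)))
    convert h using 1
    rw [← tvec_add_left, ← tvec_sub_left, ← tvec_smul_left]
    congr 1
    match_scalars <;> field_simp <;> ring
  have hz : x - f₁ x a • c - f₁ x c • a ∈ L := by
    rw [hL]
    simp [mem_perp, Orth.sym_sub_left hg1, hg1.bilinear.smul_left, hca, hac, haa, hcc]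
  have h := Pp.add_mem (Pp.add_mem (hLP _ hz) (Pp.smul_mem (f₁ x a) hcP)) (Pp.smul_mem (f₁ x c) haP)
  rw [← tvec_smul_left, ← tvec_smul_left, ← tvec_add_left, ← tvec_add_left] at h
  convert h using 2
  abel

/-- the pure singular vectors with anisotropic second factor are centres -/
theorem OO.centre_of_all {a : Fin r → F} (ha : a ≠ 0) (haa : f₁ a a = 0)
    (hall : ∀ u v, wedge D.s2 u v ∈ D.cenSet a) {b : Fin s → F} (hb : f₂ b b ≠ 0) : T a b ∈ eCentres Q M := by
  have hQ := D.hQ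
  have hg := D.s2
  have h2 := D.two
  have hdim := perp_finrank hg (⊤ : Submodule F (Fin s → F)) b
  rw [top_finrank hg, Fintype.card_fin] at hdim
  obtain ⟨b1, hb1, hb11⟩ := nd_aniso hg h2 (nd_perp hg (nd_top hg) Submodule.mem_top hb) (by have := D.s3; omega)
  have hb1b : f₂ b1 b = 0 := hb1.2
  have hbb1 : f₂ b b1 = 0 := by rw [hg.symm, hb1b]
  obtain ⟨Pp, hPp, hbase⟩ := D.eparams ha haa hall hb
  obtain ⟨Pp1, hPp1, hbase1⟩ := D.eparams ha haa hall hb11
  obtain ⟨c, -, hcc, hca⟩ := nd_partner D.s1 h2 (nd_top D.s1) Submodule.mem_top ha haa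
  have hperp : ∀ a0, f₁ a0 a = 0 → T a0 b ∈ Pp := by
    intro a0 ha0
    obtain ⟨g, hgM, hgE⟩ := ((hPp1 _).1 (hbase1 a0 b hbb1)).2 1
    rw [one_smul] at hgE
    have hgu : (g : Matrix ι ι F) *ᵥ T a b = T a b := by
      rw [hgE, D.pol, D.pol, haa, D.s1.symm a a0, ha0]
      simp
    have hgc : (g : Matrix ι ι F) *ᵥ T c b1 ∈ Pp := by
      refine (hPp _).2 ⟨?_, fun t => ?_⟩
      · rw [← hgu, D.M_pol hgM]; exact ((hPp _).1 (hbase c b1 hb1b)).1
      · rw [← mulVec_smul]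
        have h := EIn.conj (((hPp _).1 (hbase c b1 hb1b)).2 t) (D.le_iso hgM) hgM
        rwa [hgu] at h
    rw [hgE, D.pol, D.pol, hca, hb1b, one_mul, mul_zero, mul_zero, zero_smul, sub_zero] at hgc
    have h := Pp.smul_mem (k * f₂ b1 b1)⁻¹ (Pp.add_mem (Pp.sub_mem hgc (hbase c b1 hb1b))
      (Pp.smul_mem (Q (T a0 b) * (k * f₂ b1 b1)) (hbase a b1 hb1b)))
    convert h using 1
    have := D.kne
    match_scalars <;> field_simp <;> ring
  refine ⟨?_, fun z hz => ?_⟩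
  · have h := pself hQ (T a b)
    rw [D.pol, haa, zero_mul, mul_zero] at h
    exact (mul_eq_zero.1 h.symm).resolve_left h2
  obtain ⟨σ, hσ⟩ : ∃ σ, σ = (f₂ b b)⁻¹ • D.cod b z := ⟨_, rfl⟩
  have hσa : f₁ σ a = 0 := by
    rw [pcomm, D.pol_cod] at hz
    rw [hσ, D.s1.bilinear.smul_left, (mul_eq_zero.1 hz).resolve_left D.kne, mul_zero]
  let π : (ι → F) →ₗ[F] (ι → F) := LinearMap.id - (tR e P b).comp ((f₂ b b)⁻¹ • D.cod b)
  have hπ : z - T σ b ∈ Pp := by
    have hall' : ∀ w, π w ∈ Pp := fun w => by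
      induction tvec_span (e := e) (P := P) w using Submodule.span_induction with
      | mem v hv =>
        obtain ⟨x, y, rfl⟩ := hv
        have h := hbase x (y - (f₂ y b / f₂ b b) • b) (by
          rw [Orth.sym_sub_left hg, hg.bilinear.smul_left, div_mul_cancel₀ _ hb, sub_self])
        convert h using 1
        show T x y - T ((f₂ b b)⁻¹ • D.cod b (T x y)) b = _
        rw [D.cod_tvec, smul_smul, tvec_sub_right, tvec_smul_left, tvec_smul_right, inv_mul_eq_div]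
      | zero => rw [map_zero]; exact Pp.zero_mem
      | add v v' _ _ e1 e2 => rw [map_add]; exact Pp.add_mem e1 e2
      | smul t v _ e1 => rw [map_smul]; exact Pp.smul_mem t e1
    have h := hall' z
    rwa [show π z = z - T ((f₂ b b)⁻¹ • D.cod b z) b from rfl, ← hσ] at h
  have h := ((hPp _).1 (Pp.add_mem hπ (hperp σ hσa))).2 1
  rwa [one_smul, sub_add_cancel] at h

/-- below `Ω` only the identity centralises these hyperplanes -/
theorem OO.cen_zero (hfull : ¬ omegaGL Q ≤ M) {a : Fin r → F} (ha : a ≠ 0) (haa : f₁ a a = 0)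
    {S : (Fin s → F) →ₗ[F] (Fin s → F)} (hS : S ∈ D.cenSet a) : S = 0 := by
  by_contra hne
  have hall := D.wedge_all ha haa hS hne
  obtain ⟨b, -, hb⟩ := nd_aniso D.s2 D.two (nd_top D.s2) (by
    rw [top_finrank D.s2, Fintype.card_fin]; have := D.s3; omega)
  obtain ⟨c, -, hcc, hca⟩ := nd_partner D.s1 D.two (nd_top D.s1) Submodule.mem_top ha haa
  have hc : c ≠ 0 := fun h => by rw [h, Orth.sym_zero_left D.s1] at hca; exact zero_ne_one hca
  have h1 := D.centre_of_all ha haa hall hb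
  have h2 := D.centre_of_all hc hcc (D.wedge_transfer haa hcc (by rw [hca]; exact one_ne_zero) hall) hb
  refine hfull (omega_le_of_eCentres D.hQ D.hn fun u hu => eCentres_all D.hQ D.le_iso h1 h2 ?_ hu)
  rw [D.pol, D.s1.symm a c, hca, one_mul]
  exact mul_ne_zero D.kne hb

end CfsgLib.Perm.Trans.TensorOO
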