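import Mathlib
import Cfsg.Agent.Lib.Perm.Trans.TensorOO.Full
import Cfsg.Agent.Lib.Perm.Trans.TensorOO.FixedShape
import Cfsg.Agent.Lib.Perm.Trans.TensorSO.Radical

/-!
# Elements in the radical of the stabiliser of a singular pure subspace lie in the tensor product subgroup
-/

set_option autoImplicit false
set_option linter.all false

namespace CfsgLib.Perm.Trans.TensorOO

open scoped Matrix
open Matrix Cfsg.Geo CfsgLib.Perm.Asch CfsgLib.Perm.Trans CfsgLib.Perm.Trans.TensorFrame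
open CfsgLib.Perm.Trans.TensorMax CfsgLib.Perm.Trans.Quad CfsgLib.Perm.Trans.TensorSO

variable {ι : Type} [Fintype ι] [DecidableEq ι] {F : Type*} [Field F] [Fintype F] {r s : ℕ}
variable {e : ι ≃ Fin r × Fin s} {P : GL ι F}
variable {Q : (ι → F) → F} {f₁ : (Fin r → F) → (Fin r → F) → F} {f₂ : (Fin s → F) → (Fin s → F) → F}
variable {k : F} {M : Subgroup (GL ι F)}

local notation "T" => tvec e P
local notation "Qf" => QuadraticMap.polar Q

variable (D : OO Q f₁ f₂ e P k M)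

/-- elements of `M` in the radical of the stabiliser of `a ⊗ W` -/
structure OO.IsRad (D : OO Q f₁ f₂ e P k M) (a : Fin r → F) (m : GL ι F) : Prop where
  mem : m ∈ M
  fix : ∀ y, (m : Matrix ι ι F) *ᵥ T a y = T a y
  low : ∀ z, D.cob a z = 0 → ∃ η, (m : Matrix ι ι F) *ᵥ z = z + T a η
  quo : ∀ z, D.cob a ((m : Matrix ι ι F) *ᵥ z) = D.cob a z

include D

/-- the displacement of `c ⊗ W` -/
def OO.Phi (D : OO Q f₁ f₂ e P k M) (c : Fin r → F) (m : GL ι F) : (Fin s → F) →ₗ[F] (ι → F) :=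
  (Matrix.mulVecLin (m : Matrix ι ι F) - LinearMap.id).comp (tL e P c)

theorem OO.Phi_apply (c : Fin r → F) (m : GL ι F) (y : Fin s → F) :
    D.Phi c m y = (m : Matrix ι ι F) *ᵥ T c y - T c y := rfl

theorem OO.ker_ext {a c : Fin r → F} (hca : f₁ c a = 1) {N : Type*} [AddCommGroup N] [Module F N]
    {L L' : (ι → F) →ₗ[F] N} (h : ∀ w y, f₁ w a = 0 → L (T w y) = L' (T w y)) {z : ι → F} (hz : D.cob a z = 0) :
    L z = L' z := by
  have key : (L - L').comp (LinearMap.id - (tL e P c).comp (D.cob a)) = 0 := lin_ext (e := e) (P := P) fun x y => by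
    simp only [LinearMap.comp_apply, LinearMap.sub_apply, LinearMap.id_apply, LinearMap.zero_apply, tL_apply]
    rw [D.cob_tvec, tvec_smul_right, ← tvec_smul_left, ← tvec_sub_left, sub_eq_zero]
    exact h _ _ (by rw [Orth.sym_sub_left D.s1, D.s1.bilinear.smul_left, hca, mul_one, sub_self])
  have h1 := LinearMap.congr_fun key z
  simp only [LinearMap.comp_apply, LinearMap.sub_apply, LinearMap.id_apply, LinearMap.zero_apply, hz, map_zero,
    sub_zero] at h1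
  exact sub_eq_zero.1 h1

theorem OO.IsRad.cob_Phi {a : Fin r → F} {m : GL ι F} (h : D.IsRad a m) (c : Fin r → F) (y : Fin s → F) :
    D.cob a (D.Phi c m y) = 0 := by
  rw [D.Phi_apply, map_sub, h.quo, sub_self]

theorem OO.IsRad.low_eq {a c : Fin r → F} (hca : f₁ c a = 1) {m : GL ι F} (h : D.IsRad a m) {z : ι → F}
    (hz : D.cob a z = 0) : ∃ η, (m : Matrix ι ι F) *ᵥ z = z + T a η ∧
      ∀ y, k * f₂ η y = -(Qf z (D.Phi c m y)) := by
  obtain ⟨η, hη⟩ := h.low z hz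
  refine ⟨η, hη, fun y => ?_⟩
  have h1 := D.M_pol h.mem z (T c y)
  rw [show (m : Matrix ι ι F) *ᵥ T c y = T c y + D.Phi c m y by rw [D.Phi_apply]; abel, hη,
    padd_left D.hQ, padd_right D.hQ, padd_right D.hQ, pcomm (T a η) (D.Phi c m y),
    D.pol_cob a η, h.cob_Phi D c y, Orth.sym_zero_left D.s2, D.pol, D.s1.symm a c, hca] at h1
  linear_combination h1

theorem OO.IsRad.mul {a : Fin r → F} {m m' : GL ι F} (h : D.IsRad a m) (h' : D.IsRad a m') : D.IsRad a (m * m') where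
  mem := mul_mem h.mem h'.mem
  fix y := by rw [gl_mul_mulVec, h'.fix, h.fix]
  low z hz := by
    obtain ⟨η', hη'⟩ := h'.low z hz
    obtain ⟨η, hη⟩ := h.low z hz
    exact ⟨η + η', by rw [gl_mul_mulVec, hη', mulVec_add, hη, h.fix, tvec_add_right]; abel⟩
  quo z := by rw [gl_mul_mulVec, h.quo, h'.quo]

theorem OO.IsRad.inv {a : Fin r → F} {m : GL ι F} (h : D.IsRad a m) : D.IsRad a m⁻¹ where
  mem := inv_mem h.mem
  fix y := by conv_lhs => rw [← h.fix y, gl_inv_mulVec]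
  low z hz := by
    obtain ⟨η, hη⟩ := h.low z hz
    refine ⟨-η, ?_⟩
    have : z = (m : Matrix ι ι F) *ᵥ (z + T a (-η)) := by
      rw [mulVec_add, hη, h.fix, tvec_neg_right]; abel
    conv_lhs => rw [this, gl_inv_mulVec]
  quo z := by conv_rhs => rw [← gl_mulVec_inv m z, h.quo]

theorem OO.IsRad.one {a : Fin r → F} : D.IsRad a 1 where
  mem := one_mem M
  fix y := by rw [Units.val_one, one_mulVec]
  low z _ := ⟨0, by rw [Units.val_one, one_mulVec, tvec_zero_right, add_zero]⟩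
  quo z := by rw [Units.val_one, one_mulVec]

theorem OO.G_mul {a c w : Fin r → F} (hw : f₁ w a = 0) {m m' : GL ι F} (h : D.IsRad a m) (h' : D.IsRad a m')
    (y : Fin s → F) : D.cob w (D.Phi c (m * m') y) = D.cob w (D.Phi c m y) + D.cob w (D.Phi c m' y) := by
  obtain ⟨η, hη⟩ := h.low (D.Phi c m' y) (h'.cob_Phi D c y)
  rw [D.Phi_apply, gl_mul_mulVec, show (m' : Matrix ι ι F) *ᵥ T c y = T c y + D.Phi c m' y by rw [D.Phi_apply]; abel,
    mulVec_add, hη, map_sub, map_add, map_add, D.cob_tvec w a, D.s1.symm a w, hw, zero_smul, add_zero,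
    D.Phi_apply c m, map_sub]
  abel

theorem OO.G_inv {a c w : Fin r → F} (hw : f₁ w a = 0) {m : GL ι F} (h : D.IsRad a m)
    (y : Fin s → F) : D.cob w (D.Phi c m⁻¹ y) = -D.cob w (D.Phi c m y) := by
  have h1 := D.G_mul (c := c) hw (OO.IsRad.inv D h) h y
  rw [inv_mul_cancel, D.Phi_apply c 1, Units.val_one, one_mulVec, sub_self, map_zero] at h1
  exact eq_neg_of_add_eq_zero_left h1.symm

theorem OO.IsRad.conj {a c : Fin r → F} {m : GL ι F} (h : D.IsRad a m) {A : GL (Fin r) F} {B : GL (Fin s) F}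
    (hA : ∀ x x', f₁ ((A : Matrix (Fin r) (Fin r) F) *ᵥ x) ((A : Matrix (Fin r) (Fin r) F) *ᵥ x') = f₁ x x')
    (hM : kg e P A B ∈ M)
    (hAa : (A : Matrix (Fin r) (Fin r) F) *ᵥ a = a) (hAc : (A : Matrix (Fin r) (Fin r) F) *ᵥ c = c) :
    D.IsRad a (kg e P A B * m * (kg e P A B)⁻¹) ∧ ∀ w y,
      D.cob ((A : Matrix (Fin r) (Fin r) F) *ᵥ w)
        (D.Phi c (kg e P A B * m * (kg e P A B)⁻¹) ((B : Matrix (Fin s) (Fin s) F) *ᵥ y)) =
      (B : Matrix (Fin s) (Fin s) F) *ᵥ D.cob w (D.Phi c m y) := by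
  obtain ⟨g, hg⟩ : ∃ g, g = kg e P A B := ⟨_, rfl⟩
  rw [← hg] at hM
  have hcob : ∀ z, D.cob a ((g : Matrix ι ι F) *ᵥ z) = (B : Matrix (Fin s) (Fin s) F) *ᵥ D.cob a z := fun z => by
    conv_lhs => rw [← hAa, hg, D.cob_kg hA]
  have hga : ∀ y, (g : Matrix ι ι F) *ᵥ T a y = T a ((B : Matrix (Fin s) (Fin s) F) *ᵥ y) := fun y => by
    rw [hg, kg_tvec, hAa]
  rw [← hg]
  refine ⟨⟨mul_mem (mul_mem hM h.mem) (inv_mem hM), fun y => ?_, fun z hz => ?_, fun z => ?_⟩, fun w y => ?_⟩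
  · obtain ⟨y', rfl⟩ : ∃ y', y = (B : Matrix (Fin s) (Fin s) F) *ᵥ y' := ⟨_, (gl_mulVec_inv B y).symm⟩
    rw [gl_mul_mulVec, gl_mul_mulVec, ← hga, gl_inv_mulVec, h.fix]
  · obtain ⟨z', rfl⟩ : ∃ z', z = (g : Matrix ι ι F) *ᵥ z' := ⟨_, (gl_mulVec_inv g z).symm⟩
    rw [hcob, gl_mulVec_eq_zero] at hz
    obtain ⟨η, hη⟩ := h.low z' hz
    exact ⟨(B : Matrix (Fin s) (Fin s) F) *ᵥ η, by rw [gl_mul_mulVec, gl_mul_mulVec, gl_inv_mulVec, hη, mulVec_add, hga]⟩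
  · obtain ⟨z', rfl⟩ : ∃ z', z = (g : Matrix ι ι F) *ᵥ z' := ⟨_, (gl_mulVec_inv g z).symm⟩
    rw [gl_mul_mulVec, gl_mul_mulVec, gl_inv_mulVec, hcob, hcob, h.quo]
  · have hgc : (g : Matrix ι ι F) *ᵥ T c y = T c ((B : Matrix (Fin s) (Fin s) F) *ᵥ y) := by rw [hg, kg_tvec, hAc]
    rw [D.Phi_apply, D.Phi_apply, gl_mul_mulVec, gl_mul_mulVec, ← hgc, gl_inv_mulVec, ← mulVec_sub, hg,
      D.cob_kg hA]

/-- the displacements of two elements of the radical pair symmetrically -/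
theorem OO.IsRad.comm (hfull : ¬ omegaGL Q ≤ M) {a c : Fin r → F} (haa : f₁ a a = 0) (hca : f₁ c a = 1)
    {m m' : GL ι F} (h : D.IsRad a m) (h' : D.IsRad a m') (y y' : Fin s → F) :
    Qf (D.Phi c m y) (D.Phi c m' y') = Qf (D.Phi c m' y) (D.Phi c m y') := by
  have ha : a ≠ 0 := fun h => by rw [h, Orth.sym_zero_right D.s1] at hca; exact zero_ne_one hca
  have hac : f₁ a c = 1 := by rw [D.s1.symm, hca]
  have hpsi : ∀ {m : GL ι F}, D.IsRad a m → ∀ z, D.cob a z = 0 →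
      (m : Matrix ι ι F) *ᵥ z = z + T a (D.cob c ((m : Matrix ι ι F) *ᵥ z - z)) := fun {m} h z hz => by
    obtain ⟨η, hη⟩ := h.low z hz
    rw [hη, add_sub_cancel_left, D.cob_tvec, hac, one_smul]
  let S : (Fin s → F) →ₗ[F] (Fin s → F) :=
    (D.cob c).comp ((Matrix.mulVecLin (m : Matrix ι ι F) - LinearMap.id).comp (D.Phi c m')) -
      (D.cob c).comp ((Matrix.mulVecLin (m' : Matrix ι ι F) - LinearMap.id).comp (D.Phi c m))
  have hS : S ∈ D.cenSet a := by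
    refine ⟨m * m' * (m' * m)⁻¹, mul_mem (mul_mem h.mem h'.mem) (inv_mem (mul_mem h'.mem h.mem)), fun z' => ?_⟩
    obtain ⟨z, rfl⟩ : ∃ z, z' = ((m' * m : GL ι F) : Matrix ι ι F) *ᵥ z := ⟨_, (gl_mulVec_inv _ z').symm⟩
    rw [gl_mul_mulVec (m * m'), gl_inv_mulVec, (OO.IsRad.mul D h' h).quo]
    obtain ⟨z0, hz0, hz⟩ : ∃ z0, D.cob a z0 = 0 ∧ z = z0 + T c (D.cob a z) :=
      ⟨z - T c (D.cob a z), by rw [map_sub, D.cob_tvec, hca, one_smul, sub_self], (sub_add_cancel _ _).symm⟩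
    obtain ⟨y, hy⟩ : ∃ y, y = D.cob a z := ⟨_, rfl⟩
    rw [← hy] at hz ⊢
    rw [hz]
    have exp : ∀ {u v : GL ι F}, D.IsRad a u → D.IsRad a v → ((u * v : GL ι F) : Matrix ι ι F) *ᵥ (z0 + T c y) =
        z0 + T c y + D.Phi c u y + D.Phi c v y + T a ((D.cob c ((u : Matrix ι ι F) *ᵥ z0 - z0)) +
          (D.cob c ((v : Matrix ι ι F) *ᵥ z0 - z0)) +
          (D.cob c ((u : Matrix ι ι F) *ᵥ D.Phi c v y - D.Phi c v y))) := fun {u v} hu hv => by
      obtain ⟨q1, hq1⟩ : ∃ q, q = D.cob c ((u : Matrix ι ι F) *ᵥ z0 - z0) := ⟨_, rfl⟩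
      obtain ⟨q2, hq2⟩ : ∃ q, q = D.cob c ((v : Matrix ι ι F) *ᵥ z0 - z0) := ⟨_, rfl⟩
      obtain ⟨q3, hq3⟩ : ∃ q, q = D.cob c ((u : Matrix ι ι F) *ᵥ D.Phi c v y - D.Phi c v y) := ⟨_, rfl⟩
      have e1 := hpsi hu z0 hz0
      have e2 := hpsi hv z0 hz0
      have e3 := hpsi hu _ (hv.cob_Phi D c y)
      rw [← hq1] at e1 ⊢
      rw [← hq2] at e2 ⊢
      rw [← hq3] at e3 ⊢
      rw [gl_mul_mulVec, mulVec_add, e2,
        show (v : Matrix ι ι F) *ᵥ T c y = T c y + D.Phi c v y by rw [D.Phi_apply]; abel,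
        mulVec_add, mulVec_add, mulVec_add, e1, hu.fix,
        show (u : Matrix ι ι F) *ᵥ T c y = T c y + D.Phi c u y by
          rw [D.Phi_apply]; abel, e3, tvec_add_right, tvec_add_right]
      abel
    rw [exp h h', exp h' h]
    simp only [S, LinearMap.sub_apply, LinearMap.comp_apply,
      Matrix.mulVecLin_apply, LinearMap.id_apply, tvec_add_right, tvec_sub_right]
    abel
  have hS0 := D.cen_zero hfull ha haa hS
  have key : ∀ {m : GL ι F}, D.IsRad a m → ∀ z, D.cob a z = 0 → ∀ y',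
      k * f₂ (D.cob c ((m : Matrix ι ι F) *ᵥ z - z)) y' = -(Qf z (D.Phi c m y')) := fun {m} h z hz y' => by
    obtain ⟨η, hη, hη'⟩ := OO.IsRad.low_eq D hca h hz
    rw [hη, add_sub_cancel_left, D.cob_tvec, hac, one_smul, hη']
  have e := congrArg (fun x => k * f₂ x y') (LinearMap.congr_fun hS0 y)
  simp only [S, LinearMap.sub_apply, LinearMap.comp_apply, Matrix.mulVecLin_apply, LinearMap.id_apply,
    LinearMap.zero_apply, Orth.sym_sub_left D.s2, Orth.sym_zero_left D.s2, mul_zero, mul_sub] at e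
  rw [key h _ (h'.cob_Phi D c y), key h' _ (h.cob_Phi D c y)] at e
  linear_combination e

theorem OO.rad_eicL {a c w : Fin r → F} (haa : f₁ a a = 0) (hca : f₁ c a = 1) (hwa : f₁ w a = 0) :
    D.IsRad a (kg e P (eic D.s1 a w) (1 : GL (Fin s) F)) ∧
      ∀ y, D.Phi c (kg e P (eic D.s1 a w) (1 : GL (Fin s) F)) y =
        T w y - T a ((f₁ c w + f₁ w w / 2) • y) := by
  have hg := D.s1
  have haw : f₁ a w = 0 := by rw [hg.symm, hwa]
  refine ⟨⟨D.eicL_mem haa haw, fun y => ?_, fun z hz => ⟨-D.cob w z, ?_⟩, fun z => ?_⟩, fun y => ?_⟩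
  · rw [kg_tvec, eic_fix hg D.two haa haw haa haw, Units.val_one, one_mulVec]
  · rw [D.eicL_mulVec haa haw, hz, tvec_neg_right, tvec_zero_right, smul_zero, tvec_zero_right]
    abel
  · rw [D.eicL_mulVec haa haw, map_sub, map_sub, map_add, D.cob_tvec, hwa, zero_smul, D.cob_self haa,
      D.cob_self haa, add_zero, sub_zero, sub_zero]
  · rw [D.Phi_apply, D.eicL_mulVec haa haw, D.cob_tvec, D.cob_tvec, hca, one_smul, add_smul, tvec_add_right]
    abel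

theorem OO.G_self_adjoint (hfull : ¬ omegaGL Q ≤ M) {a c w : Fin r → F} (haa : f₁ a a = 0) (hca : f₁ c a = 1)
    (hwa : f₁ w a = 0) {m : GL ι F} (h : D.IsRad a m) (y y' : Fin s → F) :
    f₂ (D.cob w (D.Phi c m y)) y' = f₂ y (D.cob w (D.Phi c m y')) := by
  obtain ⟨hu, huP⟩ := D.rad_eicL haa hca hwa
  have h1 := OO.IsRad.comm D hfull haa hca h hu y y'
  rw [huP, huP, pcomm (T w y - _) (D.Phi c m y'), psub_right D.hQ, psub_right D.hQ, D.pol_cob, D.pol_cob, D.pol_cob,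
    D.pol_cob, h.cob_Phi D c y, h.cob_Phi D c y', Orth.sym_zero_left D.s2, Orth.sym_zero_left D.s2, mul_zero,
    sub_zero, sub_zero] at h1
  rw [mul_left_cancel₀ D.kne h1, D.s2.symm]

/-- a contraction of the displacement proportional to `z ↦ f(z, b) b` is impossible -/
theorem OO.no_rank_one (hfull : ¬ omegaGL Q ≤ M) {a c : Fin r → F} (haa : f₁ a a = 0) (hcc : f₁ c c = 0)
    (hca : f₁ c a = 1) {m : GL ι F} (h : D.IsRad a m) {x0 : Fin r → F} (hx0 : x0 ≠ 0) (hx0a : f₁ x0 a = 0)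
    (hx0c : f₁ x0 c = 0) {b p : Fin s → F} (hbb : f₂ b b = 0) (hpp : f₂ p p = 0) (hpb : f₂ p b = 1)
    (hG : ∀ w, f₁ w a = 0 → ∀ y, D.cob w (D.Phi c m y) = (f₁ w x0 * f₂ y b) • b) : False := by
  have h2 := D.two
  have hg₁ := D.s1
  have hg := D.s2
  have hbp : f₂ b p = 1 := by rw [hg.symm, hpb]
  have hdim := pair_finrank hg (⊤ : Submodule F (Fin s → F)) b p
  rw [top_finrank hg, Fintype.card_fin] at hdim
  obtain ⟨y0, hy0, hy00⟩ := nd_aniso hg h2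
    (nd_perp_pair hg (nd_top hg) Submodule.mem_top Submodule.mem_top hbb hpp hpb) (by have := D.s3; omega)
  have hy0b : f₂ y0 b = 0 := hy0.1.2
  have hy0p : f₂ y0 p = 0 := hy0.2
  have hpy0 : f₂ p y0 = 0 := by rw [hg.symm, hy0p]
  obtain ⟨B, hBdef⟩ : ∃ B, B = eic hg p y0 := ⟨_, rfl⟩
  have hBiso := eic_iso hg h2 hpp hpy0
  rw [← hBdef] at hBiso
  obtain ⟨A, hAiso, hAM, hAa, hAc, hAx⟩ : ∃ A : GL (Fin r) F,
      (∀ x x', f₁ ((A : Matrix (Fin r) (Fin r) F) *ᵥ x) ((A : Matrix (Fin r) (Fin r) F) *ᵥ x') = f₁ x x') ∧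
      kg e P A (1 : GL (Fin s) F) ∈ M ∧ (A : Matrix (Fin r) (Fin r) F) *ᵥ a = a ∧
      (A : Matrix (Fin r) (Fin r) F) *ᵥ c = c ∧ f₁ x0 ((A : Matrix (Fin r) (Fin r) F) *ᵥ x0) ≠ 0 := by
    by_cases hxx : f₁ x0 x0 = 0
    swap
    · exact ⟨1, fun x x' => by simp, by rw [kg_one]; exact one_mem M, by simp, by simp, by simpa using hxx⟩
    have hLnd : Nd f₁ (perp hg₁ (perp hg₁ ⊤ a) c) :=
      nd_perp_pair hg₁ (nd_top hg₁) Submodule.mem_top Submodule.mem_top haa hcc hca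
    have hx0L : x0 ∈ perp hg₁ (perp hg₁ ⊤ a) c := mem_perp.2 ⟨mem_perp.2 ⟨trivial, hx0a⟩, hx0c⟩
    obtain ⟨z0, hz0, hzz, hzx⟩ := nd_partner hg₁ h2 hLnd hx0L hx0 hxx
    have hac : f₁ a c = 1 := by rw [hg₁.symm, hca]
    have hli : LinearIndependent F ![a, c, x0, z0] := by
      refine Fintype.linearIndependent_iff.2 fun g hsum => ?_
      simp only [Fin.sum_univ_four] at hsum
      have hza : f₁ z0 a = 0 := hz0.1.2
      have hzc : f₁ z0 c = 0 := hz0.2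
      have e1 := congrArg (fun w => f₁ w c) hsum
      have e2 := congrArg (fun w => f₁ w a) hsum
      have e3 := congrArg (fun w => f₁ w z0) hsum
      have e4 := congrArg (fun w => f₁ w x0) hsum
      simp [hg₁.bilinear.add_left, hg₁.bilinear.smul_left, haa, hcc, hca, hac, hx0a, hx0c, hxx, hzz, hzx, hza, hzc,
        Orth.sym_zero_left hg₁, hg₁.symm x0 z0, hg₁.symm a z0, hg₁.symm c z0, hg₁.symm a x0, hg₁.symm c x0]
        at e1 e2 e3 e4
      intro i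
      fin_cases i
      · simpa using e1
      · simpa using e2
      · simpa using e3
      · simpa using e4
    have h4 := hli.fintype_card_le_finrank
    simp at h4
    have hd := pair_finrank hg₁ (⊤ : Submodule F (Fin r → F)) a c
    rw [top_finrank hg₁, Fintype.card_fin] at hd
    have hd2 := pair_finrank hg₁ (perp hg₁ (perp hg₁ (⊤ : Submodule F (Fin r → F)) a) c) x0 z0
    obtain ⟨y, hy, hyy⟩ := nd_aniso hg₁ h2 (nd_perp_pair hg₁ hLnd hx0L hz0 hxx hzz hzx)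
      (by
        rcases D.r4 with h4 | h4
        · omega
        · exfalso
          obtain ⟨l, hl⟩ := h4 a x0 haa hxx (by rw [hg₁.symm, hx0a])
            (fun ha => by rw [ha, Orth.sym_zero_right hg₁] at hca; exact zero_ne_one hca)
          rw [hl, hg₁.bilinear.smul_left, hac, mul_one] at hx0c
          exact hx0 (by rw [hl, hx0c, zero_smul]))
    have hzy : f₁ z0 y = 0 := by rw [hg₁.symm]; exact hy.2
    have hxy : f₁ x0 y = 0 := by rw [hg₁.symm]; exact hy.1.2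
    refine ⟨eic hg₁ z0 y, eic_iso hg₁ h2 hzz hzy, D.eicL_mem hzz hzy,
      eic_fix hg₁ h2 hzz hzy (by rw [hg₁.symm]; exact hz0.1.2) (by rw [hg₁.symm]; exact hy.1.1.1.2),
      eic_fix hg₁ h2 hzz hzy (by rw [hg₁.symm]; exact hz0.2) (by rw [hg₁.symm]; exact hy.1.1.2), ?_⟩
    rw [eic_mulVec hg₁ h2 hzz hzy]
    simp only [Orth.sym_sub_right hg₁, hg₁.bilinear.add_right, hg₁.bilinear.smul_right, hxx, hxy,
      hg₁.symm x0 z0, hzx]
    simpa using div_ne_zero hyy h2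
  have hgM : kg e P A B ∈ M := by
    have := mul_mem hAM (hBdef ▸ D.eicR_mem hpp hpy0 : kg e P (1 : GL (Fin r) F) B ∈ M)
    rwa [kg_mul, mul_one, one_mul] at this
  obtain ⟨h', hG'⟩ := OO.IsRad.conj D h (c := c) hAiso hgM hAa hAc
  obtain ⟨m', hm'⟩ : ∃ m', m' = kg e P A B * m * (kg e P A B)⁻¹ := ⟨_, rfl⟩
  rw [← hm'] at h' hG'
  obtain ⟨b', hb'⟩ : ∃ b', b' = (B : Matrix (Fin s) (Fin s) F) *ᵥ b := ⟨_, rfl⟩
  obtain ⟨x0', hx0'⟩ : ∃ x0', x0' = (A : Matrix (Fin r) (Fin r) F) *ᵥ x0 := ⟨_, rfl⟩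
  have hx0'a : f₁ x0' a = 0 := by rw [hx0', ← hAa, hAiso, hx0a]
  have link : ∀ {n : GL ι F} {x1 : Fin r → F} {b1 : Fin s → F},
      (∀ w, f₁ w a = 0 → ∀ y, D.cob w (D.Phi c n y) = (f₁ w x1 * f₂ y b1) • b1) →
      ∀ z, D.cob a z = 0 → ∀ y, Qf z (D.Phi c n y) = Qf z (T x1 (f₂ y b1 • b1)) := fun {n x1 b1} hn z hz y => by
    refine D.ker_ext hca (L := pfl D.hQ (D.Phi c n y)) (L' := pfl D.hQ (T x1 (f₂ y b1 • b1))) (fun w y'' hwa => ?_) hz
    show Qf (T w y'') (D.Phi c n y) = Qf (T w y'') (T x1 (f₂ y b1 • b1))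
    rw [pcomm (T w y''), D.pol_cob, hn w hwa, D.pol, hg.bilinear.smul_left, hg.bilinear.smul_right, hg.symm y'' b1]
    ring
  have hn' : ∀ w, f₁ w a = 0 → ∀ y, D.cob w (D.Phi c m' y) = (f₁ w x0' * f₂ y b') • b' := by
    intro w hwa y
    obtain ⟨w', rfl⟩ : ∃ w', w = (A : Matrix (Fin r) (Fin r) F) *ᵥ w' := ⟨_, (gl_mulVec_inv A w).symm⟩
    obtain ⟨y', rfl⟩ : ∃ y', y = (B : Matrix (Fin s) (Fin s) F) *ᵥ y' := ⟨_, (gl_mulVec_inv B y).symm⟩
    rw [← hAa, hAiso] at hwa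
    rw [hG', hG w' hwa, hx0', hb', hAiso, hBiso, mulVec_smul]
  have hval : ∀ y y', f₂ y b * f₂ y' b' * (k * f₁ x0 x0' * f₂ b b') =
      f₂ y b' * f₂ y' b * (k * f₁ x0 x0' * f₂ b b') := by
    intro y y'
    have h1 := OO.IsRad.comm D hfull haa hca h h' y y'
    rw [link hn' _ (h.cob_Phi D c y) y', pcomm, link hG _ (by rw [D.cob_tvec, hx0'a, zero_smul]) y,
      link hG _ (h'.cob_Phi D c y) y', pcomm (D.Phi c m' y), link hn' _ (by rw [D.cob_tvec, hx0a, zero_smul]) y,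
      D.pol, D.pol] at h1
    simp only [hg.bilinear.smul_left, hg.bilinear.smul_right, hg₁.symm x0' x0, hg.symm b' b] at h1
    linear_combination h1
  have hbb' : f₂ b b' = -(f₂ y0 y0 / 2) := by
    rw [hb', hBdef, eic_mulVec hg h2 hpp hpy0, hbp, hg.symm b y0, hy0b]
    simp only [Orth.sym_sub_right hg, hg.bilinear.add_right, hg.bilinear.smul_right, hbb, hbp, hg.symm b y0, hy0b]
    ring
  have hbb'0 : f₂ b b' ≠ 0 := hbb' ▸ neg_ne_zero.2 (div_ne_zero hy00 h2)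
  have h3 := hval p b
  rw [hpb, hbb, mul_zero, zero_mul, one_mul] at h3
  exact mul_ne_zero hbb'0 (mul_ne_zero (mul_ne_zero D.kne (hx0' ▸ hAx)) hbb'0) h3

/-- the contractions of the displacement are scalar -/
theorem OO.G_scalar (hfull : ¬ omegaGL Q ≤ M) {a c : Fin r → F} (haa : f₁ a a = 0) (hcc : f₁ c c = 0)
    (hca : f₁ c a = 1) {m : GL ι F} (h : D.IsRad a m) {w : Fin r → F} (hwa : f₁ w a = 0) :
    ∃ l : F, ∀ y, D.cob w (D.Phi c m y) = l • y := by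
  classical
  have hg := D.s2
  have h2 := D.two
  obtain ⟨pc, hpc, hc, -⟩ := D.exists_char
  haveI := hc
  haveI : Fact pc.Prime := ⟨hpc⟩
  by_contra hns
  let phi : GL ι F → ({w : Fin r → F // f₁ w a = 0} → (Fin s → F) → (Fin s → F) → F) := fun m w y z =>
    f₂ (D.cob w.1 (D.Phi c m y)) z * f₂ y y - f₂ (D.cob w.1 (D.Phi c m y)) y * f₂ y z
  have hscal : ∀ {n}, D.IsRad a n → phi n = 0 → ∀ w, f₁ w a = 0 → ∃ l : F, ∀ y, D.cob w (D.Phi c n y) = l • y := by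
    intro n hn hphi w hwa
    refine eigen_scalar D.s3 hg h2 (S := (D.cob w).comp (D.Phi c n)) fun d hd =>
      ⟨f₂ (D.cob w (D.Phi c n d)) d / f₂ d d, sub_eq_zero.1 (sym_eq_zero hg fun z => ?_)⟩
    have h1 := congrFun (congrFun (congrFun hphi ⟨w, hwa⟩) d) z
    simp only [phi, Pi.zero_apply] at h1
    rw [LinearMap.comp_apply, Orth.sym_sub_left hg, hg.bilinear.smul_left]
    field_simp
    linear_combination h1
  have hne : phi m ≠ 0 := fun h0 => hns (hscal h h0 w hwa)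
  have hadd : ∀ {n n'}, D.IsRad a n → D.IsRad a n' → phi (n * n') = phi n + phi n' := fun {n n'} hn hn' => by
    funext w y z
    simp only [phi, Pi.add_apply]
    rw [D.G_mul w.2 hn hn', hg.bilinear.add_left, hg.bilinear.add_left]
    ring
  have hinv : ∀ {n}, D.IsRad a n → phi n⁻¹ = -phi n := fun {n} hn => by
    funext w y z
    simp only [phi, Pi.neg_apply]
    rw [D.G_inv w.2 hn, Orth.sym_neg_left hg, Orth.sym_neg_left hg]
    ring
  have hphi1 : phi 1 = 0 := by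
    funext w y z
    simp only [phi, Pi.zero_apply]
    rw [D.Phi_apply, Units.val_one, one_mulVec, sub_self, map_zero, Orth.sym_zero_left hg, Orth.sym_zero_left hg]
    ring
  obtain ⟨b, -, hb0, hbb⟩ := nd_singular hg h2 (nd_top hg)
    (by rw [top_finrank hg, Fintype.card_fin]; exact D.s3)
  obtain ⟨p, -, hpp, hpb⟩ := nd_partner hg h2 (nd_top hg) Submodule.mem_top hb0 hbb
  have hbp : f₂ b p = 1 := by rw [hg.symm, hpb]
  let G : Subgroup (GL (Fin s) F) :=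
    { carrier := {g | ∃ y, f₂ b y = 0 ∧ g = eic hg b y}
      one_mem' := ⟨0, Orth.sym_zero_right hg b, (eic_zero hg h2 hbb).symm⟩
      mul_mem' := fun {g g'} ⟨y, hy, hgy⟩ ⟨y', hy', hgy'⟩ =>
        ⟨y + y', by rw [hg.bilinear.add_right, hy, hy', add_zero], by rw [hgy, hgy', eic_mul hg h2 hbb hy hy']⟩
      inv_mem' := fun {g} ⟨y, hy, hgy⟩ =>
        ⟨-y, by rw [Orth.sym_neg_right hg, hy, neg_zero], inv_eq_of_mul_eq_one_right (by
          rw [hgy, eic_mul hg h2 hbb hy (by rw [Orth.sym_neg_right hg, hy, neg_zero]), add_neg_cancel,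
            eic_zero hg h2 hbb])⟩ }
  have hG : IsPGroup pc G := fun ⟨g, hgG⟩ => by
    obtain ⟨y, hy, rfl⟩ := hgG
    exact ⟨1, Subtype.ext (by simpa using eic_pow_char hg h2 hbb hy)⟩
  let act : G → ({w : Fin r → F // f₁ w a = 0} → (Fin s → F) → (Fin s → F) → F) →
      ({w : Fin r → F // f₁ w a = 0} → (Fin s → F) → (Fin s → F) → F) := fun g φ w y z =>
    φ w ((((g : GL (Fin s) F)⁻¹ : GL (Fin s) F) : Matrix (Fin s) (Fin s) F) *ᵥ y)
      ((((g : GL (Fin s) F)⁻¹ : GL (Fin s) F) : Matrix (Fin s) (Fin s) F) *ᵥ z)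
  have hconj : ∀ {n}, D.IsRad a n → ∀ g : G, ∃ n', D.IsRad a n' ∧ phi n' = act g (phi n) ∧
      ∀ w, f₁ w a = 0 → ∀ y, D.cob w (D.Phi c n' (((g : GL (Fin s) F) : Matrix (Fin s) (Fin s) F) *ᵥ y)) =
        ((g : GL (Fin s) F) : Matrix (Fin s) (Fin s) F) *ᵥ D.cob w (D.Phi c n y) := by
    intro n hn g
    obtain ⟨y0, hy0, hgy⟩ := g.2
    have hB : ∀ y y', f₂ (((g : GL (Fin s) F) : Matrix (Fin s) (Fin s) F) *ᵥ y)
        (((g : GL (Fin s) F) : Matrix (Fin s) (Fin s) F) *ᵥ y') = f₂ y y' := by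
      rw [hgy]; exact eic_iso hg h2 hbb hy0
    obtain ⟨hn', hG'⟩ := OO.IsRad.conj D hn (A := 1) (B := (g : GL (Fin s) F)) (c := c) (fun x x' => by simp)
      (hgy ▸ D.eicR_mem hbb hy0) (by simp) (by simp)
    refine ⟨_, hn', ?_, fun w _ y => ?_⟩
    · funext w y z
      obtain ⟨y', rfl⟩ : ∃ y', y = ((g : GL (Fin s) F) : Matrix (Fin s) (Fin s) F) *ᵥ y' :=
        ⟨_, (gl_mulVec_inv _ y).symm⟩
      obtain ⟨z', rfl⟩ : ∃ z', z = ((g : GL (Fin s) F) : Matrix (Fin s) (Fin s) F) *ᵥ z' :=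
        ⟨_, (gl_mulVec_inv _ z).symm⟩
      have h1 := hG' w.1 y'
      rw [Units.val_one, one_mulVec] at h1
      simp only [phi, act, gl_inv_mulVec]
      rw [h1, hB, hB, hB, hB]
    · have h1 := hG' w y
      rwa [Units.val_one, one_mulVec] at h1
  obtain ⟨φ, ⟨n, hn, rfl⟩, hφ0, hfix⟩ := exists_fixed hG
    (fun v => by rw [← Nat.cast_smul_eq_nsmul F, CharP.cast_eq_zero, zero_smul])
    { carrier := {φ | ∃ n, D.IsRad a n ∧ φ = phi n}
      zero_mem' := ⟨1, OO.IsRad.one D, hphi1.symm⟩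
      add_mem' := fun {x x'} ⟨n, hn, hx⟩ ⟨n', hn', hx'⟩ =>
        ⟨n * n', OO.IsRad.mul D hn hn', by rw [hadd hn hn', hx, hx']⟩
      neg_mem' := fun {x} ⟨n, hn, hx⟩ => ⟨n⁻¹, OO.IsRad.inv D hn, by rw [hinv hn, hx]⟩ }
    act (fun φ => by funext w y z; simp [act]) (fun g g' φ => by
      funext w y z
      simp only [act, Subgroup.coe_mul, _root_.mul_inv_rev, gl_mul_mulVec])
    (fun g => by funext w y z; simp [act]) (fun g φ ⟨n, hn, hφ⟩ => by
      obtain ⟨n', hn', h', -⟩ := hconj hn g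
      exact ⟨n', hn', by rw [h', hφ]⟩) ⟨phi m, ⟨m, h, rfl⟩, hne⟩
  have hshape : ∀ w, f₁ w a = 0 → ∃ lam μ : F, ∀ y, D.cob w (D.Phi c n y) = lam • y + (μ * f₂ y b) • b := by
    intro w hwa
    refine fixed_shape hg h2 D.s3 D.shex hbb hpp hpb (G := (D.cob w).comp (D.Phi c n))
      (fun y y' => D.G_self_adjoint hfull haa hca hwa hn y y') fun y hy => ?_
    obtain ⟨n', hn', h', hG'⟩ := hconj hn ⟨eic hg b y, y, hy, rfl⟩
    rw [hfix] at h'
    obtain ⟨l, hl⟩ := hscal (OO.IsRad.mul D hn' (OO.IsRad.inv D hn))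
      (by rw [hadd hn' (OO.IsRad.inv D hn), hinv hn, h', add_neg_cancel]) w hwa
    refine ⟨l, fun z => ?_⟩
    have h1 := hl ((eic hg b y : Matrix (Fin s) (Fin s) F) *ᵥ z)
    rw [D.G_mul hwa hn' (OO.IsRad.inv D hn), D.G_inv hwa hn, hG' w hwa z] at h1
    show (eic hg b y : Matrix (Fin s) (Fin s) F) *ᵥ D.cob w (D.Phi c n z) =
      D.cob w (D.Phi c n ((eic hg b y : Matrix (Fin s) (Fin s) F) *ᵥ z)) + _
    rw [← h1]
    abel
  obtain ⟨Lf, hLf⟩ : ∃ Lf : (Fin s → F) → (Fin r → F) →ₗ[F] F,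
      ∀ q w, Lf q w = f₂ (D.cob w (D.Phi c n p)) q :=
    ⟨fun q =>
      { toFun := fun w => f₂ (D.cob w (D.Phi c n p)) q
        map_add' := fun w w' => by rw [D.cob_add_left, hg.bilinear.add_left]
        map_smul' := fun t w => by rw [D.cob_smul_left, hg.bilinear.smul_left]; rfl }, fun q w => rfl⟩
  have hval : ∀ w, f₁ w a = 0 → ∀ y, D.cob w (D.Phi c n y) = Lf b w • y + (Lf p w * f₂ y b) • b := by
    intro w hwa y
    obtain ⟨lam, μ, hl⟩ := hshape w hwa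
    rw [hLf, hLf, hl p, hl y, hg.bilinear.add_left, hg.bilinear.add_left, hg.bilinear.smul_left,
      hg.bilinear.smul_left, hg.bilinear.smul_left, hg.bilinear.smul_left, hpb, hbb, hpp, hbp]
    match_scalars <;> ring
  obtain ⟨w0, hw0⟩ := Orth.exists_rep D.s1 (fvec (Lf b))
  obtain ⟨x1, hx1⟩ := Orth.exists_rep D.s1 (fvec (Lf p))
  simp only [fvec_dot] at hw0 hx1
  have hz : ∀ q, Lf q a = 0 := fun q => by rw [hLf, hn.cob_Phi D c, Orth.sym_zero_left hg]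
  have hw0a : f₁ w0 a = 0 := by rw [D.s1.symm, hw0, hz]
  obtain ⟨x0, hx0⟩ : ∃ x0, x0 = x1 - f₁ x1 c • a := ⟨_, rfl⟩
  have hx0a : f₁ x0 a = 0 := by
    rw [hx0, Orth.sym_sub_left D.s1, D.s1.bilinear.smul_left, haa, D.s1.symm x1 a, hx1, hz, mul_zero, sub_zero]
  have hx0c : f₁ x0 c = 0 := by
    rw [hx0, Orth.sym_sub_left D.s1, D.s1.bilinear.smul_left, D.s1.symm a c, hca, mul_one, sub_self]
  obtain ⟨hu, huP⟩ := D.rad_eicL haa hca hw0a
  obtain ⟨u, hudef⟩ : ∃ u, u = kg e P (eic D.s1 a w0) (1 : GL (Fin s) F) := ⟨_, rfl⟩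
  rw [← hudef] at hu huP
  have hx00 : x0 ≠ 0 := by
    intro h0
    refine hφ0 (funext fun w => funext fun y => funext fun z => ?_)
    have hp : Lf p w.1 = 0 := by
      have h1 : f₁ w.1 x0 = Lf p w.1 := by
        rw [hx0, Orth.sym_sub_right D.s1, D.s1.bilinear.smul_right, w.2, mul_zero, sub_zero, hx1]
      rw [← h1, h0, Orth.sym_zero_right D.s1]
    show f₂ (D.cob w.1 (D.Phi c n y)) z * f₂ y y - f₂ (D.cob w.1 (D.Phi c n y)) y * f₂ y z = 0
    rw [hval w.1 w.2, hp, zero_mul, zero_smul, add_zero, hg.bilinear.smul_left, hg.bilinear.smul_left]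
    ring
  refine D.no_rank_one hfull haa hcc hca (OO.IsRad.mul D (OO.IsRad.inv D hu) hn) hx00 hx0a hx0c hbb hpp hpb
    fun w hwa y => ?_
  rw [D.G_mul hwa (OO.IsRad.inv D hu) hn, D.G_inv hwa hu, huP, map_sub, D.cob_tvec, D.cob_tvec, D.s1.symm a w, hwa,
    zero_smul, sub_zero, hval w hwa, hx0, Orth.sym_sub_right D.s1, D.s1.bilinear.smul_right, hwa, mul_zero, sub_zero,
    hx1, D.s1.symm w0 w, hw0, neg_add_cancel_left]

/-- the radical consists of Eichler transformations of the first factor -/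
theorem OO.rad_eq (hfull : ¬ omegaGL Q ≤ M) {a c : Fin r → F} (haa : f₁ a a = 0) (hcc : f₁ c c = 0)
    (hca : f₁ c a = 1) {m : GL ι F} (h : D.IsRad a m) :
    ∃ w, f₁ w a = 0 ∧ m = kg e P (eic D.s1 a w) (1 : GL (Fin s) F) := by
  have hg := D.s2
  have ha : a ≠ 0 := fun h => by rw [h, Orth.sym_zero_right D.s1] at hca; exact zero_ne_one hca
  have hac : f₁ a c = 1 := by rw [D.s1.symm, hca]
  obtain ⟨y0, y1, hy⟩ := D.swap.exists_pair₁
  let L : (Fin r → F) →ₗ[F] F :=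
    { toFun := fun w => f₂ (D.cob w (D.Phi c m y0)) y1
      map_add' := fun w w' => by rw [D.cob_add_left, hg.bilinear.add_left]
      map_smul' := fun t w => by rw [D.cob_smul_left, hg.bilinear.smul_left]; rfl }
  obtain ⟨w0, hw0⟩ := Orth.exists_rep D.s1 (fvec L)
  simp only [fvec_dot] at hw0
  have hw0a : f₁ w0 a = 0 := by
    rw [D.s1.symm, hw0]
    show f₂ (D.cob a (D.Phi c m y0)) y1 = 0
    rw [h.cob_Phi D c, Orth.sym_zero_left hg]
  obtain ⟨hu, huP⟩ := D.rad_eicL haa hca hw0a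
  obtain ⟨u, hudef⟩ : ∃ u, u = kg e P (eic D.s1 a w0) (1 : GL (Fin s) F) := ⟨_, rfl⟩
  rw [← hudef] at hu huP
  obtain ⟨m', hm'⟩ : ∃ m', m' = u⁻¹ * m := ⟨_, rfl⟩
  have hm'r : D.IsRad a m' := hm' ▸ OO.IsRad.mul D (OO.IsRad.inv D hu) h
  have hG0 : ∀ x, f₁ x a = 0 → ∀ y, D.cob x (D.Phi c m' y) = 0 := fun x hxa y => by
    obtain ⟨l, hl⟩ := D.G_scalar hfull haa hcc hca h hxa
    have hlx : f₁ x w0 = l := by
      rw [hw0]
      show f₂ (D.cob x (D.Phi c m y0)) y1 = l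
      rw [hl, hg.bilinear.smul_left, hy, mul_one]
    rw [hm', D.G_mul hxa (OO.IsRad.inv D hu) h, D.G_inv hxa hu, huP, map_sub, D.cob_tvec, D.cob_tvec,
      D.s1.symm a x, hxa, zero_smul, sub_zero, hl, D.s1.symm w0 x, hlx, neg_add_cancel]
  have hvec : ∀ y, D.Phi c m' y = T a (D.cob c (D.Phi c m' y)) := fun y => by
    refine sub_eq_zero.1 (D.eq_zero_of_cob fun x => ?_)
    have hx : x = (x - f₁ x a • c) + f₁ x a • c := (sub_add_cancel _ _).symm
    have hxa : f₁ (x - f₁ x a • c) a = 0 := by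
      rw [Orth.sym_sub_left D.s1, D.s1.bilinear.smul_left, hca, mul_one, sub_self]
    rw [hx, D.cob_add_left, D.cob_smul_left, map_sub, map_sub, hG0 _ hxa, D.cob_tvec, D.cob_tvec,
      D.s1.symm a (x - _), hxa, hac]
    simp
  have hz0fix : ∀ z0, D.cob a z0 = 0 → (m' : Matrix ι ι F) *ᵥ z0 = z0 := fun z0 hz0 => by
    obtain ⟨η, hη, hη'⟩ := OO.IsRad.low_eq D hca hm'r hz0
    rw [hη, show η = 0 from sym_eq_zero hg fun y => mul_left_cancel₀ D.kne (by
      rw [hη', mul_zero, hvec y, D.pol_cob, hz0, Orth.sym_zero_left hg, mul_zero, neg_zero]), tvec_zero_right, add_zero]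
  have hdec : ∀ z, (m' : Matrix ι ι F) *ᵥ z = z + T a (((D.cob c).comp (D.Phi c m')) (D.cob a z)) := fun z => by
    obtain ⟨z0, hz0, hzd⟩ : ∃ z0, D.cob a z0 = 0 ∧ z = z0 + T c (D.cob a z) :=
      ⟨z - T c (D.cob a z), by rw [map_sub, D.cob_tvec, hca, one_smul, sub_self], (sub_add_cancel _ _).symm⟩
    conv_lhs => rw [hzd, mulVec_add, hz0fix z0 hz0,
      show (m' : Matrix ι ι F) *ᵥ T c (D.cob a z) = T c (D.cob a z) + D.Phi c m' (D.cob a z) by
        rw [D.Phi_apply]; abel, ← add_assoc, ← hzd, hvec]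
    rfl
  have hS := D.cen_zero hfull ha haa ⟨m', hm'r.mem, hdec⟩
  have hone : m' = 1 := gl_ext_vec fun z => by
    rw [hdec, hS, LinearMap.zero_apply, tvec_zero_right, add_zero, Units.val_one, one_mulVec]
  refine ⟨w0, hw0a, ?_⟩
  rw [← hudef, ← mul_inv_cancel_left u m, ← hm', hone, mul_one]

end CfsgLib.Perm.Trans.TensorOO
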