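import Mathlib
import Cfsg.Agent.Lib.Perm.Trans.TensorOO.Radical

/-!
# Rigidity of singular pure subspaces and recognition of conjugate Eichler transformations
-/

set_option autoImplicit false
set_option linter.all false

namespace CfsgLib.Perm.Trans.TensorOO

open scoped Matrix
open Matrix Cfsg.Geo CfsgLib.Perm.Asch CfsgLib.Perm.Trans CfsgLib.Perm.Trans.TensorFrame
open CfsgLib.Perm.Trans.TensorMax CfsgLib.Perm.Trans.Quad CfsgLib.Perm.Trans.TensorSO

variable {ι : Type} [Fintype ι] [DecidableEq ι] {F : Type*} [Field F] [Fintype F] {r s : ℕ}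
variable {e : ι ≃ Fin r × Fin s} {P : GL ι F}
variable {Q : (ι → F) → F} {f₁ : (Fin r → F) → (Fin r → F) → F} {f₂ : (Fin s → F) → (Fin s → F) → F}
variable {k : F} {M : Subgroup (GL ι F)}

local notation "T" => tvec e P
local notation "Qf" => QuadraticMap.polar Q

variable (D : OO Q f₁ f₂ e P k M)
include D

/-- elements of `M` mapping a singular pure subspace to a pure subspace lie in the tensor product subgroup -/
theorem OO.pure_rigid (hfull : ¬ omegaGL Q ≤ M) {g : GL ι F} (hg : g ∈ M) {a a' : Fin r → F} (ha : a ≠ 0)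
    (haa : f₁ a a = 0) (ha' : a' ≠ 0) (hmap : ∀ y, ∃ y', (g : Matrix ι ι F) *ᵥ T a y = T a' y') :
    g ∈ tensorProductSubgroup r s e P := by
  have hg₁ := D.s1
  have hg₂ := D.s2
  have h2 := D.two
  obtain ⟨γ, hγ⟩ := exists_dot_one ha'
  let C : (Fin s → F) →ₗ[F] (Fin s → F) :=
    (rc e P γ).comp ((Matrix.mulVecLin (g : Matrix ι ι F)).comp (tL e P a))
  have hC : ∀ y, (g : Matrix ι ι F) *ᵥ T a y = T a' (C y) := fun y => by
    obtain ⟨y', hy'⟩ := hmap y
    rw [show C y = rc e P γ ((g : Matrix ι ι F) *ᵥ T a y) from rfl, hy', rc_tvec, hγ, one_smul]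
  have hCinj : Function.Injective C := (injective_iff_map_eq_zero C).2 fun y hy => by
    have h1 := hC y
    rw [hy, tvec_zero_right, gl_mulVec_eq_zero] at h1
    exact tvec_right_inj ha (h1.trans (tvec_zero_right a).symm)
  have hCsurj := LinearMap.injective_iff_surjective.1 hCinj
  obtain ⟨z1, z2, hz12⟩ := D.swap.exists_pair₁
  have ha'a' : f₁ a' a' = 0 := by
    obtain ⟨y1, hy1⟩ := hCsurj z1
    obtain ⟨y2, hy2⟩ := hCsurj z2
    have h := D.M_pol hg (T a y1) (T a y2)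
    rw [hC, hC, hy1, hy2, D.pol, D.pol, hz12, haa, zero_mul, mul_one, mul_zero] at h
    exact (mul_eq_zero.1 h).resolve_left D.kne
  obtain ⟨c, -, hcc, hca⟩ := nd_partner hg₁ h2 (nd_top hg₁) Submodule.mem_top ha haa
  obtain ⟨c', -, hcc', hca'⟩ := nd_partner hg₁ h2 (nd_top hg₁) Submodule.mem_top ha' ha'a'
  have hac : f₁ a c = 1 := by rw [hg₁.symm, hca]
  have hac' : f₁ a' c' = 1 := by rw [hg₁.symm, hca']
  let C' : (Fin s → F) →ₗ[F] (Fin s → F) :=
    (D.cob a').comp ((Matrix.mulVecLin (g : Matrix ι ι F)).comp (tL e P c))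
  have hC'v : ∀ y, C' y = D.cob a' ((g : Matrix ι ι F) *ᵥ T c y) := fun y => rfl
  have hadj : ∀ z y, f₂ (D.cob a' ((g : Matrix ι ι F) *ᵥ z)) (C y) = f₂ (D.cob a z) y := fun z y => by
    have h1 := D.M_pol hg z (T a y)
    rw [hC, D.pol_cob, D.pol_cob] at h1
    exact mul_left_cancel₀ D.kne h1
  have hquo : ∀ z, D.cob a' ((g : Matrix ι ι F) *ᵥ z) = C' (D.cob a z) := fun z => by
    refine sub_eq_zero.1 (sym_eq_zero hg₂ fun y => ?_)
    obtain ⟨y', rfl⟩ := hCsurj y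
    rw [Orth.sym_sub_left hg₂, hadj, hC'v, hadj, D.cob_tvec, hca, one_smul, sub_self]
  have hC'inj : Function.Injective C' := (injective_iff_map_eq_zero C').2 fun y hy => by
    refine sym_eq_zero hg₂ fun z => ?_
    have h := hadj (T c y) z
    rw [← hC'v, hy, Orth.sym_zero_left hg₂, D.cob_tvec, hca, one_smul] at h
    exact h.symm
  -- the action on the middle
  have hmid : ∀ w, f₁ w a = 0 → ∃ w', f₁ w' a' = 0 ∧ ∀ y, ∃ η, (g : Matrix ι ι F) *ᵥ T w y = T w' (C' y) + T a' η := by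
    intro w hwa
    obtain ⟨hu, huP⟩ := D.rad_eicL haa hca hwa
    obtain ⟨u, hudef⟩ : ∃ u, u = kg e P (eic hg₁ a w) (1 : GL (Fin s) F) := ⟨_, rfl⟩
    rw [← hudef] at hu huP
    have hm : D.IsRad a' (g * u * g⁻¹) := by
      refine ⟨mul_mem (mul_mem hg hu.mem) (inv_mem hg), fun y => ?_, fun z hz => ?_, fun z => ?_⟩
      · obtain ⟨y', rfl⟩ := hCsurj y
        rw [← hC, gl_mul_mulVec, gl_mul_mulVec, gl_inv_mulVec, hu.fix]
      · obtain ⟨z', rfl⟩ : ∃ z', z = (g : Matrix ι ι F) *ᵥ z' := ⟨_, (gl_mulVec_inv g z).symm⟩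
        rw [hquo] at hz
        obtain ⟨η, hη⟩ := hu.low z' (hC'inj (hz.trans (map_zero C').symm))
        exact ⟨C η, by rw [gl_mul_mulVec, gl_mul_mulVec, gl_inv_mulVec, hη, mulVec_add, hC]⟩
      · obtain ⟨z', rfl⟩ : ∃ z', z = (g : Matrix ι ι F) *ᵥ z' := ⟨_, (gl_mulVec_inv g z).symm⟩
        rw [gl_mul_mulVec, gl_mul_mulVec, gl_inv_mulVec, hquo, hquo, hu.quo]
    obtain ⟨w', hw'a, hw'⟩ := D.rad_eq hfull ha'a' hcc' hca' hm
    refine ⟨w', hw'a, fun y => ?_⟩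
    have h1 : ((g * u * g⁻¹ : GL ι F) : Matrix ι ι F) *ᵥ ((g : Matrix ι ι F) *ᵥ T c y) =
        (g : Matrix ι ι F) *ᵥ (T c y + D.Phi c u y) := by
      rw [gl_mul_mulVec, gl_mul_mulVec, gl_inv_mulVec, D.Phi_apply, add_sub_cancel]
    rw [hw', D.eicL_mulVec ha'a' (by rw [hg₁.symm, hw'a]), ← hC'v, huP, mulVec_add, mulVec_sub, hC] at h1
    refine ⟨C ((f₁ c w + f₁ w w / 2) • y) - D.cob w' ((g : Matrix ι ι F) *ᵥ T c y) - (f₁ w' w' / 2) • C' y, ?_⟩
    rw [tvec_sub_right, tvec_sub_right]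
    linear_combination (norm := module) -h1
  obtain ⟨y0, hy0⟩ : ∃ y : Fin s → F, y ≠ 0 := ⟨Pi.single ⟨0, by have := D.s3; omega⟩ 1, by simp⟩
  obtain ⟨q0, hq0⟩ : ∃ q, f₂ (C' y0) q = 1 := by
    obtain ⟨q, hq⟩ := exists_dot_ne_zero (fun h => hy0 (hC'inj (h.trans (map_zero C').symm))) hg₂
    exact ⟨(f₂ (C' y0) q)⁻¹ • q, by rw [hg₂.bilinear.smul_right, inv_mul_cancel₀ hq]⟩
  let π : (Fin r → F) →ₗ[F] (Fin r → F) :=
    LinearMap.id - (Orth.sfl hg₁ a).smulRight c - (Orth.sfl hg₁ c).smulRight a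
  let π' : (Fin r → F) →ₗ[F] (Fin r → F) :=
    LinearMap.id - (Orth.sfl hg₁ a').smulRight c' - (Orth.sfl hg₁ c').smulRight a'
  have hπ : ∀ x, π x = x - f₁ x a • c - f₁ x c • a := fun x => rfl
  have hπ' : ∀ x, π' x = x - f₁ x a' • c' - f₁ x c' • a' := fun x => rfl
  let L : (Fin r → F) →ₗ[F] (Fin r → F) :=
    (π'.comp ((D.cod q0).comp ((Matrix.mulVecLin (g : Matrix ι ι F)).comp (tR e P y0)))).comp π
  have hL : ∀ x, L x = π' (D.cod q0 ((g : Matrix ι ι F) *ᵥ T (π x) y0)) := fun x => rfl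
  have hπa : ∀ x, f₁ (π x) a = 0 ∧ f₁ (π x) c = 0 := fun x => by
    constructor <;> simp [hπ, Orth.sym_sub_left hg₁, hg₁.bilinear.smul_left, hca, hac, haa, hcc]
  have hLa : ∀ x, f₁ (L x) a' = 0 ∧ f₁ (L x) c' = 0 := fun x => by
    constructor <;> simp [hL, hπ', Orth.sym_sub_left hg₁, hg₁.bilinear.smul_left, hca', hac', ha'a', hcc']
  have hgw : ∀ x y, ∃ η, (g : Matrix ι ι F) *ᵥ T (π x) y = T (L x) (C' y) + T a' η := by
    intro x y
    obtain ⟨w', hw'a, hw'⟩ := hmid (π x) (hπa x).1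
    obtain ⟨η0, hη0⟩ := hw' y0
    have hLx : L x = w' - f₁ w' c' • a' := by
      rw [hL, hη0, map_add, D.cod_tvec, D.cod_tvec, hq0, one_smul, hπ', hg₁.bilinear.add_left, hg₁.bilinear.add_left,
        hg₁.bilinear.smul_left, hg₁.bilinear.smul_left, hw'a, ha'a', hac']
      module
    obtain ⟨η, hη⟩ := hw' y
    refine ⟨η + f₁ w' c' • C' y, ?_⟩
    rw [hη, hLx, tvec_sub_left, tvec_smul_left, tvec_add_right, tvec_smul_right]
    abel
  have hprod : ∀ x x' y y', f₁ (L x) (L x') * f₂ (C' y) (C' y') = f₁ (π x) (π x') * f₂ y y' := by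
    intro x x' y y'
    obtain ⟨η, hη⟩ := hgw x y
    obtain ⟨η', hη'⟩ := hgw x' y'
    have h := D.M_pol hg (T (π x) y) (T (π x') y')
    rw [hη, hη', padd_left D.hQ, padd_right D.hQ, padd_right D.hQ, D.pol, D.pol, D.pol, D.pol, D.pol,
      (hLa x).1, hg₁.symm a' (L x'), (hLa x').1, ha'a'] at h
    exact mul_left_cancel₀ D.kne (by linear_combination h)
  have hdim := pair_finrank hg₁ (⊤ : Submodule F (Fin r → F)) a c
  rw [top_finrank hg₁, Fintype.card_fin] at hdim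
  obtain ⟨w1, hw1, hw11⟩ := nd_aniso hg₁ h2 (nd_perp_pair hg₁ (nd_top hg₁) Submodule.mem_top Submodule.mem_top haa hcc hca)
    (by have := D.r3; omega)
  have hπw : π w1 = w1 := by
    rw [hπ, show f₁ w1 a = 0 from hw1.1.2, show f₁ w1 c = 0 from hw1.2]; simp
  obtain ⟨ν, hν⟩ : ∃ ν, ν = f₁ w1 w1 / f₁ (L w1) (L w1) := ⟨_, rfl⟩
  have hLw1 : f₁ (L w1) (L w1) ≠ 0 := fun h => by
    have h1 := hprod w1 w1 z1 z2
    rw [h, zero_mul, hπw, hz12, mul_one] at h1
    exact hw11 h1.symm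
  have hν0 : ν ≠ 0 := hν ▸ div_ne_zero hw11 hLw1
  have hBsim : ∀ y y', f₂ (C' y) (C' y') = ν * f₂ y y' := fun y y' => by
    refine mul_left_cancel₀ hLw1 ?_
    rw [hprod, hπw, hν, ← mul_assoc, mul_div_cancel₀ _ hLw1]
  have hLsim : ∀ x x', f₁ (L x) (L x') = ν⁻¹ * f₁ (π x) (π x') := fun x x' => by
    have h := hprod x x' z1 z2
    rw [hBsim, hz12] at h
    rw [← mul_one (f₁ (π x) (π x')), ← h]
    field_simp
  have hC'surj := LinearMap.injective_iff_surjective.1 hC'inj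
  have hCC' : ∀ y, C y = ν⁻¹ • C' y := fun y => by
    refine sub_eq_zero.1 (sym_eq_zero hg₂ fun z => ?_)
    obtain ⟨z', rfl⟩ := hC'surj z
    rw [Orth.sym_sub_left hg₂, hg₂.bilinear.smul_left, hg₂.symm (C y), hC'v z', hadj, D.cob_tvec, hca, one_smul,
      ← hC'v z', hBsim, hg₂.symm z' y, ← mul_assoc, inv_mul_cancel₀ hν0, one_mul, sub_self]
  let Am : (Fin r → F) →ₗ[F] (Fin r → F) :=
    L + (Orth.sfl hg₁ a).smulRight c' + (Orth.sfl hg₁ c).smulRight (ν⁻¹ • a')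
  have hAm : ∀ x, Am x = L x + f₁ x a • c' + f₁ x c • (ν⁻¹ • a') := fun x => rfl
  have hπexp : ∀ x x', f₁ (π x) (π x') = f₁ x x' - f₁ x a * f₁ x' c - f₁ x c * f₁ x' a := fun x x' => by
    simp only [hπ, Orth.sym_sub_left hg₁, Orth.sym_sub_right hg₁, hg₁.bilinear.smul_left, hg₁.bilinear.smul_right,
      haa, hcc, hca, hac, hg₁.symm a x', hg₁.symm c x']
    ring
  have hAsim : ∀ x x', f₁ (Am x) (Am x') = ν⁻¹ * f₁ x x' := fun x x' => by
    simp only [hAm, hg₁.bilinear.add_left, hg₁.bilinear.add_right, hg₁.bilinear.smul_left, hg₁.bilinear.smul_right,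
      (hLa x).1, (hLa x).2, hg₁.symm a' (L x'), hg₁.symm c' (L x'), (hLa x').1, (hLa x').2, ha'a', hcc', hca', hac',
      hLsim, hπexp]
    ring
  have hAinj : Function.Injective Am := (injective_iff_map_eq_zero Am).2 fun x hx => sym_eq_zero hg₁ fun x' => by
    have h := hAsim x x'
    rw [hx, Orth.sym_zero_left hg₁] at h
    exact (mul_eq_zero.1 h.symm).resolve_left (inv_ne_zero hν0)
  obtain ⟨h, hh⟩ : ∃ h, h = kg e P (glInj Am hAinj) (glInj C' hC'inj) := ⟨_, rfl⟩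
  have hhiso : h ∈ Cfsg.isometryGroup F Q := hh ▸ D.kg_iso (inv_mul_cancel₀ hν0)
    (fun x x' => by rw [glInj_mulVec, glInj_mulVec, hAsim]) fun y y' => by rw [glInj_mulVec, glInj_mulVec, hBsim]
  have hhv : ∀ x y, (h : Matrix ι ι F) *ᵥ T x y = T (Am x) (C' y) := fun x y => by
    rw [hh, kg_tvec, glInj_mulVec, glInj_mulVec]
  have hAa : Am a = ν⁻¹ • a' := by
    rw [hAm, show L a = 0 by rw [hL, show π a = 0 by rw [hπ, haa, hac]; simp, tvec_zero_left, mulVec_zero, map_zero,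
      map_zero], haa, hac]
    simp
  have hha : ∀ y, (h : Matrix ι ι F) *ᵥ T a y = (g : Matrix ι ι F) *ᵥ T a y := fun y => by
    rw [hhv, hAa, hC, hCC', tvec_smul_left, tvec_smul_right]
  obtain ⟨t, ht⟩ : ∃ t, t = h⁻¹ * g := ⟨_, rfl⟩
  have htiso : t ∈ Cfsg.isometryGroup F Q := ht ▸ mul_mem (inv_mem hhiso) (D.le_iso hg)
  have htfix : ∀ y, (t : Matrix ι ι F) *ᵥ T a y = T a y := fun y => by
    rw [ht, gl_mul_mulVec, ← hha, gl_inv_mulVec]
  have htquo : ∀ z, D.cob a ((t : Matrix ι ι F) *ᵥ z) = D.cob a z := fun z => by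
    refine sub_eq_zero.1 (sym_eq_zero hg₂ fun y => ?_)
    have h1 := iso_pol htiso z (T a y)
    rw [htfix, D.pol_cob, D.pol_cob] at h1
    rw [Orth.sym_sub_left hg₂, mul_left_cancel₀ D.kne h1, sub_self]
  have htlow : ∀ z, D.cob a z = 0 → ∃ η, (t : Matrix ι ι F) *ᵥ z = z + T a η := by
    intro z hz
    have key : (LinearMap.range (tL e P a)).mkQ ((t : Matrix ι ι F) *ᵥ z) = (LinearMap.range (tL e P a)).mkQ z := by
      refine D.ker_ext hca (L := (LinearMap.range (tL e P a)).mkQ.comp (Matrix.mulVecLin (t : Matrix ι ι F)))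
        (L' := (LinearMap.range (tL e P a)).mkQ) (fun w y hwa => ?_) hz
      refine (Submodule.Quotient.eq _).2 ?_
      have hw : w = π w + f₁ w c • a := by rw [hπ, hwa]; simp
      obtain ⟨η, hη⟩ := hgw w y
      obtain ⟨η', hη'⟩ := hCsurj η
      refine ⟨η', ?_⟩
      show T a η' = (t : Matrix ι ι F) *ᵥ T w y - T w y
      have hgh : (g : Matrix ι ι F) *ᵥ T (π w) y = (h : Matrix ι ι F) *ᵥ (T (π w) y + T a η') := by
        rw [hη, mulVec_add, hhv, hha, hC, hη', hAm, (hπa w).1, (hπa w).2, zero_smul, zero_smul, add_zero, add_zero,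
          hL (π w), show π (π w) = π w by rw [hπ, (hπa w).1, (hπa w).2]; simp, ← hL]
      conv_rhs => rw [hw, tvec_add_left, tvec_smul_left, mulVec_add, mulVec_smul, htfix, ht, gl_mul_mulVec, hgh,
        gl_inv_mulVec]
      abel
    obtain ⟨η, hη⟩ := (Submodule.Quotient.eq _).1 key
    exact ⟨η, by rw [← tL_apply, hη]; abel⟩
  have htΩ : t ∈ omegaGL Q := by
    refine D.unip_omega htiso (Matrix.ext_iff_mulVec.2 fun z => ?_)
    have hN : ∀ v, ((t : Matrix ι ι F) - 1) *ᵥ v = (t : Matrix ι ι F) *ᵥ v - v := fun v => by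
      rw [sub_mulVec, one_mulVec]
    obtain ⟨η, hη⟩ := htlow ((t : Matrix ι ι F) *ᵥ z - z) (by rw [map_sub, htquo, sub_self])
    rw [pow_three, ← mulVec_mulVec, ← mulVec_mulVec, hN z, hN (_ - z), hη, add_sub_cancel_left, hN, htfix, sub_self,
      zero_mulVec]
  have hhM : h ∈ M := by
    rw [hh]
    refine D.kg_mem_of_omega ?_
    rw [← hh, show h = g * t⁻¹ by rw [ht]; group]
    exact mul_mem (D.le hg) (inv_mem htΩ)
  obtain ⟨w, -, hw⟩ := D.rad_eq hfull haa hcc hca (m := t)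
    ⟨ht ▸ mul_mem (inv_mem hhM) hg, htfix, htlow, htquo⟩
  have hgeq : g = h * t := by rw [ht, mul_inv_cancel_left]
  rw [hgeq, hw, hh]
  exact mul_mem (kg_mem _ _) (kg_mem _ _)

/-- the square of the displacement of an Eichler transformation -/
theorem OO.eicL_cube {a w : Fin r → F} (haa : f₁ a a = 0) (hw : f₁ a w = 0) (z : ι → F) :
    (kg e P (eic D.s1 a w) (1 : GL (Fin s) F) : Matrix ι ι F) *ᵥ
        ((kg e P (eic D.s1 a w) (1 : GL (Fin s) F) : Matrix ι ι F) *ᵥ z) -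
      2 • ((kg e P (eic D.s1 a w) (1 : GL (Fin s) F) : Matrix ι ι F) *ᵥ z) + z =
      T a ((-f₁ w w) • D.cob a z) := by
  obtain ⟨E, hE⟩ : ∃ E, E = Matrix.mulVecLin (kg e P (eic D.s1 a w) (1 : GL (Fin s) F) : Matrix ι ι F) := ⟨_, rfl⟩
  have h : E.comp E - 2 • E + LinearMap.id = (tL e P a).comp ((-f₁ w w) • D.cob a) :=
    lin_ext (e := e) (P := P) fun x y => by
      simp only [hE, LinearMap.add_apply, LinearMap.sub_apply, LinearMap.comp_apply, LinearMap.smul_apply,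
        Matrix.mulVecLin_apply, LinearMap.id_apply, tL_apply, kg_tvec, Units.val_one, one_mulVec, D.cob_tvec, smul_smul]
      rw [tvec_smul_right, ← tvec_smul_left, ← eic_cube D.s1 D.two haa hw x, tvec_add_left, tvec_sub_left,
        two_nsmul, two_nsmul, tvec_add_left]
  have := LinearMap.congr_fun h z
  rw [hE] at this
  exact this

/-- centralisers of cubic Eichler transformations -/
theorem OO.centralizer_eicL (hfull : ¬ omegaGL Q ≤ M) {a w : Fin r → F} (ha : a ≠ 0) (haa : f₁ a a = 0)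
    (hw : f₁ a w = 0) (hww : f₁ w w ≠ 0) {g : GL ι F} (hg : g ∈ M)
    (hcomm : g * kg e P (eic D.s1 a w) (1 : GL (Fin s) F) = kg e P (eic D.s1 a w) (1 : GL (Fin s) F) * g) :
    g ∈ tensorProductSubgroup r s e P := by
  obtain ⟨c, -, -, hca⟩ := nd_partner D.s1 D.two (nd_top D.s1) Submodule.mem_top ha haa
  refine D.pure_rigid hfull hg ha haa ha fun y => ?_
  obtain ⟨E, hE⟩ : ∃ E, E = kg e P (eic D.s1 a w) (1 : GL (Fin s) F) := ⟨_, rfl⟩
  have h1 := D.eicL_cube haa hw (T c ((-f₁ w w)⁻¹ • y))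
  rw [D.cob_tvec, hca, one_smul, smul_smul, mul_inv_cancel₀ (neg_ne_zero.2 hww), one_smul] at h1
  refine ⟨(-f₁ w w) • D.cob a ((g : Matrix ι ι F) *ᵥ T c ((-f₁ w w)⁻¹ • y)), ?_⟩
  rw [← h1, ← D.eicL_cube haa hw, ← hE]
  rw [← hE] at hcomm
  simp only [← gl_mul_mulVec, mulVec_add, mulVec_sub, mulVec_smul]
  simp only [← mul_assoc, hcomm]
  simp only [mul_assoc, hcomm]

/-- a conjugate Eichler transformation with scalar second factor -/
theorem OO.recog (hfull : ¬ omegaGL Q ≤ M) {a w : Fin r → F} (ha : a ≠ 0) (haa : f₁ a a = 0)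
    (hw : f₁ a w = 0) (hww : f₁ w w ≠ 0) {g : GL ι F} (hg : g ∈ M) {A : GL (Fin r) F} {B : GL (Fin s) F} {l : F}
    (hn : g * kg e P (eic D.s1 a w) (1 : GL (Fin s) F) * g⁻¹ = kg e P A B)
    (hB : ∀ y, (B : Matrix (Fin s) (Fin s) F) *ᵥ y = l • y) : g ∈ tensorProductSubgroup r s e P := by
  obtain ⟨c, -, -, hca⟩ := nd_partner D.s1 D.two (nd_top D.s1) Submodule.mem_top ha haa
  obtain ⟨E, hE⟩ : ∃ E, E = kg e P (eic D.s1 a w) (1 : GL (Fin s) F) := ⟨_, rfl⟩
  rw [← hE] at hn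
  obtain ⟨Dm, hDm⟩ : ∃ Dm : (Fin r → F) → (Fin r → F), ∀ x, Dm x =
      l • l • ((A : Matrix (Fin r) (Fin r) F) *ᵥ ((A : Matrix (Fin r) (Fin r) F) *ᵥ x)) -
        2 • (l • ((A : Matrix (Fin r) (Fin r) F) *ᵥ x)) + x := ⟨_, fun x => rfl⟩
  have hnT : ∀ x y, ((g * E * g⁻¹ : GL ι F) : Matrix ι ι F) *ᵥ T x y =
      T (l • ((A : Matrix (Fin r) (Fin r) F) *ᵥ x)) y := fun x y => by
    rw [hn, kg_tvec, hB, tvec_smul_right, ← tvec_smul_left]
  have hkey : ∀ x y, T (Dm x) y =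
      (g : Matrix ι ι F) *ᵥ T a ((-f₁ w w) • D.cob a (((g⁻¹ : GL ι F) : Matrix ι ι F) *ᵥ T x y)) := fun x y => by
    have hn1 : ∀ v, (g : Matrix ι ι F) *ᵥ ((E : Matrix ι ι F) *ᵥ (((g⁻¹ : GL ι F) : Matrix ι ι F) *ᵥ v)) =
        ((g * E * g⁻¹ : GL ι F) : Matrix ι ι F) *ᵥ v := fun v => by rw [gl_mul_mulVec, gl_mul_mulVec]
    have hn2 : ∀ v, (g : Matrix ι ι F) *ᵥ ((E : Matrix ι ι F) *ᵥ ((E : Matrix ι ι F) *ᵥ
        (((g⁻¹ : GL ι F) : Matrix ι ι F) *ᵥ v))) =
        ((g * E * g⁻¹ : GL ι F) : Matrix ι ι F) *ᵥ (((g * E * g⁻¹ : GL ι F) : Matrix ι ι F) *ᵥ v) := fun v => by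
      rw [← hn1, ← hn1 v, gl_inv_mulVec]
    rw [← D.eicL_cube haa hw, ← hE, mulVec_add, mulVec_sub, mulVec_smul, gl_mulVec_inv, hn2, hn1, hDm, tvec_add_left,
      tvec_sub_left, hnT, hnT, mulVec_smul, two_nsmul, two_nsmul, tvec_add_left]
  obtain ⟨x0, hx0⟩ : ∃ x0, Dm x0 ≠ 0 := by
    by_contra hcon
    push Not at hcon
    obtain ⟨y, hy⟩ : ∃ y : Fin s → F, y ≠ 0 := ⟨Pi.single ⟨0, by have := D.s3; omega⟩ 1, by simp⟩
    have hzero : ∀ z, D.cob a (((g⁻¹ : GL ι F) : Matrix ι ι F) *ᵥ z) = 0 := fun z => by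
      induction tvec_span (e := e) (P := P) z using Submodule.span_induction with
      | mem v hv =>
        obtain ⟨x, y', rfl⟩ := hv
        have h := hkey x y'
        rw [hcon x, tvec_zero_left] at h
        have h' := tvec_right_inj ha ((gl_mulVec_eq_zero.1 h.symm).trans (tvec_zero_right a).symm)
        exact (smul_eq_zero.1 h').resolve_left (neg_ne_zero.2 hww)
      | zero => rw [mulVec_zero, map_zero]
      | add v v' _ _ e1 e2 => rw [mulVec_add, map_add, e1, e2, add_zero]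
      | smul t v _ e1 => rw [mulVec_smul, map_smul, e1, smul_zero]
    have h := hzero ((g : Matrix ι ι F) *ᵥ T c y)
    rw [gl_inv_mulVec, D.cob_tvec, hca, one_smul] at h
    exact hy h
  let φ : (Fin s → F) →ₗ[F] (Fin s → F) :=
    ((-f₁ w w) • D.cob a).comp ((Matrix.mulVecLin ((g⁻¹ : GL ι F) : Matrix ι ι F)).comp (tL e P (Dm x0 - Dm x0 + x0)))
  have hφ : ∀ y, T (Dm x0) y = (g : Matrix ι ι F) *ᵥ T a (φ y) := fun y => by
    rw [hkey]; simp [φ, tL_apply]
  have hφinj : Function.Injective φ := (injective_iff_map_eq_zero φ).2 fun y hy => by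
    have h := hφ y
    rw [hy, tvec_zero_right, mulVec_zero] at h
    exact tvec_right_inj hx0 (h.trans (tvec_zero_right _).symm)
  refine D.pure_rigid hfull hg ha haa hx0 fun y => ?_
  obtain ⟨y', rfl⟩ := LinearMap.injective_iff_surjective.1 hφinj y
  exact ⟨y', (hφ y').symm⟩

/-- a conjugate Eichler transformation fixing some pure subspace pointwise -/
theorem OO.recog_fix (hfull : ¬ omegaGL Q ≤ M) {a w : Fin r → F} (ha : a ≠ 0) (haa : f₁ a a = 0)
    (hw : f₁ a w = 0) (hww : f₁ w w ≠ 0) {g : GL ι F} (hg : g ∈ M)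
    (hn : g * kg e P (eic D.s1 a w) (1 : GL (Fin s) F) * g⁻¹ ∈ tensorProductSubgroup r s e P)
    {d : Fin r → F} (hd : d ≠ 0)
    (hfix : ∀ y, ((g * kg e P (eic D.s1 a w) (1 : GL (Fin s) F) * g⁻¹ : GL ι F) : Matrix ι ι F) *ᵥ T d y = T d y) :
    g ∈ tensorProductSubgroup r s e P := by
  obtain ⟨A, B, hAB⟩ := mem_tensor hn
  have hn' : g * kg e P (eic D.s1 a w) (1 : GL (Fin s) F) * g⁻¹ = kg e P A B :=
    gl_ext_tvec (e := e) (P := P) fun x y => by rw [kg_tvec, hAB]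
  obtain ⟨γ, hγ⟩ := exists_dot_one (show (A : Matrix (Fin r) (Fin r) F) *ᵥ d ≠ 0 from fun h => hd (gl_mulVec_eq_zero.1 h))
  refine D.recog hfull ha haa hw hww hg hn' (l := γ ⬝ᵥ d) fun y => ?_
  have h := congrArg (rc e P γ) ((hAB d y).symm.trans (hfix y))
  rwa [rc_tvec, rc_tvec, hγ, one_smul] at h

omit D in
theorem rc_add_left (γ γ' : Fin r → F) (z : ι → F) : rc e P (γ + γ') z = rc e P γ z + rc e P γ' z :=
  LinearMap.congr_fun (lin_ext (e := e) (P := P) (f := rc e P (γ + γ')) (g := rc e P γ + rc e P γ') fun x y => by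
    rw [LinearMap.add_apply, rc_tvec, rc_tvec, rc_tvec, add_dotProduct, add_smul]) z

omit D in
theorem rc_smul_left (c : F) (γ : Fin r → F) (z : ι → F) : rc e P (c • γ) z = c • rc e P γ z :=
  LinearMap.congr_fun (lin_ext (e := e) (P := P) (f := rc e P (c • γ)) (g := c • rc e P γ) fun x y => by
    rw [LinearMap.smul_apply, rc_tvec, rc_tvec, smul_dotProduct, smul_eq_mul, smul_smul]) z

omit D in
/-- the fixed space of a tensor product with a unipotent factor -/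
theorem fix_bound {n : Matrix ι ι F} {A : Matrix (Fin r) (Fin r) F} {B : Matrix (Fin s) (Fin s) F}
    (hn : ∀ x y, n *ᵥ T x y = T (A *ᵥ x) (B *ᵥ y)) {p : ℕ} (hA : (A - 1) ^ p = 0) :
    Module.finrank F (LinearMap.ker (Matrix.mulVecLin n - LinearMap.id)) ≤
      r * Module.finrank F (LinearMap.ker (Matrix.mulVecLin B - LinearMap.id)) := by
  obtain ⟨κ, hκ⟩ : ∃ κ, κ = Module.finrank F (LinearMap.ker (Matrix.mulVecLin B - LinearMap.id)) := ⟨_, rfl⟩
  rw [← hκ]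
  obtain ⟨Z, hZ⟩ : ∃ Z, Z = LinearMap.ker (Matrix.mulVecLin n - LinearMap.id) := ⟨_, rfl⟩
  rw [← hZ]
  have hmove : ∀ γ z, rc e P γ (n *ᵥ z) = B *ᵥ rc e P (γ ᵥ* A) z := fun γ z => by
    refine LinearMap.congr_fun (lin_ext (e := e) (P := P) (f := (rc e P γ).comp (Matrix.mulVecLin n))
      (g := (Matrix.mulVecLin B).comp (rc e P (γ ᵥ* A))) fun x y => ?_) z
    show rc e P γ (n *ᵥ T x y) = B *ᵥ rc e P (γ ᵥ* A) (T x y)
    rw [hn, rc_tvec, rc_tvec, mulVec_smul, dotProduct_mulVec]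
  let K : Submodule F (Fin r → F) → Submodule F (ι → F) := fun Γ =>
    { carrier := {z | z ∈ Z ∧ ∀ γ ∈ Γ, rc e P γ z = 0}
      zero_mem' := ⟨Z.zero_mem, fun γ _ => map_zero _⟩
      add_mem' := fun {z z'} hz hz' => ⟨Z.add_mem hz.1 hz'.1, fun γ hγ => by rw [map_add, hz.2 γ hγ, hz'.2 γ hγ, add_zero]⟩
      smul_mem' := fun c z hz => ⟨Z.smul_mem c hz.1, fun γ hγ => by rw [map_smul, hz.2 γ hγ, smul_zero]⟩ }
  have main : ∀ (m : ℕ) (Γ : Submodule F (Fin r → F)), r ≤ Module.finrank F Γ + m →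
      Module.finrank F (K Γ) ≤ m * κ := by
    intro m
    induction m with
    | zero =>
      intro Γ hΓ
      have htop : Γ = ⊤ := Submodule.eq_top_of_finrank_eq (le_antisymm (Submodule.finrank_le _) (by simp; omega))
      have hbot : K Γ = ⊥ := (Submodule.eq_bot_iff _).2 fun z hz => crd_inj (e := e) (P := P) (funext fun ⟨i, j⟩ => by
        have h := congrFun (hz.2 (Pi.single i 1) (htop ▸ Submodule.mem_top)) j
        simpa [rc, Pi.single_apply] using h)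
      rw [hbot, finrank_bot, Nat.zero_mul]
    | succ m ih =>
      intro Γ hΓ
      by_cases htop : Γ = ⊤
      · exact le_trans (ih Γ (by rw [htop]; simp)) (Nat.mul_le_mul_right κ (Nat.le_succ m))
      classical
      obtain ⟨x, -, hx⟩ := SetLike.exists_of_lt (lt_top_iff_ne_top.2 htop)
      have hex : ∃ j, x ᵥ* (A - 1) ^ j ∈ Γ := ⟨p, by rw [hA, vecMul_zero]; exact Γ.zero_mem⟩
      obtain ⟨j, hj⟩ : ∃ j, Nat.find hex = j + 1 := Nat.exists_eq_succ_of_ne_zero fun h => hx (by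
        have h1 := Nat.find_spec hex
        rwa [h, pow_zero, vecMul_one] at h1)
      obtain ⟨γ, hγ⟩ : ∃ γ, γ = x ᵥ* (A - 1) ^ j := ⟨_, rfl⟩
      have hγΓ : γ ∉ Γ := hγ ▸ Nat.find_min hex (by omega)
      have hγA : γ ᵥ* A - γ ∈ Γ := by
        have h1 := Nat.find_spec hex
        rw [hj, pow_succ, ← vecMul_vecMul, ← hγ, vecMul_sub, vecMul_one] at h1
        exact h1
      obtain ⟨Γ', hΓ'⟩ : ∃ Γ', Γ' = Γ ⊔ Submodule.span F {γ} := ⟨_, rfl⟩
      have hlt : Γ < Γ' := hΓ' ▸ lt_of_le_of_ne le_sup_left fun h =>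
        hγΓ (h.symm ▸ Submodule.mem_sup_right (Submodule.mem_span_singleton_self γ))
      have h1 := Submodule.finrank_lt_finrank_of_lt hlt
      have h2 := ih Γ' (by omega)
      let φ : K Γ →ₗ[F] (Fin s → F) := (rc e P γ).comp (K Γ).subtype
      have h3 := LinearMap.finrank_range_add_finrank_ker φ
      have h4 : LinearMap.range φ ≤ LinearMap.ker (Matrix.mulVecLin B - LinearMap.id) := by
        rintro _ ⟨⟨z, hz⟩, rfl⟩
        show B *ᵥ rc e P γ z - rc e P γ z = 0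
        have hzn : n *ᵥ z = z := by
          have h5 := hz.1
          rw [hZ] at h5
          exact sub_eq_zero.1 h5
        have h5 := hmove γ z
        rw [hzn, show γ ᵥ* A = (γ ᵥ* A - γ) + γ by rw [sub_add_cancel], rc_add_left, hz.2 _ hγA, zero_add] at h5
        rw [← h5, sub_self]
      have h5 := Submodule.finrank_mono h4
      have h6 : (LinearMap.ker φ).map (K Γ).subtype ≤ K Γ' := by
        rintro _ ⟨⟨z, hz⟩, hzk, rfl⟩
        refine ⟨hz.1, fun γ' hγ' => ?_⟩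
        rw [hΓ'] at hγ'
        obtain ⟨u, hu, v, hv, rfl⟩ := Submodule.mem_sup.1 hγ'
        obtain ⟨c, rfl⟩ := Submodule.mem_span_singleton.1 hv
        show rc e P (u + c • γ) z = 0
        rw [rc_add_left, rc_smul_left, hz.2 u hu, show rc e P γ z = 0 from hzk, smul_zero, add_zero]
      have h7 := Submodule.finrank_mono h6
      rw [((Submodule.equivMapOfInjective _ (K Γ).injective_subtype (LinearMap.ker φ)).finrank_eq).symm] at h7
      rw [Nat.succ_mul]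
      omega
  have hle : Z ≤ K ⊥ := fun z hz => ⟨hz, fun γ hγ => by
    rw [(Submodule.mem_bot F).1 hγ, ← zero_smul F (0 : Fin r → F), rc_smul_left, zero_smul]⟩
  exact le_trans (Submodule.finrank_mono hle) (main r ⊥ (by simp))

/-- a conjugate of an Eichler transformation of the larger factor has scalar second factor -/
theorem OO.recog_big (hfull : ¬ omegaGL Q ≤ M) (hsr : s < r) {a w : Fin r → F} (ha : a ≠ 0) (haa : f₁ a a = 0)
    (hw : f₁ a w = 0) (hww : f₁ w w ≠ 0) {g : GL ι F} (hg : g ∈ M)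
    (hn : g * kg e P (eic D.s1 a w) (1 : GL (Fin s) F) * g⁻¹ ∈ tensorProductSubgroup r s e P) :
    g ∈ tensorProductSubgroup r s e P := by
  have hg₂ := D.s2
  obtain ⟨p, hp, hc, hodd⟩ := D.exists_char
  haveI := hc
  haveI : Fact p.Prime := ⟨hp⟩
  obtain ⟨E, hE⟩ : ∃ E, E = kg e P (eic D.s1 a w) (1 : GL (Fin s) F) := ⟨_, rfl⟩
  obtain ⟨n, hndef⟩ : ∃ n, n = g * E * g⁻¹ := ⟨_, rfl⟩
  rw [← hE, ← hndef] at hn
  have hEM : E ∈ M := hE ▸ D.eicL_mem haa hw
  have hniso : n ∈ Cfsg.isometryGroup F Q := D.le_iso (hndef ▸ mul_mem (mul_mem hg hEM) (inv_mem hg))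
  obtain ⟨A, B, μ, ν, -, -, hB, hnAB⟩ := D.tensor_data hniso hn
  have hnp : n ^ p = 1 := by
    rw [hndef, conj_pow, hE, kg_pow, eic_pow_char D.s1 D.two haa hw, one_pow, kg_one, mul_one, mul_inv_cancel]
  rw [hnAB, kg_pow] at hnp
  have hpow : ∀ x y, T (((A ^ p : GL (Fin r) F) : Matrix (Fin r) (Fin r) F) *ᵥ x)
      (((B ^ p : GL (Fin s) F) : Matrix (Fin s) (Fin s) F) *ᵥ y) = T x y := fun x y => by
    rw [← kg_tvec, hnp, Units.val_one, one_mulVec]
  obtain ⟨z1, z2, hz12⟩ := D.swap.exists_pair₁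
  have hz1 : z1 ≠ 0 := fun h => by rw [h, Orth.sym_zero_left hg₂] at hz12; exact zero_ne_one hz12
  obtain ⟨δ, hδ⟩ := exists_dot_one (show ((B ^ p : GL (Fin s) F) : Matrix (Fin s) (Fin s) F) *ᵥ z1 ≠ 0 from
    fun h => hz1 (gl_mulVec_eq_zero.1 h))
  obtain ⟨lA, hlA⟩ : ∃ lA, lA = δ ⬝ᵥ z1 := ⟨_, rfl⟩
  have hA : ∀ x, ((A ^ p : GL (Fin r) F) : Matrix (Fin r) (Fin r) F) *ᵥ x = lA • x := fun x => by
    have h := congrArg (co e P δ) (hpow x z1)
    rwa [co_tvec, co_tvec, hδ, one_smul, ← hlA] at h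
  have hlA0 : lA ≠ 0 := fun h => ha (gl_mulVec_eq_zero.1 (by rw [hA a, h, zero_smul]))
  have hBp : ∀ y, ((B ^ p : GL (Fin s) F) : Matrix (Fin s) (Fin s) F) *ᵥ y = lA⁻¹ • y := fun y => by
    refine tvec_right_inj (e := e) (P := P) (smul_ne_zero hlA0 ha) ?_
    have h := hpow a y
    rw [hA] at h
    rw [h, tvec_smul_right, tvec_smul_left, smul_smul, inv_mul_cancel₀ hlA0, one_smul]
  obtain ⟨m0, hm0⟩ : ∃ m0, m0 ^ p = lA :=
    Finite.surjective_of_injective (RingHom.injective (frobenius F p)) lA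
  have hm00 : m0 ≠ 0 := fun h => hlA0 (by rw [← hm0, h, zero_pow hp.ne_zero])
  obtain ⟨A0, hA0⟩ : ∃ A0, A0 = m0⁻¹ • (A : Matrix (Fin r) (Fin r) F) := ⟨_, rfl⟩
  obtain ⟨B0, hB0⟩ : ∃ B0, B0 = m0 • (B : Matrix (Fin s) (Fin s) F) := ⟨_, rfl⟩
  haveI : Nonempty (Fin r) := ⟨⟨0, by have := D.r3; omega⟩⟩
  haveI : Nonempty (Fin s) := ⟨⟨0, by have := D.s3; omega⟩⟩
  have hA0p : (A0 - 1) ^ p = 0 := by
    rw [sub_pow_char_of_commute p (Commute.one_right A0), one_pow, hA0, smul_pow, ← Units.val_pow_eq_pow_val,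
      sub_eq_zero]
    refine Matrix.ext_iff_mulVec.2 fun x => ?_
    rw [smul_mulVec, hA, one_mulVec, smul_smul, inv_pow, hm0, inv_mul_cancel₀ hlA0, one_smul]
  have hB0p : B0 ^ p = 1 := Matrix.ext_iff_mulVec.2 fun y => by
    rw [hB0, smul_pow, ← Units.val_pow_eq_pow_val, smul_mulVec, hBp, one_mulVec, smul_smul, hm0,
      mul_inv_cancel₀ hlA0, one_smul]
  have hn0 : ∀ x y, (n : Matrix ι ι F) *ᵥ T x y = T (A0 *ᵥ x) (B0 *ᵥ y) := fun x y => by
    rw [hnAB, kg_tvec, hA0, hB0, smul_mulVec, smul_mulVec, tvec_smul_left, tvec_smul_right, smul_smul,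
      inv_mul_cancel₀ hm00, one_smul]
  -- the rescaled second factor is an isometry
  obtain ⟨ν0, hν0⟩ : ∃ ν0, ν0 = m0 * m0 * ν := ⟨_, rfl⟩
  have hB0s : ∀ y y', f₂ (B0 *ᵥ y) (B0 *ᵥ y') = ν0 * f₂ y y' := fun y y' => by
    rw [hB0, smul_mulVec, smul_mulVec, hg₂.bilinear.smul_left, hg₂.bilinear.smul_right, hB, hν0]
    ring
  have hν01 : ν0 = 1 := by
    have hiter : ∀ (j : ℕ) y y', f₂ ((B0 ^ j) *ᵥ y) ((B0 ^ j) *ᵥ y') = ν0 ^ j * f₂ y y' := by
      intro j
      induction j with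
      | zero => intro y y'; simp
      | succ j ih => intro y y'; rw [pow_succ', ← mulVec_mulVec, ← mulVec_mulVec, hB0s, ih, pow_succ']; ring
    have h := hiter p z1 z2
    rw [hB0p, one_mulVec, one_mulVec, hz12, mul_one] at h
    exact frobenius_inj F p (show frobenius F p ν0 = frobenius F p 1 by rw [frobenius_def, frobenius_def, one_pow, h])
  have hB0i : ∀ y y', f₂ (B0 *ᵥ y) (B0 *ᵥ y') = f₂ y y' := fun y y' => by rw [hB0s, hν01, one_mul]
  -- the dimension count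
  obtain ⟨Z, hZdef⟩ : ∃ Z, Z = LinearMap.ker (Matrix.mulVecLin (n : Matrix ι ι F) - LinearMap.id) := ⟨_, rfl⟩
  have hZ : r * s ≤ Module.finrank F Z + 2 * s := by
    let ψ : (ι → F) →ₗ[F] (Fin s → F) × (Fin s → F) := (D.cob a).prod (D.cob w)
    have h1 := LinearMap.finrank_range_add_finrank_ker ψ
    have h2 := Submodule.finrank_le (LinearMap.range ψ)
    have h3 : (LinearMap.ker ψ).map (Matrix.mulVecLin (g : Matrix ι ι F)) ≤ Z := by
      rintro _ ⟨z, hz, rfl⟩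
      have hza : D.cob a z = 0 := congrArg Prod.fst hz
      have hzw : D.cob w z = 0 := congrArg Prod.snd hz
      rw [hZdef]
      show (n : Matrix ι ι F) *ᵥ ((g : Matrix ι ι F) *ᵥ z) - (g : Matrix ι ι F) *ᵥ z = 0
      rw [hndef, gl_mul_mulVec, gl_mul_mulVec, gl_inv_mulVec, hE, D.eicL_mulVec haa hw, hza, hzw, smul_zero,
        tvec_zero_right, tvec_zero_right, add_zero, sub_zero, sub_zero, sub_self]
    have h4 := Submodule.finrank_mono h3
    rw [((Submodule.equivMapOfInjective _ (fun u v huv => by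
      rw [← gl_inv_mulVec g u, ← gl_inv_mulVec g v]
      exact congrArg _ huv) (LinearMap.ker ψ)).finrank_eq).symm] at h4
    have hcard : Fintype.card ι = r * s := by simpa using Fintype.card_congr e
    simp [hcard] at h1 h2
    omega
  have hZle := fix_bound (e := e) (P := P) hn0 hA0p
  rw [← hZdef] at hZle
  by_cases hone : ∀ y, B0 *ᵥ y = y
  · refine D.recog hfull ha haa hw hww hg (hE ▸ hndef ▸ hnAB) (l := m0⁻¹) fun y => ?_
    have h := hone y
    rw [hB0, smul_mulVec] at h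
    conv_rhs => rw [← h, smul_smul, inv_mul_cancel₀ hm00, one_smul]
  exfalso
  obtain ⟨κ, hκ⟩ : ∃ κ, κ = Module.finrank F (LinearMap.ker (Matrix.mulVecLin B0 - LinearMap.id)) := ⟨_, rfl⟩
  rw [← hκ] at hZle
  have hk : κ + 2 ≤ s := by
    by_contra hlt
    push Not at hone
    obtain ⟨y1, hy1⟩ := hone
    obtain ⟨R, hR⟩ : ∃ R, R = LinearMap.range (Matrix.mulVecLin B0 - LinearMap.id) := ⟨_, rfl⟩
    have h1 := LinearMap.finrank_range_add_finrank_ker (Matrix.mulVecLin B0 - LinearMap.id)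
    rw [← hR, ← hκ, Module.finrank_fin_fun] at h1
    obtain ⟨d, hd⟩ : ∃ d, d = B0 *ᵥ y1 - y1 := ⟨_, rfl⟩
    have hd0 : d ≠ 0 := hd ▸ sub_ne_zero.2 hy1
    have hspan : Submodule.span F {d} = R := Submodule.eq_of_le_of_finrank_le
      ((Submodule.span_singleton_le_iff_mem _ _).2 (hR ▸ ⟨y1, hd.symm⟩)) (by rw [finrank_span_singleton hd0]; omega)
    have hline : ∀ y, ∃ t : F, t • d = B0 *ᵥ y - y := fun y => Submodule.mem_span_singleton.1 (by
      rw [hspan, hR]; exact ⟨y, rfl⟩)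
    choose φ hφ using hline
    have hBy : ∀ y, B0 *ᵥ y = y + φ y • d := fun y => by rw [hφ]; abel
    have hφd : φ d = 0 := by
      have hpw : ∀ j : ℕ, (B0 ^ j) *ᵥ d = (1 + φ d) ^ j • d := by
        intro j
        induction j with
        | zero => simp
        | succ j ih =>
          rw [pow_succ', ← mulVec_mulVec, ih, mulVec_smul, hBy d, pow_succ']
          module
      have h := hpw p
      rw [hB0p, one_mulVec, add_pow_char, one_pow, add_smul, one_smul, left_eq_add, smul_eq_zero] at h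
      exact eq_zero_of_pow_eq_zero (h.resolve_right hd0)
    have hdd : f₂ d d = 0 := by
      have h := hB0i y1 d
      rw [hBy y1, hBy d, hφd, zero_smul, add_zero, hg₂.bilinear.add_left, hg₂.bilinear.smul_left, add_eq_left] at h
      refine (mul_eq_zero.1 h).resolve_left fun h' => hy1 ?_
      rw [hBy y1, h', zero_smul, add_zero]
    have hφ1 : φ y1 ≠ 0 := fun h' => hy1 (by rw [hBy y1, h', zero_smul, add_zero])
    have hy1d : f₂ y1 d = 0 := by
      have h := hB0i y1 y1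
      rw [hBy y1] at h
      simp only [hg₂.bilinear.add_left, hg₂.bilinear.add_right, hg₂.bilinear.smul_left, hg₂.bilinear.smul_right, hdd,
        hg₂.symm d y1] at h
      exact (mul_eq_zero.1 (show (2 * φ y1) * f₂ y1 d = 0 by linear_combination h)).resolve_left
        (mul_ne_zero D.two hφ1)
    refine hd0 (sym_eq_zero hg₂ fun y => ?_)
    have h := hB0i y1 y
    rw [hBy y1, hBy y] at h
    simp only [hg₂.bilinear.add_left, hg₂.bilinear.add_right, hg₂.bilinear.smul_left, hg₂.bilinear.smul_right, hdd,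
      hy1d] at h
    exact (mul_eq_zero.1 (show φ y1 * f₂ d y = 0 by linear_combination h)).resolve_left hφ1
  obtain ⟨t, ht⟩ : ∃ t, s = κ + 2 + t := ⟨s - κ - 2, by omega⟩
  subst ht
  have h1 : r * (κ + 2 + t) = r * κ + r * (2 + t) := by ring
  have h2 := Nat.mul_le_mul_left r (show 2 ≤ 2 + t by omega)
  omega

end CfsgLib.Perm.Trans.TensorOO
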