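import Mathlib
import Cfsg.Agent.Lib.Perm.Trans.TensorOO.Rigid

/-!
# Involutions in the tensor product subgroup, and their conjugating elements
-/

set_option autoImplicit false
set_option linter.all false

namespace CfsgLib.Perm.Trans.TensorOO

open scoped Matrix
open Matrix Cfsg.Geo CfsgLib.Perm.Asch CfsgLib.Perm.Trans CfsgLib.Perm.Trans.TensorFrame
open CfsgLib.Perm.Trans.TensorMax CfsgLib.Perm.Trans.Quad CfsgLib.Perm.Trans.TensorSO

/-- a product of two involutions in a finite group, with the parity of the order -/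
theorem invol_pair_parity {G : Type*} [Group G] [Finite G] {x y : G} (hx : x * x = 1) (hy : y * y = 1) :
    (Odd (orderOf (x * y)) ∧ ∃ c ∈ Subgroup.closure ({x, y} : Set G), x = c * y * c⁻¹) ∨
      ∃ n : ℕ, (x * y) ^ n ≠ 1 ∧ (x * y) ^ n * (x * y) ^ n = 1 ∧
        (x * y) ^ n * x = x * (x * y) ^ n ∧ (x * y) ^ n * y = y * (x * y) ^ n ∧
        ((Even n ∧ ∃ c ∈ Subgroup.closure ({x, y} : Set G), (x * y) ^ n * y = c * y * c⁻¹) ∨
          (Odd n ∧ ∃ c ∈ Subgroup.closure ({x, y} : Set G), (x * y) ^ n * y = c * x * c⁻¹)) := by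
  have hxi : x⁻¹ = x := inv_eq_of_mul_eq_one_right hx
  have hyi : y⁻¹ = y := inv_eq_of_mul_eq_one_right hy
  obtain ⟨u, hu⟩ : ∃ u, u = x * y := ⟨_, rfl⟩
  have humem : u ∈ Subgroup.closure ({x, y} : Set G) :=
    hu ▸ mul_mem (Subgroup.subset_closure (Set.mem_insert _ _))
      (Subgroup.subset_closure (Set.mem_insert_of_mem _ rfl))
  have hui : u⁻¹ = y * x := by rw [hu, _root_.mul_inv_rev, hxi, hyi]
  have hcx : ∀ k : ℕ, x * (u ^ k)⁻¹ = u ^ k * x := fun k => by
    induction k with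
    | zero => simp
    | succ k ih =>
      rw [pow_succ', _root_.mul_inv_rev, ← mul_assoc, ih, mul_assoc, hui, ← pow_succ', pow_succ, hu]
      simp only [mul_assoc]
  have hcy : ∀ k : ℕ, y * (u ^ k)⁻¹ = u ^ k * y := fun k => by
    induction k with
    | zero => simp
    | succ k ih =>
      rw [pow_succ', _root_.mul_inv_rev, ← mul_assoc, ih, mul_assoc, hui, ← mul_assoc y y x, hy, one_mul,
        ← pow_succ', pow_succ, hu]
      simp only [mul_assoc]
      rw [hy, mul_one]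
  rw [← hu]
  have hpos := orderOf_pos u
  rcases Nat.even_or_odd' (orderOf u) with ⟨n, hn | hn⟩
  · right
    have hsq : u ^ n * u ^ n = 1 := by rw [← pow_add, ← two_mul, ← hn, pow_orderOf_eq_one]
    have hni : (u ^ n)⁻¹ = u ^ n := inv_eq_of_mul_eq_one_right hsq
    refine ⟨n, fun h => ?_, hsq, ?_, ?_, ?_⟩
    · have := Nat.le_of_dvd (by omega) (orderOf_dvd_of_pow_eq_one h)
      omega
    · conv_rhs => rw [← hni, hcx]
    · conv_rhs => rw [← hni, hcy]
    · rcases Nat.even_or_odd' n with ⟨k, hk | hk⟩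
      · refine Or.inl ⟨⟨k, by omega⟩, u ^ k, pow_mem humem k, ?_⟩
        rw [mul_assoc, hcy, ← mul_assoc, ← pow_add, ← two_mul, ← hk]
      · refine Or.inr ⟨⟨k, hk⟩, u ^ k, pow_mem humem k, ?_⟩
        rw [mul_assoc (u ^ k) x, hcx, ← mul_assoc, ← pow_add, ← two_mul, hk, pow_succ, mul_assoc, hu, mul_assoc,
          hy, mul_one]
  · left
    refine ⟨⟨n, hn⟩, u ^ (n + 1), pow_mem humem _, ?_⟩
    rw [mul_assoc, hcy, ← mul_assoc, ← pow_add, show n + 1 + (n + 1) = orderOf u + 1 by omega, pow_succ,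
      pow_orderOf_eq_one, one_mul, hu, mul_assoc, hy, mul_one]

section Eigen

variable {κ : Type} [Fintype κ] [DecidableEq κ] {F : Type*} [Field F]

/-- the fixed vectors -/
def fixSp (g : GL κ F) : Submodule F (κ → F) := LinearMap.ker (Matrix.mulVecLin (g : Matrix κ κ F) - LinearMap.id)

/-- the negated vectors -/
def negSp (g : GL κ F) : Submodule F (κ → F) := LinearMap.ker (Matrix.mulVecLin (g : Matrix κ κ F) + LinearMap.id)

theorem mem_fixSp {g : GL κ F} {x : κ → F} : x ∈ fixSp g ↔ (g : Matrix κ κ F) *ᵥ x = x := sub_eq_zero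

theorem mem_negSp {g : GL κ F} {x : κ → F} : x ∈ negSp g ↔ (g : Matrix κ κ F) *ᵥ x = -x := add_eq_zero_iff_eq_neg

theorem fix_neg_disjoint (h2 : (2 : F) ≠ 0) (g : GL κ F) : fixSp g ⊓ negSp g = ⊥ := by
  refine (Submodule.eq_bot_iff _).2 fun x hx => ?_
  have h := (mem_fixSp.1 hx.1).symm.trans (mem_negSp.1 hx.2)
  have h' : (2 : F) • x = 0 := by linear_combination (norm := module) h
  exact (smul_eq_zero.1 h').resolve_left h2

theorem invol_decomp (h2 : (2 : F) ≠ 0) {g : GL κ F} (hg : g * g = 1) (x : κ → F) :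
    (2 : F)⁻¹ • (x + (g : Matrix κ κ F) *ᵥ x) ∈ fixSp g ∧ (2 : F)⁻¹ • (x - (g : Matrix κ κ F) *ᵥ x) ∈ negSp g ∧
      x = (2 : F)⁻¹ • (x + (g : Matrix κ κ F) *ᵥ x) + (2 : F)⁻¹ • (x - (g : Matrix κ κ F) *ᵥ x) := by
  have h : (g : Matrix κ κ F) *ᵥ ((g : Matrix κ κ F) *ᵥ x) = x := by
    rw [← gl_mul_mulVec, hg, Units.val_one, one_mulVec]
  refine ⟨mem_fixSp.2 ?_, mem_negSp.2 ?_, ?_⟩
  · rw [mulVec_smul, mulVec_add, h, add_comm]
  · rw [mulVec_smul, mulVec_sub, h, ← smul_neg, neg_sub]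
  · match_scalars <;> field_simp <;> ring

theorem invol_finrank (h2 : (2 : F) ≠ 0) {g : GL κ F} (hg : g * g = 1) :
    Module.finrank F (fixSp g) + Module.finrank F (negSp g) = Fintype.card κ := by
  rw [← Submodule.finrank_sup_add_finrank_inf_eq, fix_neg_disjoint h2, finrank_bot, add_zero,
    show fixSp g ⊔ negSp g = ⊤ from eq_top_iff.2 fun x _ => by
      obtain ⟨h1, h3, h4⟩ := invol_decomp h2 hg x
      rw [h4]; exact Submodule.add_mem_sup h1 h3,
    finrank_top, Module.finrank_fintype_fun_eq_card]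

theorem negSp_conj (g x : GL κ F) : Module.finrank F (negSp (g * x * g⁻¹)) = Module.finrank F (negSp x) := by
  have hinj : Function.Injective (Matrix.mulVecLin (g : Matrix κ κ F)) := fun u v huv => by
    rw [← gl_inv_mulVec g u, ← gl_inv_mulVec g v]; exact congrArg _ huv
  have h : (negSp x).map (Matrix.mulVecLin (g : Matrix κ κ F)) = negSp (g * x * g⁻¹) := by
    ext z
    constructor
    · rintro ⟨v, hv, rfl⟩
      rw [mem_negSp, Matrix.mulVecLin_apply, gl_mul_mulVec, gl_mul_mulVec, gl_inv_mulVec, mem_negSp.1 hv, mulVec_neg]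
    · intro hz
      refine ⟨((g⁻¹ : GL κ F) : Matrix κ κ F) *ᵥ z, mem_negSp.2 ?_, gl_mulVec_inv g z⟩
      have h1 := mem_negSp.1 hz
      rw [gl_mul_mulVec, gl_mul_mulVec] at h1
      rw [← mulVec_neg, ← h1, gl_inv_mulVec]
  rw [← h, ((Submodule.equivMapOfInjective _ hinj (negSp x)).finrank_eq)]

variable {f : (κ → F) → (κ → F) → F}

theorem nd_eigen (hf : IsSymmetricForm f) (h2 : (2 : F) ≠ 0) {g : GL κ F} (hg : g * g = 1)
    (hi : ∀ x y, f ((g : Matrix κ κ F) *ᵥ x) ((g : Matrix κ κ F) *ᵥ y) = f x y) : Nd f (fixSp g) ∧ Nd f (negSp g) := by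
  have horth : ∀ x ∈ fixSp g, ∀ y ∈ negSp g, f x y = 0 := fun x hx y hy => by
    have h := hi x y
    rw [mem_fixSp.1 hx, mem_negSp.1 hy, Orth.sym_neg_right hf] at h
    exact (mul_eq_zero.1 (show (2 : F) * f x y = 0 by linear_combination -h)).resolve_left h2
  constructor <;> intro v hv hv0 <;> obtain ⟨w, hw⟩ := (hf.nondegenerate v hv0).2 <;>
    obtain ⟨h1, h3, h4⟩ := invol_decomp h2 hg w
  · refine ⟨_, h1, ?_⟩
    rw [h4, hf.bilinear.add_right, horth v hv _ h3, add_zero] at hw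
    exact hw
  · refine ⟨_, h3, ?_⟩
    rw [h4, hf.bilinear.add_right, hf.symm v, horth _ h1 v hv, zero_add] at hw
    exact hw

end Eigen

variable {ι : Type} [Fintype ι] [DecidableEq ι] {F : Type*} [Field F] [Fintype F] {r s : ℕ}
variable {e : ι ≃ Fin r × Fin s} {P : GL ι F}
variable {Q : (ι → F) → F} {f₁ : (Fin r → F) → (Fin r → F) → F} {f₂ : (Fin s → F) → (Fin s → F) → F}
variable {k : F} {M : Subgroup (GL ι F)}

local notation "T" => tvec e P
local notation "Qf" => QuadraticMap.polar Q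

theorem kgL_inj (hs : 0 < s) {A A' : GL (Fin r) F} (h : kg e P A (1 : GL (Fin s) F) = kg e P A' (1 : GL (Fin s) F)) :
    A = A' := by
  obtain ⟨y, hy⟩ : ∃ y : Fin s → F, y ≠ 0 := ⟨Pi.single ⟨0, hs⟩ 1, by simp⟩
  refine gl_ext_vec fun x => tvec_left_inj (e := e) (P := P) hy ?_
  have h1 := congrArg (fun g : GL ι F => (g : Matrix ι ι F) *ᵥ T x y) h
  simpa [kg_tvec] using h1

/-- pure tensors bound dimensions from below -/
theorem tensor_le {X : Submodule F (Fin r → F)} {Y : Submodule F (Fin s → F)} {Z : Submodule F (ι → F)}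
    (h : ∀ x ∈ X, ∀ y ∈ Y, T x y ∈ Z) :
    Module.finrank F X * Module.finrank F Y ≤ Module.finrank F Z := by
  let bx := Module.finBasis F X
  let bY := Module.finBasis F Y
  let v : Fin (Module.finrank F X) × Fin (Module.finrank F Y) → Z := fun ij =>
    ⟨T (bx ij.1 : Fin r → F) (bY ij.2 : Fin s → F), h _ (bx ij.1).2 _ (bY ij.2).2⟩
  have hli : LinearIndependent F v := Fintype.linearIndependent_iff.2 fun g hsum => by
    have hsum' : ∑ ij, g ij • T (bx ij.1 : Fin r → F) (bY ij.2 : Fin s → F) = 0 := by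
      have h1 := congrArg (fun z : Z => (z : ι → F)) hsum
      simpa [v] using h1
    have hy : ∀ (γ : Fin r → F) j, γ ⬝ᵥ ((∑ i, g (i, j) • bx i : X) : Fin r → F) = 0 := by
      intro γ
      have h1 := congrArg (rc e P γ) hsum'
      simp only [map_sum, map_smul, rc_tvec, map_zero, Fintype.sum_prod_type] at h1
      rw [Finset.sum_comm] at h1
      have h2 : (∑ j, (∑ i, g (i, j) * (γ ⬝ᵥ (bx i : Fin r → F))) • bY j : Y) = 0 := Subtype.ext (by
        simpa [Finset.sum_smul, smul_smul] using h1)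
      intro j
      have h3 := Fintype.linearIndependent_iff.1 bY.linearIndependent _ h2 j
      simpa [dotProduct_sum, dotProduct_smul] using h3
    intro ij
    have h0 : (∑ i, g (i, ij.2) • bx i : X) = 0 := by
      refine Subtype.ext (funext fun l => ?_)
      simpa [single_dotProduct] using hy (Pi.single l 1) ij.2
    exact Fintype.linearIndependent_iff.1 bx.linearIndependent (fun i => g (i, ij.2)) h0 ij.1
  simpa using hli.fintype_card_le_finrank

/-- the negated space of a tensor product of involutions -/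
theorem neg_dim (h2 : (2 : F) ≠ 0) {A : GL (Fin r) F} {B : GL (Fin s) F} (hA : A * A = 1) (hB : B * B = 1) :
    Module.finrank F (negSp (kg e P A B)) = Module.finrank F (negSp A) * Module.finrank F (fixSp B) +
      Module.finrank F (fixSp A) * Module.finrank F (negSp B) := by
  obtain ⟨q, hq⟩ : ∃ q, q = kg e P A B := ⟨_, rfl⟩
  obtain ⟨q1, hq1⟩ : ∃ q1, q1 = kg e P A (1 : GL (Fin s) F) := ⟨_, rfl⟩
  rw [← hq]
  have hqq : q * q = 1 := by rw [hq, kg_mul, hA, hB, kg_one]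
  have key : ∀ {X : Submodule F (Fin r → F)} {Y : Submodule F (Fin s → F)} {S S' : Submodule F (ι → F)},
      (∀ x ∈ X, ∀ y ∈ Y, T x y ∈ S ∧ T x y ∈ S') → Module.finrank F X * Module.finrank F Y ≤
        Module.finrank F (S ⊓ S' : Submodule F (ι → F)) := fun h => tensor_le fun x hx y hy => ⟨(h x hx y hy).1, (h x hx y hy).2⟩
  have hadd : ∀ S : Submodule F (ι → F),
      Module.finrank F (S ⊓ fixSp q1 : Submodule F (ι → F)) + Module.finrank F (S ⊓ negSp q1 : Submodule F (ι → F)) ≤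
        Module.finrank F S := fun S => by
    rw [← Submodule.finrank_sup_add_finrank_inf_eq,
      show S ⊓ fixSp q1 ⊓ (S ⊓ negSp q1) = ⊥ from eq_bot_iff.2 (le_trans (inf_le_inf inf_le_right inf_le_right)
        (fix_neg_disjoint h2 q1).le), finrank_bot, add_zero]
    exact Submodule.finrank_mono (sup_le inf_le_left inf_le_left)
  have h1 := key (X := negSp A) (Y := fixSp B) (S := negSp q) (S' := negSp q1) fun x hx y hy => by
    constructor <;> simp [mem_negSp, hq, hq1, kg_tvec, mem_negSp.1 hx, mem_fixSp.1 hy, tvec_neg_left]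
  have h3 := key (X := fixSp A) (Y := negSp B) (S := negSp q) (S' := fixSp q1) fun x hx y hy => by
    constructor <;>
      simp [mem_negSp, mem_fixSp, hq, hq1, kg_tvec, mem_fixSp.1 hx, mem_negSp.1 hy, tvec_neg_right]
  have h4 := key (X := fixSp A) (Y := fixSp B) (S := fixSp q) (S' := fixSp q1) fun x hx y hy => by
    constructor <;> simp [mem_fixSp, hq, hq1, kg_tvec, mem_fixSp.1 hx, mem_fixSp.1 hy]
  have h5 := key (X := negSp A) (Y := negSp B) (S := fixSp q) (S' := negSp q1) fun x hx y hy => by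
    constructor <;>
      simp [mem_negSp, mem_fixSp, hq, hq1, kg_tvec, mem_negSp.1 hx, mem_negSp.1 hy, tvec_neg_left, tvec_neg_right]
  have h6 := hadd (negSp q)
  have h7 := hadd (fixSp q)
  have h8 := invol_finrank h2 hqq
  have hcard : Fintype.card ι = r * s := by simpa using Fintype.card_congr e
  have h9 := invol_finrank h2 hA
  have h10 := invol_finrank h2 hB
  rw [Fintype.card_fin] at h9 h10
  have h11 : r * s = Module.finrank F (negSp A) * Module.finrank F (fixSp B) +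
      Module.finrank F (fixSp A) * Module.finrank F (negSp B) + Module.finrank F (fixSp A) * Module.finrank F (fixSp B) +
      Module.finrank F (negSp A) * Module.finrank F (negSp B) := by
    calc r * s = (Module.finrank F (fixSp A) + Module.finrank F (negSp A)) *
          (Module.finrank F (fixSp B) + Module.finrank F (negSp B)) := by rw [h9, h10]
      _ = _ := by ring
  omega

theorem neg_dim_left (h2 : (2 : F) ≠ 0) {A : GL (Fin r) F} (hA : A * A = 1) :
    Module.finrank F (negSp (kg e P A (1 : GL (Fin s) F))) = Module.finrank F (negSp A) * s := by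
  have h := neg_dim (e := e) (P := P) h2 hA (one_mul (1 : GL (Fin s) F))
  have hb := invol_finrank (F := F) (κ := Fin s) h2 (one_mul (1 : GL (Fin s) F))
  have hb0 : negSp (1 : GL (Fin s) F) = ⊥ := (Submodule.eq_bot_iff _).2 fun x hx => by
    have h1 := mem_negSp.1 hx
    rw [Units.val_one, one_mulVec] at h1
    have h' : (2 : F) • x = 0 := by linear_combination (norm := module) h1
    exact (smul_eq_zero.1 h').resolve_left h2
  rw [hb0, finrank_bot, add_zero, Fintype.card_fin] at hb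
  rw [h, hb0, finrank_bot, mul_zero, add_zero, hb]

variable (D : OO Q f₁ f₂ e P k M)
include D

/-- normalised involutions in the tensor product subgroup -/
theorem OO.invol_data (hr : Odd r) {q : GL ι F} (hq : q ∈ Cfsg.isometryGroup F Q)
    (hT : q ∈ tensorProductSubgroup r s e P) (hqq : q * q = 1) :
    ∃ (A : GL (Fin r) F) (B : GL (Fin s) F), A * A = 1 ∧ B * B = 1 ∧
      (∀ x x', f₁ ((A : Matrix (Fin r) (Fin r) F) *ᵥ x) ((A : Matrix (Fin r) (Fin r) F) *ᵥ x') = f₁ x x') ∧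
      (∀ y y', f₂ ((B : Matrix (Fin s) (Fin s) F) *ᵥ y) ((B : Matrix (Fin s) (Fin s) F) *ᵥ y') = f₂ y y') ∧
      q = kg e P A B := by
  have hg₁ := D.s1
  have h2 := D.two
  obtain ⟨A, B, μ, ν, hμν, hA, hB, rfl⟩ := D.tensor_data hq hT
  rw [kg_mul] at hqq
  have hsq : ∀ x y, T (((A * A : GL (Fin r) F) : Matrix (Fin r) (Fin r) F) *ᵥ x)
      (((B * B : GL (Fin s) F) : Matrix (Fin s) (Fin s) F) *ᵥ y) = T x y := fun x y => by
    rw [← kg_tvec, hqq, Units.val_one, one_mulVec]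
  obtain ⟨y0, hy0⟩ : ∃ y : Fin s → F, y ≠ 0 := ⟨Pi.single ⟨0, by have := D.s3; omega⟩ 1, by simp⟩
  obtain ⟨δ, hδ⟩ := exists_dot_one (show ((B * B : GL (Fin s) F) : Matrix (Fin s) (Fin s) F) *ᵥ y0 ≠ 0 from
    fun h => hy0 (gl_mulVec_eq_zero.1 h))
  obtain ⟨c, hc⟩ : ∃ c, c = δ ⬝ᵥ y0 := ⟨_, rfl⟩
  have hAA : ∀ x, ((A * A : GL (Fin r) F) : Matrix (Fin r) (Fin r) F) *ᵥ x = c • x := fun x => by
    have h := congrArg (co e P δ) (hsq x y0)
    rwa [co_tvec, co_tvec, hδ, one_smul, ← hc] at h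
  obtain ⟨x0, hx0⟩ : ∃ x : Fin r → F, x ≠ 0 := ⟨Pi.single ⟨0, by have := D.r3; omega⟩ 1, by simp⟩
  have hc0 : c ≠ 0 := fun h => hx0 (gl_mulVec_eq_zero.1 (by rw [hAA x0, h, zero_smul]))
  have hBB : ∀ y, ((B * B : GL (Fin s) F) : Matrix (Fin s) (Fin s) F) *ᵥ y = c⁻¹ • y := fun y => by
    refine tvec_right_inj (e := e) (P := P) (smul_ne_zero hc0 hx0) ?_
    have h := hsq x0 y
    rw [hAA] at h
    rw [h, tvec_smul_right, tvec_smul_left, smul_smul, inv_mul_cancel₀ hc0, one_smul]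
  obtain ⟨t, ht⟩ := hr
  obtain ⟨l, hl⟩ : ∃ l, l = (A : Matrix (Fin r) (Fin r) F).det / c ^ t := ⟨_, rfl⟩
  have hlc : l * l = c := by
    have hm : ((A * A : GL (Fin r) F) : Matrix (Fin r) (Fin r) F) = c • (1 : Matrix (Fin r) (Fin r) F) :=
      Matrix.ext_iff_mulVec.2 fun x => by rw [hAA, smul_mulVec, one_mulVec]
    have hd := congrArg Matrix.det hm
    rw [Units.val_mul, Matrix.det_mul, Matrix.det_smul, Matrix.det_one, mul_one, Fintype.card_fin,
      show c ^ r = c ^ (2 * t + 1) by rw [ht]] at hd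
    rw [hl, div_mul_div_comm, hd, pow_succ, two_mul, pow_add]
    field_simp
  have hl0 : l ≠ 0 := fun h => hc0 (by rw [← hlc, h, mul_zero])
  have hAinj : Function.Injective (l⁻¹ • Matrix.mulVecLin (A : Matrix (Fin r) (Fin r) F)) :=
    (injective_iff_map_eq_zero _).2 fun x hx => gl_mulVec_eq_zero.1
      ((smul_eq_zero.1 (show l⁻¹ • ((A : Matrix (Fin r) (Fin r) F) *ᵥ x) = 0 from hx)).resolve_left (inv_ne_zero hl0))
  have hBinj : Function.Injective (l • Matrix.mulVecLin (B : Matrix (Fin s) (Fin s) F)) :=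
    (injective_iff_map_eq_zero _).2 fun x hx => gl_mulVec_eq_zero.1
      ((smul_eq_zero.1 (show l • ((B : Matrix (Fin s) (Fin s) F) *ᵥ x) = 0 from hx)).resolve_left hl0)
  obtain ⟨A0, hA0⟩ : ∃ A0, A0 = glInj _ hAinj := ⟨_, rfl⟩
  obtain ⟨B0, hB0⟩ : ∃ B0, B0 = glInj _ hBinj := ⟨_, rfl⟩
  have hA0v : ∀ x, (A0 : Matrix (Fin r) (Fin r) F) *ᵥ x = l⁻¹ • ((A : Matrix (Fin r) (Fin r) F) *ᵥ x) := fun x => by
    rw [hA0, glInj_mulVec]; rfl
  have hB0v : ∀ y, (B0 : Matrix (Fin s) (Fin s) F) *ᵥ y = l • ((B : Matrix (Fin s) (Fin s) F) *ᵥ y) := fun y => by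
    rw [hB0, glInj_mulVec]; rfl
  have hA2 : A0 * A0 = 1 := gl_ext_vec fun x => by
    rw [gl_mul_mulVec, hA0v, hA0v, mulVec_smul, smul_smul, ← gl_mul_mulVec, hAA, smul_smul, Units.val_one, one_mulVec,
      ← hlc, show l⁻¹ * l⁻¹ * (l * l) = 1 by field_simp, one_smul]
  have hB2 : B0 * B0 = 1 := gl_ext_vec fun y => by
    rw [gl_mul_mulVec, hB0v, hB0v, mulVec_smul, smul_smul, ← gl_mul_mulVec, hBB, smul_smul, Units.val_one, one_mulVec,
      ← hlc, mul_inv_cancel₀ (mul_ne_zero hl0 hl0), one_smul]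
  obtain ⟨μ', hμ'⟩ : ∃ μ', μ' = l⁻¹ * l⁻¹ * μ := ⟨_, rfl⟩
  have hA' : ∀ x x', f₁ ((A0 : Matrix (Fin r) (Fin r) F) *ᵥ x) ((A0 : Matrix (Fin r) (Fin r) F) *ᵥ x') =
      μ' * f₁ x x' := fun x x' => by
    rw [hA0v, hA0v, hg₁.bilinear.smul_left, hg₁.bilinear.smul_right, hA, hμ']; ring
  obtain ⟨v1, v2, hv⟩ := D.exists_pair₁
  have hμsq : μ' * μ' = 1 := by
    have h := hA' ((A0 : Matrix (Fin r) (Fin r) F) *ᵥ v1) ((A0 : Matrix (Fin r) (Fin r) F) *ᵥ v2)
    rw [← gl_mul_mulVec, ← gl_mul_mulVec, hA2, Units.val_one, one_mulVec, one_mulVec, hA', hv, mul_one] at h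
    exact h.symm
  have hμ1 : μ' = 1 := by
    refine (mul_self_eq_one_iff.1 hμsq).resolve_right fun hm => ?_
    have hts : ∀ S : Submodule F (Fin r → F), (S = fixSp A0 ∨ S = negSp A0) → 2 * Module.finrank F S ≤ r := by
      intro S hS
      have h := Orth.two_mul_finrank_le hg₁ (W := S) fun x hx y hy => by
        have h1 := hA' x y
        rcases hS with rfl | rfl
        · rw [mem_fixSp.1 hx, mem_fixSp.1 hy, hm] at h1
          exact (mul_eq_zero.1 (show (2 : F) * f₁ x y = 0 by linear_combination h1)).resolve_left h2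
        · rw [mem_negSp.1 hx, mem_negSp.1 hy, hm, Orth.sym_neg_left hg₁, Orth.sym_neg_right hg₁] at h1
          exact (mul_eq_zero.1 (show (2 : F) * f₁ x y = 0 by linear_combination h1)).resolve_left h2
      simpa using h
    have e1 := hts _ (Or.inl rfl)
    have e2 := hts _ (Or.inr rfl)
    have e3 := invol_finrank h2 hA2
    rw [Fintype.card_fin] at e3
    omega
  refine ⟨A0, B0, hA2, hB2, fun x x' => by rw [hA', hμ1, one_mul], fun y y' => ?_,
    gl_ext_tvec (e := e) (P := P) fun x y => by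
      rw [kg_tvec, kg_tvec, hA0v, hB0v, tvec_smul_left, tvec_smul_right, smul_smul, inv_mul_cancel₀ hl0, one_smul]⟩
  rw [hB0v, hB0v, D.s2.bilinear.smul_left, D.s2.bilinear.smul_right, hB]
  rw [hμ'] at hμ1
  field_simp at hμ1
  linear_combination (ν * f₂ y y') * (-hμ1) + f₂ y y' * hμν

omit D in
theorem not_twelve {a b : ℕ} (ha : 5 ≤ a) (hb : 4 ≤ b) : a * b ≠ 12 := fun h => by
  have := Nat.mul_le_mul ha hb
  omega

theorem OO.invol_data' (hodd : Odd r ∨ Odd s) {q : GL ι F} (hq : q ∈ Cfsg.isometryGroup F Q)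
    (hT : q ∈ tensorProductSubgroup r s e P) (hqq : q * q = 1) :
    ∃ (A : GL (Fin r) F) (B : GL (Fin s) F), A * A = 1 ∧ B * B = 1 ∧
      (∀ x x', f₁ ((A : Matrix (Fin r) (Fin r) F) *ᵥ x) ((A : Matrix (Fin r) (Fin r) F) *ᵥ x') = f₁ x x') ∧
      (∀ y y', f₂ ((B : Matrix (Fin s) (Fin s) F) *ᵥ y) ((B : Matrix (Fin s) (Fin s) F) *ᵥ y') = f₂ y y') ∧
      q = kg e P A B := by
  rcases hodd with h | h
  · exact D.invol_data h hq hT hqq
  · obtain ⟨B, A, hB, hA, hBi, hAi, hq'⟩ := D.swap.invol_data h hq (by rwa [tensor_swap]) hqq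
    exact ⟨A, B, hA, hB, hAi, hBi, by rw [hq', kg_swap]⟩

theorem OO.conj_mem_big (hfull : ¬ omegaGL Q ≤ M) (hsr : s < r) (hodd : Odd r ∨ Odd s) {y c : GL ι F}
    (hy : y ∈ M) (hyy : y * y = 1) (hC : ∀ g ∈ M, g * y = y * g → g ∈ tensorProductSubgroup r s e P)
    (hy6 : r * s = 12 → Module.finrank F (negSp y) ≠ 6) (hc : c ∈ M)
    (hq : c * y * c⁻¹ ∈ tensorProductSubgroup r s e P) : c ∈ tensorProductSubgroup r s e P := by
  have hg₁ := D.s1
  have h2 := D.two
  have hqq : c * y * c⁻¹ * (c * y * c⁻¹) = 1 := by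
    rw [show c * y * c⁻¹ * (c * y * c⁻¹) = c * (y * y) * c⁻¹ by group, hyy, mul_one, mul_inv_cancel]
  obtain ⟨A, B, hA2, hB2, hAi, hBi, hqAB⟩ :=
    D.invol_data' hodd (D.le_iso (mul_mem (mul_mem hc hy) (inv_mem hc))) hq hqq
  obtain ⟨X, hXnd, hX3, σ, hσ, hXσ⟩ : ∃ X : Submodule F (Fin r → F), Nd f₁ X ∧ 3 ≤ Module.finrank F X ∧
      ∃ σ : F, σ * σ = 1 ∧ ∀ x ∈ X, (A : Matrix (Fin r) (Fin r) F) *ᵥ x = σ • x := by
    obtain ⟨h1, h3⟩ := nd_eigen hg₁ h2 hA2 hAi
    have h4 := invol_finrank h2 hA2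
    rw [Fintype.card_fin] at h4
    have := D.s3
    have h6 : ¬ (r = 4 ∧ Module.finrank F (fixSp A) = 2 ∧ Module.finrank F (negSp A) = 2) := by
      rintro ⟨h4r, hfA, hnA⟩
      have h3s : s = 3 := by omega
      refine hy6 (by subst h4r h3s; rfl) ?_
      have h7 := invol_finrank h2 hB2
      rw [Fintype.card_fin] at h7
      rw [← negSp_conj c y, hqAB, neg_dim h2 hA2 hB2, hfA, hnA]
      omega
    by_cases h5 : 3 ≤ Module.finrank F (fixSp A)
    · exact ⟨_, h1, h5, 1, one_mul 1, fun x hx => by rw [mem_fixSp.1 hx, one_smul]⟩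
    · exact ⟨_, h3, by omega, -1, by ring, fun x hx => by rw [mem_negSp.1 hx, neg_one_smul]⟩
  obtain ⟨a, haX, ha0, haa⟩ := nd_singular hg₁ h2 hXnd hX3
  obtain ⟨a', ha'X, ha'a', ha'a⟩ := nd_partner hg₁ h2 hXnd haX ha0 haa
  have hd := pair_finrank hg₁ X a a'
  obtain ⟨w, hw, hww⟩ := nd_aniso hg₁ h2 (nd_perp_pair hg₁ hXnd haX ha'X haa ha'a' ha'a) (by omega)
  have haw : f₁ a w = 0 := by rw [hg₁.symm]; exact hw.1.2
  obtain ⟨E0, hE0⟩ : ∃ E0, E0 = eic hg₁ a w := ⟨_, rfl⟩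
  have hcomm : A * E0 = E0 * A := by
    have h1 := eic_conj hg₁ h2 haa haw hAi
    have h3 : eic hg₁ ((A : Matrix (Fin r) (Fin r) F) *ᵥ a) ((A : Matrix (Fin r) (Fin r) F) *ᵥ w) = E0 := by
      rw [hXσ a haX, hXσ w hw.1.1, hE0]
      refine gl_ext_vec fun x => ?_
      rw [eic_mulVec hg₁ h2 (by simp [hg₁.bilinear.smul_left, hg₁.bilinear.smul_right, haa])
          (by simp [hg₁.bilinear.smul_left, hg₁.bilinear.smul_right, haw]), eic_mulVec hg₁ h2 haa haw]
      simp only [hg₁.bilinear.smul_left, hg₁.bilinear.smul_right, smul_smul]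
      rcases mul_self_eq_one_iff.1 hσ with rfl | rfl <;> match_scalars <;> ring
    rw [h3, ← hE0] at h1
    exact mul_inv_eq_iff_eq_mul.1 h1
  have hEM : kg e P E0 (1 : GL (Fin s) F) ∈ M := hE0 ▸ D.eicL_mem haa haw
  have hqE : c * y * c⁻¹ * kg e P E0 (1 : GL (Fin s) F) = kg e P E0 (1 : GL (Fin s) F) * (c * y * c⁻¹) := by
    rw [hqAB, kg_mul, kg_mul, hcomm, mul_one, one_mul]
  obtain ⟨E, hE⟩ : ∃ E, E = kg e P E0 (1 : GL (Fin s) F) := ⟨_, rfl⟩
  rw [← hE] at hqE hEM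
  have hm := hC (c⁻¹ * E * c⁻¹⁻¹) (mul_mem (mul_mem (inv_mem hc) hEM) (inv_mem (inv_mem hc))) (by
    calc c⁻¹ * E * c⁻¹⁻¹ * y = c⁻¹ * (E * (c * y * c⁻¹)) * c := by group
      _ = c⁻¹ * (c * y * c⁻¹ * E) * c := by rw [hqE]
      _ = y * (c⁻¹ * E * c⁻¹⁻¹) := by group)
  have h := D.recog_big hfull hsr ha0 haa haw hww (inv_mem hc) (by rwa [← hE0, ← hE])
  simpa using inv_mem h

theorem OO.conj_mem (hfull : ¬ omegaGL Q ≤ M) (hrs : r ≠ s) (hodd : Odd r ∨ Odd s) {y c : GL ι F}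
    (hy : y ∈ M) (hyy : y * y = 1) (hC : ∀ g ∈ M, g * y = y * g → g ∈ tensorProductSubgroup r s e P)
    (hy6 : r * s = 12 → Module.finrank F (negSp y) ≠ 6) (hc : c ∈ M)
    (hq : c * y * c⁻¹ ∈ tensorProductSubgroup r s e P) : c ∈ tensorProductSubgroup r s e P := by
  rcases lt_or_gt_of_ne hrs with h | h
  · have h1 := D.swap.conj_mem_big hfull h hodd.symm hy hyy
      (fun g hg hgy => by rw [tensor_swap]; exact hC g hg hgy) (fun h' => hy6 (by rwa [mul_comm]))
      hc (by rwa [tensor_swap])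
    rwa [tensor_swap] at h1
  · exact D.conj_mem_big hfull h hodd hy hyy hC hy6 hc hq

end CfsgLib.Perm.Trans.TensorOO
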