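import Mathlib
import Cfsg.Agent.Lib.Perm.Trans.TensorOO.Invol
import Cfsg.Agent.Lib.Perm.Trans.TensorOO.Coprime

/-!
# Elements fixing a pure subspace pointwise, and centralisers of involutions
-/

set_option autoImplicit false
set_option linter.all false

namespace CfsgLib.Perm.Trans.TensorOO

open scoped Matrix
open Matrix Cfsg.Geo CfsgLib.Perm.Asch CfsgLib.Perm.Trans CfsgLib.Perm.Trans.TensorFrame
open CfsgLib.Perm.Trans.TensorMax CfsgLib.Perm.Trans.Quad CfsgLib.Perm.Trans.TensorSO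

variable {ι : Type} [Fintype ι] [DecidableEq ι] {F : Type*} [Field F] [Fintype F] {r s : ℕ}
variable {e : ι ≃ Fin r × Fin s} {P : GL ι F}
variable {Q : (ι → F) → F} {f₁ : (Fin r → F) → (Fin r → F) → F} {f₂ : (Fin s → F) → (Fin s → F) → F}
variable {k : F} {M : Subgroup (GL ι F)}

local notation "T" => tvec e P
local notation "Qf" => QuadraticMap.polar Q

variable (D : OO Q f₁ f₂ e P k M)
include D

/-- the centraliser of `t ⊗ 1` in `M` lies in the tensor product subgroup -/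
def OO.Good (D : OO Q f₁ f₂ e P k M) (t : GL (Fin r) F) : Prop :=
  ∀ g ∈ M, g * kg e P t (1 : GL (Fin s) F) = kg e P t (1 : GL (Fin s) F) * g → g ∈ tensorProductSubgroup r s e P

/-- elements fixing `d ⊗ W` pointwise lie in the tensor product subgroup -/
def OO.Fix (D : OO Q f₁ f₂ e P k M) : Prop :=
  ∀ d, d ≠ 0 → ∀ x ∈ M, (∀ y, (x : Matrix ι ι F) *ᵥ T d y = T d y) → x ∈ tensorProductSubgroup r s e P

/-- an involution acting on a pure subspace as `γ` with the negated space of the size of that of `γ ⊗ 1` -/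
theorem OO.pure_invol (hr : Odd r) {q : GL ι F} (hq : q ∈ Cfsg.isometryGroup F Q)
    (hT : q ∈ tensorProductSubgroup r s e P) (hqq : q * q = 1) {γ : GL (Fin r) F} (hγ : γ * γ = 1) {v : Fin s → F}
    (hv : v ≠ 0) (hact : ∀ a, (q : Matrix ι ι F) *ᵥ T a v = T ((γ : Matrix (Fin r) (Fin r) F) *ᵥ a) v)
    (hdim : Module.finrank F (negSp q) = Module.finrank F (negSp γ) * s) : q = kg e P γ (1 : GL (Fin s) F) := by
  have h2 := D.two
  obtain ⟨A, B, hA2, hB2, -, -, hqAB⟩ := D.invol_data hr hq hT hqq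
  obtain ⟨δ, hδ⟩ := exists_dot_one (show (B : Matrix (Fin s) (Fin s) F) *ᵥ v ≠ 0 from fun h => hv (gl_mulVec_eq_zero.1 h))
  obtain ⟨ε, hε⟩ : ∃ ε, ε = δ ⬝ᵥ v := ⟨_, rfl⟩
  have hAγ : ∀ a, (A : Matrix (Fin r) (Fin r) F) *ᵥ a = ε • ((γ : Matrix (Fin r) (Fin r) F) *ᵥ a) := fun a => by
    have h := congrArg (co e P δ) (hact a)
    rwa [hqAB, kg_tvec, co_tvec, co_tvec, hδ, one_smul, ← hε] at h
  have hεsq : ε * ε = 1 := by
    obtain ⟨x0, hx0⟩ : ∃ x : Fin r → F, x ≠ 0 := ⟨Pi.single ⟨0, by have := D.r3; omega⟩ 1, by simp⟩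
    have h : (A : Matrix (Fin r) (Fin r) F) *ᵥ ((A : Matrix (Fin r) (Fin r) F) *ᵥ x0) = x0 := by
      rw [← gl_mul_mulVec, hA2, Units.val_one, one_mulVec]
    rw [hAγ, hAγ, mulVec_smul, smul_smul, ← gl_mul_mulVec, hγ, Units.val_one, one_mulVec] at h
    exact smul_left_injective F hx0 (h.trans (one_smul F x0).symm)
  have hε0 : ε ≠ 0 := fun h => by rw [h, mul_zero] at hεsq; exact zero_ne_one hεsq
  have hinj : Function.Injective (ε • Matrix.mulVecLin (B : Matrix (Fin s) (Fin s) F)) :=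
    (injective_iff_map_eq_zero _).2 fun x hx => gl_mulVec_eq_zero.1
      ((smul_eq_zero.1 (show ε • ((B : Matrix (Fin s) (Fin s) F) *ᵥ x) = 0 from hx)).resolve_left hε0)
  obtain ⟨B', hB'⟩ : ∃ B', B' = glInj _ hinj := ⟨_, rfl⟩
  have hB'v : ∀ y, (B' : Matrix (Fin s) (Fin s) F) *ᵥ y = ε • ((B : Matrix (Fin s) (Fin s) F) *ᵥ y) := fun y => by
    rw [hB', glInj_mulVec]; rfl
  have hB'2 : B' * B' = 1 := gl_ext_vec fun y => by
    rw [gl_mul_mulVec, hB'v, hB'v, mulVec_smul, smul_smul, hεsq, one_smul, ← gl_mul_mulVec, hB2]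
  have hq' : q = kg e P γ B' := gl_ext_tvec (e := e) (P := P) fun x y => by
    rw [hqAB, kg_tvec, kg_tvec, hAγ, hB'v, tvec_smul_left, tvec_smul_right]
  have h1 := invol_finrank h2 hγ
  have h3 := invol_finrank h2 hB'2
  rw [Fintype.card_fin] at h1 h3
  rw [hq', neg_dim h2 hγ hB'2] at hdim
  have hzero : Module.finrank F (negSp B') = 0 := by
    obtain ⟨b, hb⟩ : ∃ b, b = Module.finrank F (negSp γ) := ⟨_, rfl⟩
    obtain ⟨a, ha⟩ : ∃ a, a = Module.finrank F (fixSp γ) := ⟨_, rfl⟩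
    rw [← hb, ← ha] at hdim
    by_contra hne
    have h5 := congrArg (b * ·) h3
    simp only [Nat.mul_add] at h5
    have := Nat.eq_of_mul_eq_mul_right (Nat.pos_of_ne_zero hne)
      (show a * Module.finrank F (negSp B') = b * Module.finrank F (negSp B') by omega)
    rw [← hb, ← ha] at h1
    obtain ⟨t, ht⟩ := hr
    omega
  have hB1 : B' = 1 := gl_ext_vec fun y => by
    obtain ⟨h4, h5, h6⟩ := invol_decomp h2 hB'2 y
    rw [Submodule.finrank_eq_zero.1 hzero, Submodule.mem_bot] at h5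
    rw [h5, add_zero] at h6
    rw [h6, mem_fixSp.1 h4, Units.val_one, one_mulVec]
  rw [hq', hB1]

/-- three good involutions of a commuting pair give the fixators on the other side -/
theorem OO.v4 (hr : Odd r) {β β2 : GL (Fin r) F} (hβ : β * β = 1) (hβ2 : β2 * β2 = 1) (hcomm : β * β2 = β2 * β)
    (hne : β ≠ β2) (hβM : kg e P β (1 : GL (Fin s) F) ∈ M) (hβ2M : kg e P β2 (1 : GL (Fin s) F) ∈ M)
    (hG : D.Good β) (hG2 : D.Good β2) (hG3 : D.Good (β * β2)) {v : Fin s → F} (hv : v ≠ 0) {x : GL ι F} (hx : x ∈ M)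
    (hfix : ∀ a, (x : Matrix ι ι F) *ᵥ T a v = T a v) : x ∈ tensorProductSubgroup r s e P := by
  have h2 := D.two
  obtain ⟨y1, hy1⟩ : ∃ y1, y1 = kg e P β (1 : GL (Fin s) F) := ⟨_, rfl⟩
  obtain ⟨y, hy⟩ : ∃ y, y = kg e P β2 (1 : GL (Fin s) F) := ⟨_, rfl⟩
  rw [← hy1] at hβM
  rw [← hy] at hβ2M
  obtain ⟨x', hx'⟩ : ∃ x', x' = x * y1 * x⁻¹ := ⟨_, rfl⟩
  have hxinv : ∀ a, ((x⁻¹ : GL ι F) : Matrix ι ι F) *ᵥ T a v = T a v := fun a => by
    conv_lhs => rw [← hfix a, gl_inv_mulVec]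
  have hx'v : ∀ a, (x' : Matrix ι ι F) *ᵥ T a v = T ((β : Matrix (Fin r) (Fin r) F) *ᵥ a) v := fun a => by
    rw [hx', gl_mul_mulVec, gl_mul_mulVec, hxinv, hy1, kg_tvec, Units.val_one, one_mulVec, hfix]
  have hyv : ∀ a, (y : Matrix ι ι F) *ᵥ T a v = T ((β2 : Matrix (Fin r) (Fin r) F) *ᵥ a) v := fun a => by
    rw [hy, kg_tvec, Units.val_one, one_mulVec]
  have hx'M : x' ∈ M := hx' ▸ mul_mem (mul_mem hx hβM) (inv_mem hx)
  have hy1y1 : y1 * y1 = 1 := by rw [hy1, kg_mul, hβ, one_mul, kg_one]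
  have hx'2 : x' * x' = 1 := by
    rw [hx', show x * y1 * x⁻¹ * (x * y1 * x⁻¹) = x * (y1 * y1) * x⁻¹ by group, hy1y1, mul_one, mul_inv_cancel]
  have hyy : y * y = 1 := by rw [hy, kg_mul, hβ2, one_mul, kg_one]
  have hpow : ∀ (j : ℕ) a, (((x' * y) ^ j : GL ι F) : Matrix ι ι F) *ᵥ T a v =
      T ((((β * β2) ^ j : GL (Fin r) F) : Matrix (Fin r) (Fin r) F) *ᵥ a) v := by
    intro j
    induction j with
    | zero => intro a; simp
    | succ j ih =>
      intro a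
      rw [pow_succ, pow_succ, gl_mul_mulVec, gl_mul_mulVec, hyv, hx'v, ih, gl_mul_mulVec, gl_mul_mulVec]
  have hββ : (β * β2) * (β * β2) = 1 := by
    rw [mul_assoc, ← mul_assoc β2, ← hcomm, mul_assoc β, hβ2, mul_one, hβ]
  rcases invol_pair_parity hx'2 hyy with ⟨hodd, -⟩ | ⟨n, hn1, hn2, hnx, hny, hpar⟩
  · exfalso
    obtain ⟨t, ht⟩ := hodd
    have hone : (β * β2) ^ orderOf (x' * y) = 1 := gl_ext_vec fun a =>
      tvec_left_inj (e := e) (P := P) hv (by rw [← hpow, pow_orderOf_eq_one, Units.val_one, one_mulVec, Units.val_one, one_mulVec])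
    rw [ht, pow_succ, pow_mul, sq, hββ, one_pow, one_mul] at hone
    exact hne (by rw [← mul_one β, ← hβ2, ← mul_assoc, hone, one_mul])
  have hzM : (x' * y) ^ n ∈ M := pow_mem (mul_mem hx'M hβ2M) n
  have hzH : (x' * y) ^ n ∈ tensorProductSubgroup r s e P := hG2 _ hzM (by rw [← hy]; exact hny)
  obtain ⟨q, hq⟩ : ∃ q, q = (x' * y) ^ n * y := ⟨_, rfl⟩
  have hqM : q ∈ M := hq ▸ mul_mem hzM hβ2M
  have hqH : q ∈ tensorProductSubgroup r s e P := hq ▸ mul_mem hzH (hy ▸ kg_mem β2 1)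
  have hqq : q * q = 1 := by
    rw [hq, mul_assoc, ← mul_assoc y, ← hny, mul_assoc ((x' * y) ^ n) y y, hyy, mul_one, hn2]
  have hzq : (x' * y) ^ n = q * y := by rw [hq, mul_assoc, hyy, mul_one]
  have hqv : ∀ a, (q : Matrix ι ι F) *ᵥ T a v =
      T ((((β * β2) ^ n * β2 : GL (Fin r) F) : Matrix (Fin r) (Fin r) F) *ᵥ a) v := fun a => by
    rw [hq, gl_mul_mulVec, hyv, hpow, gl_mul_mulVec]
  rw [← hq] at hpar
  have hdim1 : Module.finrank F (negSp x') = Module.finrank F (negSp β) * s := by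
    rw [hx', negSp_conj, hy1, neg_dim_left h2 hβ]
  rcases hpar with ⟨⟨t, ht⟩, c, -, hqc⟩ | ⟨⟨t, ht⟩, c, -, hqc⟩
  · exfalso
    have hγ : (β * β2) ^ n * β2 = β2 := by
      rw [ht, pow_add, ← (Commute.refl (β * β2)).mul_pow, hββ, one_pow, one_mul]
    have h := D.pure_invol hr (D.le_iso hqM) hqH hqq hβ2 hv (fun a => by rw [hqv, hγ])
      (by rw [hqc, negSp_conj, hy, neg_dim_left h2 hβ2])
    apply hn1
    rw [hzq, h, ← hy, hyy]
  · have hγ : (β * β2) ^ n * β2 = β := by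
      rw [ht, pow_succ, pow_mul, sq, hββ, one_pow, one_mul, mul_assoc, hβ2, mul_one]
    have h := D.pure_invol hr (D.le_iso hqM) hqH hqq hβ hv (fun a => by rw [hqv, hγ])
      (by rw [hqc, negSp_conj, hdim1])
    have hz : (x' * y) ^ n = kg e P (β * β2) (1 : GL (Fin s) F) := by rw [hzq, h, hy, kg_mul, one_mul]
    have hx'H : x' ∈ tensorProductSubgroup r s e P := hG3 x' hx'M (by rw [← hz]; exact hnx.symm)
    have h' := D.pure_invol hr (D.le_iso hx'M) hx'H hx'2 hβ hv hx'v hdim1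
    rw [hx', ← hy1] at h'
    exact hG x hx (by rw [← hy1]; exact mul_inv_eq_iff_eq_mul.1 h')

/-- involutions with a large eigenspace and a fixator on the other eigenspace are good -/
theorem OO.good_of (hfull : ¬ omegaGL Q ≤ M) {t : GL (Fin r) F}
    (ht : ∀ x x', f₁ ((t : Matrix (Fin r) (Fin r) F) *ᵥ x) ((t : Matrix (Fin r) (Fin r) F) *ᵥ x') = f₁ x x')
    {X : Submodule F (Fin r → F)} (hX : Nd f₁ X) (hX3 : 3 ≤ Module.finrank F X) {σ : F} (hσ : σ * σ = 1)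
    (hXt : ∀ x ∈ X, (t : Matrix (Fin r) (Fin r) F) *ᵥ x = σ • x) {d : Fin r → F} (hd : d ≠ 0)
    (hdt : (t : Matrix (Fin r) (Fin r) F) *ᵥ d = (-σ) • d)
    (hFix : ∀ x ∈ M, (∀ y, (x : Matrix ι ι F) *ᵥ T d y = T d y) → x ∈ tensorProductSubgroup r s e P) : D.Good t := by
  intro g hg hcomm
  have hg₁ := D.s1
  have h2 := D.two
  obtain ⟨a, haX, ha0, haa⟩ := nd_singular hg₁ h2 hX hX3
  obtain ⟨a', ha'X, ha'a', ha'a⟩ := nd_partner hg₁ h2 hX haX ha0 haa
  have hdim := pair_finrank hg₁ X a a'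
  obtain ⟨w, hw, hww⟩ := nd_aniso hg₁ h2 (nd_perp_pair hg₁ hX haX ha'X haa ha'a' ha'a) (by omega)
  have haw : f₁ a w = 0 := by rw [hg₁.symm]; exact hw.1.2
  obtain ⟨q, hq⟩ : ∃ q, q = kg e P t (1 : GL (Fin s) F) := ⟨_, rfl⟩
  rw [← hq] at hcomm
  have hσ0 : σ ≠ 0 := fun h => by rw [h, mul_zero] at hσ; exact zero_ne_one hσ
  have hkill : ∀ v, (q : Matrix ι ι F) *ᵥ v = (-σ) • v → ∀ x ∈ X, D.cob x v = 0 := fun v hv x hx => by
    have h := D.cob_kg (B := (1 : GL (Fin s) F)) ht x v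
    rw [← hq, hv, hXt x hx, D.cob_smul_left, map_smul, smul_smul, Units.val_one, one_mulVec, mul_neg, hσ,
      neg_one_smul] at h
    have h' : (2 : F) • D.cob x v = 0 := by linear_combination (norm := module) -h
    exact (smul_eq_zero.1 h').resolve_left h2
  obtain ⟨E, hE⟩ : ∃ E, E = kg e P (eic hg₁ a w) (1 : GL (Fin s) F) := ⟨_, rfl⟩
  have hfix : ∀ y, ((g * E * g⁻¹ : GL ι F) : Matrix ι ι F) *ᵥ T d y = T d y := fun y => by
    obtain ⟨v, hvdef⟩ : ∃ v, v = ((g⁻¹ : GL ι F) : Matrix ι ι F) *ᵥ T d y := ⟨_, rfl⟩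
    have hcomm' : g⁻¹ * q = q * g⁻¹ := by
      rw [inv_mul_eq_iff_eq_mul, ← mul_assoc, hcomm, mul_inv_cancel_right]
    have hqv : (q : Matrix ι ι F) *ᵥ v = (-σ) • v := by
      rw [hvdef, ← gl_mul_mulVec, ← hcomm', gl_mul_mulVec, hq, kg_tvec, hdt, Units.val_one, one_mulVec,
        tvec_smul_left, mulVec_smul]
    rw [gl_mul_mulVec, gl_mul_mulVec, ← hvdef, hE, D.eicL_mulVec haa haw, hkill v hqv a haX, hkill v hqv w hw.1.1,
      smul_zero, tvec_zero_right, tvec_zero_right, add_zero, sub_zero, sub_zero, hvdef, gl_mulVec_inv]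
  have hmH := hFix _ (mul_mem (mul_mem hg (hE ▸ D.eicL_mem haa haw)) (inv_mem hg)) hfix
  exact D.recog_fix hfull ha0 haa haw hww hg (hE ▸ hmH) hd (hE ▸ hfix)

theorem OO.fix_singular (hfull : ¬ omegaGL Q ≤ M) {d : Fin r → F} (hd : d ≠ 0) (hdd : f₁ d d = 0) {x : GL ι F}
    (hx : x ∈ M) (hfix : ∀ y, (x : Matrix ι ι F) *ᵥ T d y = T d y) : x ∈ tensorProductSubgroup r s e P :=
  D.pure_rigid hfull hx hd hdd hd fun y => ⟨y, hfix y⟩

/-- in dimension at least five every nonscalar involution is good, given the fixators -/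
theorem OO.all_good (hfull : ¬ omegaGL Q ≤ M) (hr5 : 5 ≤ r) (hFix : D.Fix) {t : GL (Fin r) F} (ht2 : t * t = 1)
    (ht : ∀ x x', f₁ ((t : Matrix (Fin r) (Fin r) F) *ᵥ x) ((t : Matrix (Fin r) (Fin r) F) *ᵥ x') = f₁ x x')
    (hn : negSp t ≠ ⊥) (hf : fixSp t ≠ ⊥) : D.Good t := by
  obtain ⟨h1, h3⟩ := nd_eigen D.s1 D.two ht2 ht
  have h4 := invol_finrank D.two ht2
  rw [Fintype.card_fin] at h4
  by_cases h5 : 3 ≤ Module.finrank F (fixSp t)
  · obtain ⟨d, hd, hd0⟩ := Submodule.exists_mem_ne_zero_of_ne_bot hn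
    exact D.good_of hfull ht h1 h5 (σ := 1) (one_mul 1) (fun x hx => by rw [mem_fixSp.1 hx, one_smul]) hd0
      (by rw [mem_negSp.1 hd, neg_one_smul]) (hFix d hd0)
  · obtain ⟨d, hd, hd0⟩ := Submodule.exists_mem_ne_zero_of_ne_bot hf
    exact D.good_of hfull ht h3 (by omega) (σ := -1) (by ring) (fun x hx => by rw [mem_negSp.1 hx, neg_one_smul]) hd0
      (by rw [mem_fixSp.1 hd, neg_neg, one_smul]) (hFix d hd0)

/-- in dimension three the fixators lie in the tensor product subgroup -/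
theorem OO.fix_three (hfull : ¬ omegaGL Q ≤ M) (hr : r = 3) (hs : 4 ≤ s) : D.Fix := by
  intro d hd0 x₀ hx₀ hfix₀
  by_cases hd : f₁ d d = 0
  · exact D.fix_singular hfull hd0 hd hx₀ hfix₀
  classical
  have h2 := D.two
  have hg := D.s2
  obtain ⟨p, hp, hc, -⟩ := D.exists_char
  haveI := hc
  haveI : Fact p.Prime := ⟨hp⟩
  let X : Subgroup (GL ι F) :=
    { carrier := {x | x ∈ M ∧ ∀ y, (x : Matrix ι ι F) *ᵥ T d y = T d y}
      one_mem' := ⟨one_mem M, fun y => by rw [Units.val_one, one_mulVec]⟩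
      mul_mem' := fun {x x'} hx hx' => ⟨mul_mem hx.1 hx'.1, fun y => by rw [gl_mul_mulVec, hx'.2, hx.2]⟩
      inv_mem' := fun {x} hx => ⟨inv_mem hx.1, fun y => by conv_lhs => rw [← hx.2 y, gl_inv_mulVec]⟩ }
  have hbase : ∀ x ∈ X, x ∈ tensorProductSubgroup r s e P → x ^ p = 1 → x = 1 := by
    intro x hx hT hxp
    obtain ⟨A, B, μ, ν, hμν, hA, hB, rfl⟩ := D.tensor_data (D.le_iso hx.1) hT
    obtain ⟨γ, hγ⟩ := exists_dot_one (show (A : Matrix (Fin r) (Fin r) F) *ᵥ d ≠ 0 from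
      fun h => hd0 (gl_mulVec_eq_zero.1 h))
    obtain ⟨l, hl⟩ : ∃ l, l = γ ⬝ᵥ d := ⟨_, rfl⟩
    have hBl : ∀ y, (B : Matrix (Fin s) (Fin s) F) *ᵥ y = l • y := fun y => by
      have h := congrArg (rc e P γ) (hx.2 y)
      rwa [kg_tvec, rc_tvec, rc_tvec, hγ, one_smul, ← hl] at h
    obtain ⟨y0, hy0⟩ : ∃ y : Fin s → F, y ≠ 0 := ⟨Pi.single ⟨0, by omega⟩ 1, by simp⟩
    have hl0 : l ≠ 0 := fun h => hy0 (gl_mulVec_eq_zero.1 (by rw [hBl y0, h, zero_smul]))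
    have hinj : Function.Injective (l • Matrix.mulVecLin (A : Matrix (Fin r) (Fin r) F)) :=
      (injective_iff_map_eq_zero _).2 fun v hv => gl_mulVec_eq_zero.1
        ((smul_eq_zero.1 (show l • ((A : Matrix (Fin r) (Fin r) F) *ᵥ v) = 0 from hv)).resolve_left hl0)
    obtain ⟨A', hA'⟩ : ∃ A', A' = glInj _ hinj := ⟨_, rfl⟩
    have hA'v : ∀ v, (A' : Matrix (Fin r) (Fin r) F) *ᵥ v = l • ((A : Matrix (Fin r) (Fin r) F) *ᵥ v) := fun v => by
      rw [hA', glInj_mulVec]; rfl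
    have heq : kg e P A B = kg e P A' (1 : GL (Fin s) F) := gl_ext_tvec (e := e) (P := P) fun v y => by
      rw [kg_tvec, kg_tvec, hBl, hA'v, Units.val_one, one_mulVec, tvec_smul_left, tvec_smul_right]
    rw [heq] at hxp hx ⊢
    rw [kg_pow, one_pow] at hxp
    have hA'p : A' ^ p = 1 := kgL_inj (e := e) (P := P) (by omega) (hxp.trans kg_one.symm)
    obtain ⟨z1, z2, hz⟩ := D.swap.exists_pair₁
    have hA'i : ∀ v v', f₁ ((A' : Matrix (Fin r) (Fin r) F) *ᵥ v) ((A' : Matrix (Fin r) (Fin r) F) *ᵥ v') = f₁ v v' :=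
      fun v v' => by
      have h := D.M_pol hx.1 (T v z1) (T v' z2)
      rw [kg_tvec, kg_tvec, Units.val_one, one_mulVec, one_mulVec, D.pol, D.pol, hz, mul_one, mul_one] at h
      exact mul_left_cancel₀ D.kne h
    have hA'd : (A' : Matrix (Fin r) (Fin r) F) *ᵥ d = d := by
      have h := hx.2 y0
      rw [kg_tvec, Units.val_one, one_mulVec] at h
      exact tvec_left_inj hy0 h
    rw [unip_fix_three D.s1 h2 hr hA'i hA'p hd hA'd, kg_one]
  -- the noncyclic group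
  obtain ⟨b, -, hb0, hbb⟩ := nd_singular hg h2 (nd_top hg) (by rw [top_finrank hg, Fintype.card_fin]; omega)
  obtain ⟨pp, -, hpp, hpb⟩ := nd_partner hg h2 (nd_top hg) Submodule.mem_top hb0 hbb
  obtain ⟨L, hL⟩ : ∃ L, L = perp hg (perp hg ⊤ b) pp := ⟨_, rfl⟩
  have hLnd : Nd f₂ L := hL ▸ nd_perp_pair hg (nd_top hg) Submodule.mem_top Submodule.mem_top hbb hpp hpb
  have hdim := pair_finrank hg (⊤ : Submodule F (Fin s → F)) b pp
  rw [top_finrank hg, Fintype.card_fin, ← hL] at hdim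
  obtain ⟨x0, hx0, hx00⟩ := nd_aniso hg h2 hLnd (by omega)
  have hd2 := perp_finrank hg L x0
  obtain ⟨η, hη⟩ : ∃ η : F, ¬ IsSquare η := FiniteField.exists_nonsquare fun h => h2 (by
    haveI := ringChar.of_eq h; exact CharTwo.two_eq_zero)
  have hη0 : η ≠ 0 := fun h => hη (h ▸ IsSquare.zero)
  have hbx : ∀ y ∈ L, f₂ b y = 0 := fun y hy => by
    rw [hg.symm]; rw [hL] at hy; exact hy.1.2
  obtain ⟨x1, hx1L, haniso⟩ : ∃ x1 ∈ L, ∀ i j : F,
      f₂ (i • x0 + j • x1) (i • x0 + j • x1) = 0 → i = 0 ∧ j = 0 := by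
    by_cases hs5 : 5 ≤ s
    · obtain ⟨x1, hx1, hx11⟩ := nd_value hg h2 (nd_perp hg hLnd hx0 hx00) (by omega)
        (c := -(f₂ x0 x0 * η)) (neg_ne_zero.2 (mul_ne_zero hx00 hη0))
      have hx10 : f₂ x1 x0 = 0 := hx1.2
      refine ⟨x1, hx1.1, fun i j h => ?_⟩
      simp only [hg.bilinear.add_left, hg.bilinear.add_right, hg.bilinear.smul_left, hg.bilinear.smul_right, hx10,
        hg.symm x0 x1, hx11] at h
      have h' : f₂ x0 x0 * (i * i - η * (j * j)) = 0 := by linear_combination h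
      have h'' := (mul_eq_zero.1 h').resolve_left hx00
      by_cases hj : j = 0
      · subst hj
        exact ⟨by simpa using h'', rfl⟩
      · exact absurd ⟨i / j, by field_simp; linear_combination -h''⟩ hη
    · obtain ⟨x1, hx1, hx11⟩ := nd_aniso hg h2 (nd_perp hg hLnd hx0 hx00) (by omega)
      have hx10 : f₂ x1 x0 = 0 := hx1.2
      have hmin := D.s4.resolve_left (fun h => h (by omega))
      refine ⟨x1, hx1.1, fun i j h => ?_⟩
      have hyL : i • x0 + j • x1 ∈ L := L.add_mem (L.smul_mem i hx0) (L.smul_mem j hx1.1)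
      obtain ⟨l, hl⟩ := hmin b _ hbb h (hbx _ hyL) hb0
      have hl0 : l = 0 := by
        rw [hL] at hyL
        have h' : f₂ (i • x0 + j • x1) pp = 0 := hyL.2
        rwa [hl, hg.bilinear.smul_left, (hg.symm b pp).trans hpb, mul_one] at h'
      rw [hl0, zero_smul] at hl
      have hi := congrArg (fun y => f₂ y x0) hl
      have hj := congrArg (fun y => f₂ y x1) hl
      simp [hg.bilinear.add_left, hg.bilinear.smul_left, hx10, hg.symm x0 x1, Orth.sym_zero_left hg] at hi hj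
      exact ⟨hi.resolve_right hx00, hj.resolve_right hx11⟩
  have hmemL : ∀ i j : F, i • x0 + j • x1 ∈ L := fun i j => L.add_mem (L.smul_mem i hx0) (L.smul_mem j hx1L)
  let emb : F → F → GL ι F := fun i j => kg e P (1 : GL (Fin r) F) (eic hg b (i • x0 + j • x1))
  have hembmul : ∀ i j i' j', emb i j * emb i' j' = emb (i + i') (j + j') := fun i j i' j' => by
    simp only [emb]
    rw [kg_mul, one_mul, eic_mul hg h2 hbb (hbx _ (hmemL i j)) (hbx _ (hmemL i' j')),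
      show i • x0 + j • x1 + (i' • x0 + j' • x1) = (i + i') • x0 + (j + j') • x1 by module]
  have hemb0 : emb 0 0 = 1 := by
    simp only [emb, zero_smul, add_zero]
    rw [eic_zero hg h2 hbb, kg_one]
  let A : Subgroup (GL ι F) :=
    { carrier := {g | ∃ i j, g = emb i j}
      one_mem' := ⟨0, 0, hemb0.symm⟩
      mul_mem' := fun {g g'} ⟨i, j, hg1⟩ ⟨i', j', hg2⟩ => ⟨i + i', j + j', by rw [hg1, hg2, hembmul]⟩
      inv_mem' := fun {g} ⟨i, j, hg1⟩ => ⟨-i, -j, inv_eq_of_mul_eq_one_right (by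
        rw [hg1, hembmul, add_neg_cancel, add_neg_cancel, hemb0])⟩ }
  haveI : IsMulCommutative A := isMulCommutative_iff.2 fun ⟨g, hg1⟩ ⟨g', hg2⟩ => by
    obtain ⟨i, j, rfl⟩ := hg1
    obtain ⟨i', j', rfl⟩ := hg2
    exact Subtype.ext (show emb i j * emb i' j' = emb i' j' * emb i j by
      rw [hembmul, hembmul, add_comm i, add_comm j])
  have hexp : ∀ a : A, a ^ p = 1 := fun ⟨g, hg1⟩ => by
    obtain ⟨i, j, rfl⟩ := hg1
    refine Subtype.ext ?_
    show emb i j ^ p = 1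
    simp only [emb]
    rw [kg_pow, one_pow, eic_pow_char hg h2 hbb (hbx _ (hmemL i j)), kg_one]
  have hPA : IsPGroup p A := fun a => ⟨1, by rw [pow_one]; exact hexp a⟩
  have hnc : ¬ IsCyclic A := by
    intro hcyc
    obtain ⟨g0, hgen⟩ := IsCyclic.exists_generator (α := A)
    have h1 : orderOf g0 = Nat.card A := orderOf_eq_card_of_forall_mem_zpowers hgen
    have hle : Nat.card A ≤ p := h1 ▸ Nat.le_of_dvd hp.pos (orderOf_dvd_of_pow_eq_one (hexp g0))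
    let ψ : F × F → A := fun ij => ⟨emb ij.1 ij.2, ij.1, ij.2, rfl⟩
    have hψ : Function.Injective ψ := by
      rintro ⟨i, j⟩ ⟨i', j'⟩ h
      have h' : emb (i - i') (j - j') = 1 := by
        have h3 := congrArg Subtype.val h
        change emb i j = emb i' j' at h3
        have h4 := hembmul (i - i') (j - j') i' j'
        rw [sub_add_cancel, sub_add_cancel, h3, mul_eq_right] at h4
        exact h4
      simp only [emb] at h'
      have h5 := kgL_inj (e := e.trans (Equiv.prodComm _ _)) (P := P) (by omega)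
        (((kg_swap _ _).trans h').trans ((kg_swap _ _).trans kg_one).symm)
      have hiso : f₂ ((i - i') • x0 + (j - j') • x1) ((i - i') • x0 + (j - j') • x1) = 0 := by
        by_contra hne
        exact eic_moves hg h2 hbb (hbx _ (hmemL _ _)) hb0 hne h5
      obtain ⟨e1, e2⟩ := haniso _ _ hiso
      rw [sub_eq_zero.1 e1, sub_eq_zero.1 e2]
    have h3 := Nat.card_le_card_of_injective ψ hψ
    rw [Nat.card_prod, Nat.card_eq_fintype_card] at h3
    obtain ⟨m, -, hm⟩ := FiniteField.card F p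
    have h4 : p ≤ Fintype.card F := by rw [hm]; exact Nat.le_self_pow m.pos.ne' p
    have h6 : 2 ≤ Fintype.card F := Fintype.one_lt_card
    nlinarith
  have hAM : ∀ a ∈ A, a ∈ M := by
    rintro _ ⟨i, j, rfl⟩
    exact D.eicR_mem hbb (hbx _ (hmemL i j))
  have hnorm : ∀ a ∈ A, ∀ x ∈ X, a * x * a⁻¹ ∈ X := fun a ha x hx => by
    refine ⟨mul_mem (mul_mem (hAM a ha) hx.1) (inv_mem (hAM a ha)), fun y => ?_⟩
    obtain ⟨i, j, rfl⟩ := ha
    obtain ⟨B, hB⟩ : ∃ B, B = eic hg b (i • x0 + j • x1) := ⟨_, rfl⟩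
    obtain ⟨y', rfl⟩ : ∃ y', y = (B : Matrix (Fin s) (Fin s) F) *ᵥ y' := ⟨_, (gl_mulVec_inv B y).symm⟩
    have h : (emb i j : Matrix ι ι F) *ᵥ T d y' = T d ((B : Matrix (Fin s) (Fin s) F) *ᵥ y') := by
      simp only [emb]
      rw [kg_tvec, Units.val_one, one_mulVec, hB]
    rw [← h, gl_mul_mulVec, gl_mul_mulVec, gl_inv_mulVec, hx.2]
  have hcent : ∀ a ∈ A, a ≠ 1 → ∀ x ∈ X, a * x = x * a → x ∈ tensorProductSubgroup r s e P := by
    intro a ha hne x hx hcomm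
    obtain ⟨i, j, rfl⟩ := ha
    have hyy : f₂ (i • x0 + j • x1) (i • x0 + j • x1) ≠ 0 := fun h => by
      obtain ⟨rfl, rfl⟩ := haniso i j h
      exact hne hemb0
    rw [← tensor_swap]
    refine D.swap.centralizer_eicL hfull hb0 hbb (hbx _ (hmemL i j)) hyy hx.1 ?_
    simp only [emb] at hcomm
    rw [kg_swap]
    exact hcomm.symm
  have hXp : ¬ p ∣ Nat.card X := fun hdvd => by
    obtain ⟨x, hx, hx1, hxp, hfixA⟩ := exists_fixed_pElement hPA hnorm hdvd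
    obtain ⟨a, ha⟩ : ∃ a : A, a ≠ 1 := by
      by_contra hcon
      push Not at hcon
      haveI : Subsingleton A := ⟨fun u v => (hcon u).trans (hcon v).symm⟩
      exact hnc inferInstance
    exact hx1 (hbase x hx (hcent a a.2 (fun h => ha (Subtype.ext h)) x hx (hfixA a a.2)) hxp)
  have hcop : (Nat.card A).Coprime (Nat.card X) := by
    obtain ⟨m, hm⟩ := IsPGroup.iff_card.1 hPA
    rw [hm]
    exact Nat.Coprime.pow_left _ (hp.coprime_iff_not_dvd.2 hXp)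
  refine CfsgLib.Coprime.le_of_centralizers_le (W := tensorProductSubgroup r s e P) (A := A) (K := X) hnc
    (fun a ha => Subgroup.mem_normalizer_iff.2 fun x => ⟨hnorm a ha x, fun h => ?_⟩) hcop
    (fun a ha hne x hx => hcent a ha hne x hx.1 ((Subgroup.mem_centralizer_singleton_iff.1 hx.2).symm))
    (show x₀ ∈ X from ⟨hx₀, hfix₀⟩)
  have h' := hnorm a⁻¹ (inv_mem ha) _ h
  rwa [inv_inv, show a⁻¹ * (a * x * a⁻¹) * a = x by group] at h'

/-- in dimension three the involutions with a fixed line are good -/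
theorem OO.good_three (hfull : ¬ omegaGL Q ≤ M) (hr : r = 3) (hs : 4 ≤ s) {t : GL (Fin r) F} (ht2 : t * t = 1)
    (ht : ∀ x x', f₁ ((t : Matrix (Fin r) (Fin r) F) *ᵥ x) ((t : Matrix (Fin r) (Fin r) F) *ᵥ x') = f₁ x x')
    (hfx : Module.finrank F (fixSp t) = 1) : D.Good t := by
  intro g hg hcomm
  have h2 := D.two
  have hg₁ := D.s1
  have hg₂ := D.s2
  obtain ⟨p, hp, hc, -⟩ := D.exists_char
  haveI := hc
  haveI : Fact p.Prime := ⟨hp⟩
  obtain ⟨hnd, -⟩ := nd_eigen hg₁ h2 ht2 ht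
  obtain ⟨d, hdmem, hd⟩ := nd_aniso hg₁ h2 hnd (by omega)
  have hd0 : d ≠ 0 := fun h => hd (by rw [h, Orth.sym_zero_left hg₁])
  have hline : ∀ x ∈ fixSp t, x = (f₁ x d / f₁ d d) • d := by
    intro x hx
    have hspan : Submodule.span F {d} = fixSp t := Submodule.eq_of_le_of_finrank_le
      ((Submodule.span_singleton_le_iff_mem _ _).2 hdmem) (by rw [finrank_span_singleton hd0, hfx])
    obtain ⟨c, rfl⟩ := Submodule.mem_span_singleton.1 (hspan.symm ▸ hx)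
    rw [hg₁.bilinear.smul_left, mul_div_cancel_right₀ _ hd]
  obtain ⟨q, hq⟩ : ∃ q, q = kg e P t (1 : GL (Fin s) F) := ⟨_, rfl⟩
  rw [← hq] at hcomm
  have hpure : ∀ v, (q : Matrix ι ι F) *ᵥ v = v → v = T d ((f₁ d d)⁻¹ • D.cob d v) := by
    intro v hv
    refine sub_eq_zero.1 (D.eq_zero_of_cob fun x => ?_)
    obtain ⟨h1, h3, h4⟩ := invol_decomp h2 ht2 x
    have h5 := D.cob_kg (B := (1 : GL (Fin s) F)) ht ((2 : F)⁻¹ • (x - (t : Matrix (Fin r) (Fin r) F) *ᵥ x)) v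
    rw [← hq, hv, mem_negSp.1 h3, Units.val_one, one_mulVec, ← neg_one_smul F ((2 : F)⁻¹ • _), D.cob_smul_left,
      neg_one_smul] at h5
    have h6 : (2 : F) • D.cob ((2 : F)⁻¹ • (x - (t : Matrix (Fin r) (Fin r) F) *ᵥ x)) v = 0 := by
      linear_combination (norm := module) -h5
    have h7 := (smul_eq_zero.1 h6).resolve_left h2
    have hdneg : f₁ d ((2 : F)⁻¹ • (x - (t : Matrix (Fin r) (Fin r) F) *ᵥ x)) = 0 := by
      have h := ht d ((2 : F)⁻¹ • (x - (t : Matrix (Fin r) (Fin r) F) *ᵥ x))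
      rw [mem_fixSp.1 hdmem, mem_negSp.1 h3, Orth.sym_neg_right hg₁] at h
      exact (mul_eq_zero.1 (show (2 : F) * _ = 0 by linear_combination -h)).resolve_left h2
    obtain ⟨xa, hxp⟩ : ∃ xa, xa = (2 : F)⁻¹ • (x + (t : Matrix (Fin r) (Fin r) F) *ᵥ x) := ⟨_, rfl⟩
    obtain ⟨xb, hxm⟩ : ∃ xb, xb = (2 : F)⁻¹ • (x - (t : Matrix (Fin r) (Fin r) F) *ᵥ x) := ⟨_, rfl⟩
    rw [← hxm] at h7 hdneg h4
    rw [← hxp] at h1 h4
    have e1 : D.cob xb (v - T d ((f₁ d d)⁻¹ • D.cob d v)) = 0 := by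
      rw [map_sub, h7, D.cob_tvec, hdneg, zero_smul, sub_zero]
    have e2 : D.cob xa (v - T d ((f₁ d d)⁻¹ • D.cob d v)) = 0 := by
      rw [hline _ h1, D.cob_smul_left, map_sub, D.cob_tvec, smul_inv_smul₀ hd, sub_self, smul_zero]
    rw [h4, D.cob_add_left, e1, e2, add_zero]
  let h : (Fin s → F) →ₗ[F] (Fin s → F) :=
    ((f₁ d d)⁻¹ • D.cob d).comp ((Matrix.mulVecLin (g : Matrix ι ι F)).comp (tL e P d))
  have hgd : ∀ y, (g : Matrix ι ι F) *ᵥ T d y = T d (h y) := fun y => hpure _ (by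
    rw [← gl_mul_mulVec, ← hcomm, gl_mul_mulVec, hq, kg_tvec, mem_fixSp.1 hdmem, Units.val_one, one_mulVec])
  have hhiso : ∀ y y', f₂ (h y) (h y') = f₂ y y' := fun y y' => by
    have h1 := D.M_pol hg (T d y) (T d y')
    rw [hgd, hgd, D.pol, D.pol] at h1
    exact mul_left_cancel₀ hd (mul_left_cancel₀ D.kne h1)
  have hhinj : Function.Injective h := (injective_iff_map_eq_zero h).2 fun y hy => by
    have h1 := hgd y
    rw [hy, tvec_zero_right, gl_mulVec_eq_zero] at h1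
    exact tvec_right_inj hd0 (h1.trans (tvec_zero_right d).symm)
  obtain ⟨hm, hhm⟩ : ∃ hm, hm = glInj h hhinj := ⟨_, rfl⟩
  have hmv : ∀ y, (hm : Matrix (Fin s) (Fin s) F) *ᵥ y = h y := fun y => by rw [hhm, glInj_mulVec]
  have hmiso : ∀ y y', f₂ ((hm : Matrix (Fin s) (Fin s) F) *ᵥ y) ((hm : Matrix (Fin s) (Fin s) F) *ᵥ y') = f₂ y y' :=
    fun y y' => by rw [hmv, hmv, hhiso]
  obtain ⟨b, -, hb0, hbb⟩ := nd_singular hg₂ h2 (nd_top hg₂) (by rw [top_finrank hg₂, Fintype.card_fin]; omega)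
  obtain ⟨pp, -, hpp, hpb⟩ := nd_partner hg₂ h2 (nd_top hg₂) Submodule.mem_top hb0 hbb
  have hdim := pair_finrank hg₂ (⊤ : Submodule F (Fin s → F)) b pp
  rw [top_finrank hg₂, Fintype.card_fin] at hdim
  obtain ⟨w, hw, hww⟩ := nd_aniso hg₂ h2
    (nd_perp_pair hg₂ (nd_top hg₂) Submodule.mem_top Submodule.mem_top hbb hpp hpb) (by omega)
  have hbw : f₂ b w = 0 := by rw [hg₂.symm]; exact hw.1.2
  obtain ⟨E0, hE0⟩ : ∃ E0, E0 = eic hg₂ b w := ⟨_, rfl⟩
  obtain ⟨E', hE'⟩ : ∃ E', E' = hm * E0 * hm⁻¹ := ⟨_, rfl⟩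
  have hE'M : kg e P (1 : GL (Fin r) F) E' ∈ M := by
    rw [hE', hE0, eic_conj hg₂ h2 hbb hbw hmiso]
    exact D.eicR_mem (by rw [hmiso, hbb]) (by rw [hmiso, hbw])
  obtain ⟨E, hE⟩ : ∃ E, E = kg e P (1 : GL (Fin r) F) E0 := ⟨_, rfl⟩
  have hEM : E ∈ M := hE ▸ hE0 ▸ D.eicR_mem hbb hbw
  obtain ⟨n, hn⟩ : ∃ n, n = g * E * g⁻¹ := ⟨_, rfl⟩
  have hnM : n ∈ M := hn ▸ mul_mem (mul_mem hg hEM) (inv_mem hg)
  have hnd' : ∀ y, (n : Matrix ι ι F) *ᵥ T d y = T d ((E' : Matrix (Fin s) (Fin s) F) *ᵥ y) := by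
    intro y
    obtain ⟨y', rfl⟩ : ∃ y', y = (hm : Matrix (Fin s) (Fin s) F) *ᵥ y' := ⟨_, (gl_mulVec_inv hm y).symm⟩
    rw [hmv, ← hgd, hn, gl_mul_mulVec, gl_mul_mulVec, gl_inv_mulVec, hE, kg_tvec, Units.val_one, one_mulVec, hgd,
      ← hmv, ← hmv, hE', gl_mul_mulVec, gl_mul_mulVec, gl_inv_mulVec]
  obtain ⟨x, hx⟩ : ∃ x, x = n * (kg e P (1 : GL (Fin r) F) E')⁻¹ := ⟨_, rfl⟩
  have hxM : x ∈ M := hx ▸ mul_mem hnM (inv_mem hE'M)
  have hxfix : ∀ y, (x : Matrix ι ι F) *ᵥ T d y = T d y := fun y => by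
    rw [hx, gl_mul_mulVec, kg_inv, kg_tvec, inv_one, Units.val_one, one_mulVec, hnd', gl_mulVec_inv]
  obtain ⟨A, B, μ, ν, hμν, hA, hB, hxAB⟩ :=
    D.tensor_data (D.le_iso hxM) (D.fix_three hfull hr hs d hd0 x hxM hxfix)
  obtain ⟨γ, hγ⟩ := exists_dot_one (show (A : Matrix (Fin r) (Fin r) F) *ᵥ d ≠ 0 from
    fun h => hd0 (gl_mulVec_eq_zero.1 h))
  obtain ⟨l, hl⟩ : ∃ l, l = γ ⬝ᵥ d := ⟨_, rfl⟩
  have hBl : ∀ y, (B : Matrix (Fin s) (Fin s) F) *ᵥ y = l • y := fun y => by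
    have h1 := congrArg (rc e P γ) (hxfix y)
    rwa [hxAB, kg_tvec, rc_tvec, rc_tvec, hγ, one_smul, ← hl] at h1
  obtain ⟨y0, hy0⟩ : ∃ y : Fin s → F, y ≠ 0 := ⟨Pi.single ⟨0, by omega⟩ 1, by simp⟩
  have hl0 : l ≠ 0 := fun h => hy0 (gl_mulVec_eq_zero.1 (by rw [hBl y0, h, zero_smul]))
  have hinj : Function.Injective (l • Matrix.mulVecLin (A : Matrix (Fin r) (Fin r) F)) :=
    (injective_iff_map_eq_zero _).2 fun v hv => gl_mulVec_eq_zero.1
      ((smul_eq_zero.1 (show l • ((A : Matrix (Fin r) (Fin r) F) *ᵥ v) = 0 from hv)).resolve_left hl0)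
  obtain ⟨A', hA'⟩ : ∃ A', A' = glInj _ hinj := ⟨_, rfl⟩
  have hxeq : x = kg e P A' (1 : GL (Fin s) F) := gl_ext_tvec (e := e) (P := P) fun v y => by
    rw [hxAB, kg_tvec, kg_tvec, hBl, hA', glInj_mulVec, Units.val_one, one_mulVec, tvec_smul_right]
    exact (tvec_smul_left _ _ _).symm
  have hnk : n = kg e P A' E' := by
    rw [show n = x * kg e P (1 : GL (Fin r) F) E' by rw [hx, inv_mul_cancel_right], hxeq, kg_mul, mul_one, one_mul]
  have hA'p : A' ^ p = 1 := by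
    have h1 : n ^ p = 1 := by
      rw [hn, conj_pow, hE, kg_pow, one_pow, hE0, eic_pow_char hg₂ h2 hbb hbw, kg_one, mul_one, mul_inv_cancel]
    rw [hnk, kg_pow, hE', conj_pow, hE0, eic_pow_char hg₂ h2 hbb hbw, mul_one, mul_inv_cancel] at h1
    exact kgL_inj (e := e) (P := P) (by omega) (h1.trans kg_one.symm)
  obtain ⟨z1, z2, hz⟩ := D.swap.exists_pair₁
  have hA'i : ∀ v v', f₁ ((A' : Matrix (Fin r) (Fin r) F) *ᵥ v) ((A' : Matrix (Fin r) (Fin r) F) *ᵥ v') = f₁ v v' :=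
    fun v v' => by
    have h1 := D.M_pol hxM (T v z1) (T v' z2)
    rw [hxeq, kg_tvec, kg_tvec, Units.val_one, one_mulVec, one_mulVec, D.pol, D.pol, hz, mul_one, mul_one] at h1
    exact mul_left_cancel₀ D.kne h1
  have hA'd : (A' : Matrix (Fin r) (Fin r) F) *ᵥ d = d := by
    have h1 := hxfix y0
    rw [hxeq, kg_tvec, Units.val_one, one_mulVec] at h1
    exact tvec_left_inj hy0 h1
  rw [unip_fix_three hg₁ h2 hr hA'i hA'p hd hA'd] at hnk
  rw [← tensor_swap]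
  refine D.swap.recog hfull hb0 hbb hbw hww hg (A := E') (B := 1) (l := 1) ?_ (fun y => by simp)
  rw [kg_swap, kg_swap, ← hE0, ← hE, ← hn, hnk]

end CfsgLib.Perm.Trans.TensorOO
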