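import Mathlib
import Cfsg.Agent.Lib.Perm.Trans.TensorOO.Fix

/-!
# The endgame: good involutions with distinct negated dimensions
-/

set_option autoImplicit false
set_option linter.all false

namespace CfsgLib.Perm.Trans.TensorOO

open scoped Matrix
open Matrix Cfsg.Geo CfsgLib.Perm.Asch CfsgLib.Perm.Trans CfsgLib.Perm.Trans.TensorFrame
open CfsgLib.Perm.Trans.TensorMax CfsgLib.Perm.Trans.Quad CfsgLib.Perm.Trans.TensorSO

section Refl

variable {κ : Type} [Fintype κ] [DecidableEq κ] {F : Type*} [Field F]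
variable {f : (κ → F) → (κ → F) → F} (hf : IsSymmetricForm f) (h2 : (2 : F) ≠ 0)
include hf

theorem refl_perp {d x : κ → F} (hd : f d d ≠ 0) (h : f x d = 0) :
    (refl hf d hd : Matrix κ κ F) *ᵥ x = x := by
  rw [refl_mulVec, h, mul_zero, zero_smul, sub_zero]

theorem refl_self {d : κ → F} (hd : f d d ≠ 0) : (refl hf d hd : Matrix κ κ F) *ᵥ d = -d := by
  rw [refl_mulVec, div_mul_cancel₀ _ hd, two_smul]
  abel

theorem refl_orth_comm {a b : κ → F} (ha : f a a ≠ 0) (hb : f b b ≠ 0) (h : f a b = 0) :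
    refl hf a ha * refl hf b hb = refl hf b hb * refl hf a ha :=
  mul_inv_eq_iff_eq_mul.1 (refl_conj hf hb (refl_iso hf a ha) hb (refl_perp hf ha ((hf.symm b a).trans h)))

include h2

/-- the negated space of an involution that negates an orthogonal family and fixes its perpendicular -/
theorem invol_dim {j : ℕ} {g : GL κ F} (hg : g * g = 1) (d : Fin j → κ → F)
    (ho : ∀ i i', i ≠ i' → f (d i) (d i') = 0) (hd : ∀ i, f (d i) (d i) ≠ 0)
    (hneg : ∀ i, (g : Matrix κ κ F) *ᵥ d i = -d i)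
    (hfix : ∀ x, (∀ i, f x (d i) = 0) → (g : Matrix κ κ F) *ᵥ x = x) : Module.finrank F (negSp g) = j := by
  have h1 : (LinearMap.pi fun i => Orth.sfl hf (d i)).ker ≤ fixSp g := fun x hx => mem_fixSp.2 (hfix x fun i =>
    congrFun (LinearMap.mem_ker.1 hx) i)
  have h3 := Submodule.finrank_mono h1
  have h4 := LinearMap.finrank_range_add_finrank_ker (LinearMap.pi fun i => Orth.sfl hf (d i) : (κ → F) →ₗ[F] _)
  have h5 := Submodule.finrank_le (LinearMap.range (LinearMap.pi fun i => Orth.sfl hf (d i) : (κ → F) →ₗ[F] _))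
  rw [Module.finrank_pi, Fintype.card_fin] at h5
  rw [Module.finrank_pi] at h4
  have hli : LinearIndependent F d := Fintype.linearIndependent_iff.2 fun c hc i => by
    have h := congrArg (Orth.sfl hf (d i)) hc
    rw [map_sum, map_zero, Finset.sum_eq_single i (fun l _ hl => ?_) (by simp), map_smul, smul_eq_mul] at h
    · exact (mul_eq_zero.1 h).resolve_right (hd i)
    · rw [map_smul, show Orth.sfl hf (d i) (d l) = f (d l) (d i) from rfl, ho l i hl, smul_zero]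
  have h6 : Submodule.span F (Set.range d) ≤ negSp g := Submodule.span_le.2 (by
    rintro _ ⟨i, rfl⟩
    exact mem_negSp.2 (hneg i))
  have h7 := Submodule.finrank_mono h6
  rw [finrank_span_eq_card hli, Fintype.card_fin] at h7
  have h8 := invol_finrank h2 hg
  omega

omit h2

/-- the product of two reflections -/
noncomputable def rr {a b : κ → F} (ha : f a a ≠ 0) (hb : f b b ≠ 0) : GL κ F := refl hf a ha * refl hf b hb

theorem rr_iso {a b : κ → F} (ha : f a a ≠ 0) (hb : f b b ≠ 0) (x y : κ → F) :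
    f ((rr hf ha hb : Matrix κ κ F) *ᵥ x) ((rr hf ha hb : Matrix κ κ F) *ᵥ y) = f x y := by
  rw [rr, gl_mul_mulVec, gl_mul_mulVec, refl_iso hf, refl_iso hf]

theorem rr_perp {a b x : κ → F} (ha : f a a ≠ 0) (hb : f b b ≠ 0) (h : f x a = 0) (h' : f x b = 0) :
    (rr hf ha hb : Matrix κ κ F) *ᵥ x = x := by
  rw [rr, gl_mul_mulVec, refl_perp hf hb h', refl_perp hf ha h]

theorem rr_sq {a b : κ → F} (ha : f a a ≠ 0) (hb : f b b ≠ 0) (h : f a b = 0) : rr hf ha hb * rr hf ha hb = 1 := by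
  rw [rr]
  conv_lhs => arg 2; rw [refl_orth_comm hf ha hb h]
  rw [mul_assoc, ← mul_assoc (refl hf b hb), refl_sq, one_mul, refl_sq]

theorem rr_comm {a b c d : κ → F} (ha : f a a ≠ 0) (hb : f b b ≠ 0) (hc : f c c ≠ 0) (hd : f d d ≠ 0)
    (hac : f a c = 0) (had : f a d = 0) (hbc : f b c = 0) (hbd : f b d = 0) :
    Commute (rr hf ha hb) (rr hf hc hd) :=
  (Commute.mul_left (refl_orth_comm hf ha hc hac) (refl_orth_comm hf hb hc hbc)).mul_right
    (Commute.mul_left (refl_orth_comm hf ha hd had) (refl_orth_comm hf hb hd hbd))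

include h2

theorem negSp_one : negSp (1 : GL κ F) = ⊥ := by
  refine (Submodule.eq_bot_iff _).2 fun x hx => ?_
  have h := mem_negSp.1 hx
  rw [Units.val_one, one_mulVec] at h
  exact (smul_eq_zero.1 (show (2 : F) • x = 0 by linear_combination (norm := module) h)).resolve_left h2

/-- the dimensions for a plane -/
theorem rr_dim {a b : κ → F} (ha : f a a ≠ 0) (hb : f b b ≠ 0) (h : f a b = 0) :
    Module.finrank F (negSp (rr hf ha hb)) = 2 := by
  refine invol_dim hf h2 (rr_sq hf ha hb h) ![a, b] (fun i i' hii => ?_) (fun i => ?_) (fun i => ?_)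
    (fun x hx => rr_perp hf ha hb (by simpa using hx 0) (by simpa using hx 1))
  · fin_cases i <;> fin_cases i' <;> first | exact absurd rfl hii | simp [h, hf.symm b a]
  · fin_cases i <;> simpa
  · fin_cases i
    · show (rr hf ha hb : Matrix κ κ F) *ᵥ a = -a
      rw [rr, gl_mul_mulVec, refl_perp hf hb h, refl_self hf ha]
    · show (rr hf ha hb : Matrix κ κ F) *ᵥ b = -b
      rw [rr, gl_mul_mulVec, refl_self hf hb, mulVec_neg, refl_perp hf ha ((hf.symm b a).trans h)]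

/-- an involution of a four-space -/
theorem four_data (d : Fin 4 → κ → F) (ho : ∀ i i', i ≠ i' → f (d i) (d i') = 0) (hd : ∀ i, f (d i) (d i) ≠ 0) :
    rr hf (hd 0) (hd 1) * rr hf (hd 2) (hd 3) * (rr hf (hd 0) (hd 1) * rr hf (hd 2) (hd 3)) = 1 ∧
      (∀ x y, f ((rr hf (hd 0) (hd 1) * rr hf (hd 2) (hd 3) : GL κ F) *ᵥ x)
        (((rr hf (hd 0) (hd 1) * rr hf (hd 2) (hd 3) : GL κ F) : Matrix κ κ F) *ᵥ y) = f x y) ∧
      Module.finrank F (negSp (rr hf (hd 0) (hd 1) * rr hf (hd 2) (hd 3))) = 4 := by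
  have hc := rr_comm hf (hd 0) (hd 1) (hd 2) (hd 3) (ho _ _ (by decide)) (ho _ _ (by decide)) (ho _ _ (by decide))
    (ho _ _ (by decide))
  have h1 : rr hf (hd 0) (hd 1) * rr hf (hd 2) (hd 3) * (rr hf (hd 0) (hd 1) * rr hf (hd 2) (hd 3)) = 1 := by
    rw [hc.symm.mul_mul_mul_comm, rr_sq hf _ _ (ho _ _ (by decide)), rr_sq hf _ _ (ho _ _ (by decide)), one_mul]
  refine ⟨h1, fun x y => by rw [gl_mul_mulVec, gl_mul_mulVec, rr_iso hf, rr_iso hf],
    invol_dim hf h2 h1 d ho hd (fun i => ?_) (fun x hx => ?_)⟩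
  · have e01 : ∀ l : Fin 4, l ≠ 0 → l ≠ 1 → (rr hf (hd 0) (hd 1) : Matrix κ κ F) *ᵥ d l = d l := fun l h h' =>
      rr_perp hf _ _ (ho l 0 h) (ho l 1 h')
    have e23 : ∀ l : Fin 4, l ≠ 2 → l ≠ 3 → (rr hf (hd 2) (hd 3) : Matrix κ κ F) *ᵥ d l = d l := fun l h h' =>
      rr_perp hf _ _ (ho l 2 h) (ho l 3 h')
    fin_cases i
    · show ((rr hf (hd 0) (hd 1) * rr hf (hd 2) (hd 3) : GL κ F) : Matrix κ κ F) *ᵥ d 0 = -d 0
      rw [gl_mul_mulVec, e23 0 (by decide) (by decide), rr, gl_mul_mulVec,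
        refl_perp hf _ (ho 0 1 (by decide)), refl_self]
    · show ((rr hf (hd 0) (hd 1) * rr hf (hd 2) (hd 3) : GL κ F) : Matrix κ κ F) *ᵥ d 1 = -d 1
      rw [gl_mul_mulVec, e23 1 (by decide) (by decide), rr, gl_mul_mulVec,
        refl_self, mulVec_neg, refl_perp hf _ (ho 1 0 (by decide))]
    · show ((rr hf (hd 0) (hd 1) * rr hf (hd 2) (hd 3) : GL κ F) : Matrix κ κ F) *ᵥ d 2 = -d 2
      have h : (rr hf (hd 2) (hd 3) : Matrix κ κ F) *ᵥ d 2 = -d 2 := by
        rw [rr, gl_mul_mulVec, refl_perp hf _ (ho 2 3 (by decide)), refl_self]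
      rw [gl_mul_mulVec, h, mulVec_neg, e01 2 (by decide) (by decide)]
    · show ((rr hf (hd 0) (hd 1) * rr hf (hd 2) (hd 3) : GL κ F) : Matrix κ κ F) *ᵥ d 3 = -d 3
      have h : (rr hf (hd 2) (hd 3) : Matrix κ κ F) *ᵥ d 3 = -d 3 := by
        rw [rr, gl_mul_mulVec, refl_self, mulVec_neg, refl_perp hf _ (ho 3 2 (by decide))]
      rw [gl_mul_mulVec, h, mulVec_neg, e01 3 (by decide) (by decide)]
  · rw [gl_mul_mulVec, rr_perp hf _ _ (hx 2) (hx 3), rr_perp hf _ _ (hx 0) (hx 1)]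

omit h2
variable [Fintype F]

/-- every scalar is a sum of two squares -/
theorem sum_two_sq (h2 : (2 : F) ≠ 0) (c : F) : ∃ i j : F, i * i + j * j = c := by
  open Polynomial in
  obtain ⟨a, b, hab⟩ := FiniteField.exists_root_sum_quadratic (R := F) (f := X ^ 2) (g := X ^ 2 - C c)
    (degree_X_pow 2) (degree_X_pow_sub_C (by norm_num) c) (FiniteField.odd_card_of_char_ne_two fun h => h2 (by
      haveI := ringChar.of_eq h; exact CharTwo.two_eq_zero))
  simp only [Polynomial.eval_pow, Polynomial.eval_X, Polynomial.eval_sub, Polynomial.eval_C] at hab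
  exact ⟨a, b, by linear_combination hab⟩

/-- three orthogonal vectors of one norm in dimension at least three -/
theorem three_equal (h2 : (2 : F) ≠ 0) (hk : 3 ≤ Fintype.card κ) :
    ∃ x₁ x₂ x₃ : κ → F, f x₁ x₁ ≠ 0 ∧ f x₂ x₂ = f x₁ x₁ ∧ f x₃ x₃ = f x₁ x₁ ∧
      f x₁ x₂ = 0 ∧ f x₁ x₃ = 0 ∧ f x₂ x₃ = 0 := by
  obtain ⟨d, -, ho, hn⟩ := nd_frame hf h2 2 ⊤ (nd_top hf) (by rw [top_finrank hf]; omega) (one_ne_zero (α := F))
  have hd0 : f (d 0) (d 0) ≠ 0 := by rw [hn]; exact one_ne_zero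
  have hd1 : d 1 ∈ perp hf ⊤ (d 0) := ⟨Submodule.mem_top, ho 1 0 (by decide)⟩
  have h3 := perp_finrank hf (⊤ : Submodule F (κ → F)) (d 0)
  have h4 := perp_finrank hf (perp hf ⊤ (d 0)) (d 1)
  rw [top_finrank hf] at h3
  obtain ⟨x, hx, hxx⟩ := nd_aniso hf h2 (nd_perp hf (nd_perp hf (nd_top hf) Submodule.mem_top hd0) hd1
    (by rw [hn]; exact one_ne_zero)) (by omega)
  obtain ⟨i, j, hij⟩ := sum_two_sq hf h2 (f x x)
  have hx0 : f x (d 0) = 0 := hx.1.2
  have hx1 : f x (d 1) = 0 := hx.2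
  have h10 : f (d 1) (d 0) = 0 := ho 1 0 (by decide)
  have h01 : f (d 0) (d 1) = 0 := ho 0 1 (by decide)
  have e : ∀ a b a' b' : F, f (a • d 0 + b • d 1) (a' • d 0 + b' • d 1) = a * a' + b * b' := fun a b a' b' => by
    simp only [hf.bilinear.add_left, hf.bilinear.add_right, hf.bilinear.smul_left, hf.bilinear.smul_right,
      h10, h01, hn]
    ring
  have ex : ∀ a b : F, f (a • d 0 + b • d 1) x = 0 := fun a b => by
    rw [hf.bilinear.add_left, hf.bilinear.smul_left, hf.bilinear.smul_left, hf.symm (d 0) x, hf.symm (d 1) x, hx0,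
      hx1, mul_zero, mul_zero, add_zero]
  refine ⟨i • d 0 + j • d 1, (-j) • d 0 + i • d 1, x, ?_, ?_, ?_, ?_, ex _ _, ex _ _⟩
  · rw [e, hij]; exact hxx
  · rw [e, e]; ring
  · rw [e, hij]
  · rw [e]; ring

end Refl

variable {ι : Type} [Fintype ι] [DecidableEq ι] {F : Type*} [Field F] [Fintype F] {r s : ℕ}
variable {e : ι ≃ Fin r × Fin s} {P : GL ι F}
variable {Q : (ι → F) → F} {f₁ : (Fin r → F) → (Fin r → F) → F} {f₂ : (Fin s → F) → (Fin s → F) → F}
variable {k : F} {M : Subgroup (GL ι F)}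

local notation "T" => tvec e P

variable (D : OO Q f₁ f₂ e P k M)
include D

theorem OO.rr_mem {a b : Fin r → F} (ha : f₁ a a ≠ 0) (hb : f₁ b b ≠ 0) (hab : f₁ a a = f₁ b b) (ho : f₁ a b = 0) :
    kg e P (rr D.s1 ha hb) (1 : GL (Fin s) F) ∈ M :=
  D.planeL_mem ha hb hab ho

theorem OO.rr2_mem {a b a' b' : Fin r → F} (ha : f₁ a a ≠ 0) (hb : f₁ b b ≠ 0) (hab : f₁ a a = f₁ b b)
    (ho : f₁ a b = 0) (ha' : f₁ a' a' ≠ 0) (hb' : f₁ b' b' ≠ 0) (hab' : f₁ a' a' = f₁ b' b') (ho' : f₁ a' b' = 0) :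
    kg e P (rr D.s1 ha hb * rr D.s1 ha' hb') (1 : GL (Fin s) F) ∈ M := by
  have h := mul_mem (D.rr_mem ha hb hab ho) (D.rr_mem ha' hb' hab' ho')
  rwa [kg_mul, one_mul] at h

theorem OO.conj_iso {A : GL (Fin r) F} {B : GL (Fin s) F} {μ : F}
    (hA : ∀ x x', f₁ ((A : Matrix (Fin r) (Fin r) F) *ᵥ x) ((A : Matrix (Fin r) (Fin r) F) *ᵥ x') = μ * f₁ x x')
    {t : GL (Fin r) F}
    (ht : ∀ x x', f₁ ((t : Matrix (Fin r) (Fin r) F) *ᵥ x) ((t : Matrix (Fin r) (Fin r) F) *ᵥ x') = f₁ x x')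
    (x x' : Fin r → F) : f₁ (((A * t * A⁻¹ : GL (Fin r) F) : Matrix (Fin r) (Fin r) F) *ᵥ x)
      (((A * t * A⁻¹ : GL (Fin r) F) : Matrix (Fin r) (Fin r) F) *ᵥ x') = f₁ x x' := by
  rw [gl_mul_mulVec, gl_mul_mulVec, gl_mul_mulVec, gl_mul_mulVec, hA, ht, ← hA, gl_mulVec_inv, gl_mulVec_inv]

/-- `M` is in the tensor product subgroup once all left involutions are good -/
theorem OO.main (hfull : ¬ omegaGL Q ≤ M) (hr : Odd r) (hrs : r ≠ s)
    (hG : ∀ γ : GL (Fin r) F, γ * γ = 1 →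
      (∀ x x', f₁ ((γ : Matrix (Fin r) (Fin r) F) *ᵥ x) ((γ : Matrix (Fin r) (Fin r) F) *ᵥ x') = f₁ x x') →
      negSp γ ≠ ⊥ → fixSp γ ≠ ⊥ → D.Good γ)
    {t t' : GL (Fin r) F} (ht : t * t = 1)
    (hti : ∀ x x', f₁ ((t : Matrix (Fin r) (Fin r) F) *ᵥ x) ((t : Matrix (Fin r) (Fin r) F) *ᵥ x') = f₁ x x')
    (htM : kg e P t (1 : GL (Fin s) F) ∈ M) (htn : negSp t ≠ ⊥) (htf : fixSp t ≠ ⊥) (ht' : t' * t' = 1)
    (hti' : ∀ x x', f₁ ((t' : Matrix (Fin r) (Fin r) F) *ᵥ x) ((t' : Matrix (Fin r) (Fin r) F) *ᵥ x') = f₁ x x')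
    (htM' : kg e P t' (1 : GL (Fin s) F) ∈ M) (htn' : negSp t' ≠ ⊥) (htf' : fixSp t' ≠ ⊥)
    (hne : ∀ c ∈ M, c * kg e P t (1 : GL (Fin s) F) * c⁻¹ ≠ kg e P t' (1 : GL (Fin s) F))
    (hsum : Module.finrank F (negSp t) + Module.finrank F (negSp t') ≠ r)
    (h12 : r * s = 12 → r = 3 ∧ Module.finrank F (negSp t) = 2 ∧ Module.finrank F (negSp t') = 2) :
    M ≤ tensorProductSubgroup r s e P := by
  intro g hg
  have h2 := D.two
  have hs0 : 0 < s := by have := D.s3; omega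
  obtain ⟨y, hy⟩ : ∃ y, y = kg e P t (1 : GL (Fin s) F) := ⟨_, rfl⟩
  obtain ⟨y', hy'⟩ : ∃ y', y' = kg e P t' (1 : GL (Fin s) F) := ⟨_, rfl⟩
  rw [← hy] at htM
  rw [← hy'] at htM'
  have hyy : y * y = 1 := by rw [hy, kg_mul, ht, one_mul, kg_one]
  have hyy' : y' * y' = 1 := by rw [hy', kg_mul, ht', one_mul, kg_one]
  have hC : ∀ c ∈ M, c * y = y * c → c ∈ tensorProductSubgroup r s e P := fun c hc h =>
    hG t ht hti htn htf c hc (hy ▸ h)
  have hC' : ∀ c ∈ M, c * y' = y' * c → c ∈ tensorProductSubgroup r s e P := fun c hc h =>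
    hG t' ht' hti' htn' htf' c hc (hy' ▸ h)
  have h6 : r * s = 12 → Module.finrank F (negSp y) ≠ 6 ∧ Module.finrank F (negSp y') ≠ 6 := fun h => by
    obtain ⟨h3, ht6, ht6'⟩ := h12 h
    rw [hy, hy', neg_dim_left h2 ht, neg_dim_left h2 ht', ht6, ht6']
    subst h3
    omega
  obtain ⟨x, hx⟩ : ∃ x, x = g * y * g⁻¹ := ⟨_, rfl⟩
  have hxM : x ∈ M := hx ▸ mul_mem (mul_mem hg htM) (inv_mem hg)
  have hxx : x * x = 1 := by
    rw [hx, show g * y * g⁻¹ * (g * y * g⁻¹) = g * (y * y) * g⁻¹ by group, hyy, mul_one, mul_inv_cancel]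
  have hclos : Subgroup.closure ({x, y'} : Set (GL ι F)) ≤ M :=
    (Subgroup.closure_le _).2 (Set.insert_subset hxM (Set.singleton_subset_iff.2 htM'))
  -- the conjugate of `u` lying in the tensor product subgroup is `γ ⊗ 1`
  have hconj : ∀ {u : GL (Fin r) F} {c : GL ι F}, u * u = 1 →
      (∀ v v', f₁ ((u : Matrix (Fin r) (Fin r) F) *ᵥ v) ((u : Matrix (Fin r) (Fin r) F) *ᵥ v') = f₁ v v') →
      c ∈ M → c ∈ tensorProductSubgroup r s e P → ∃ γ : GL (Fin r) F, γ * γ = 1 ∧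
        (∀ v v', f₁ ((γ : Matrix (Fin r) (Fin r) F) *ᵥ v) ((γ : Matrix (Fin r) (Fin r) F) *ᵥ v') = f₁ v v') ∧
        Module.finrank F (negSp γ) = Module.finrank F (negSp u) ∧
        c * kg e P u (1 : GL (Fin s) F) * c⁻¹ = kg e P γ (1 : GL (Fin s) F) := by
    intro u c hu hui hcM hcH
    obtain ⟨A, B, μ, ν, -, hA, -, rfl⟩ := D.tensor_data (D.le_iso hcM) hcH
    refine ⟨A * u * A⁻¹, ?_, D.conj_iso (B := B) hA hui, negSp_conj A u, ?_⟩
    · rw [show A * u * A⁻¹ * (A * u * A⁻¹) = A * (u * u) * A⁻¹ by group, hu, mul_one, mul_inv_cancel]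
    · rw [kg_inv, kg_mul, kg_mul, mul_one, mul_inv_cancel]
  -- the central involution is good
  have hfinish : ∀ {γ : GL (Fin r) F} {z : GL ι F}, γ * γ = 1 →
      (∀ v v', f₁ ((γ : Matrix (Fin r) (Fin r) F) *ᵥ v) ((γ : Matrix (Fin r) (Fin r) F) *ᵥ v') = f₁ v v') →
      Module.finrank F (negSp γ) + Module.finrank F (negSp t') ≠ r → z ≠ 1 → z * z = 1 → z * x = x * z →
      z = kg e P γ (1 : GL (Fin s) F) * y' → x ∈ tensorProductSubgroup r s e P := by
    intro γ z hγ hγi hd hz1 hzz hzx hz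
    rw [hy', kg_mul, one_mul] at hz
    have hδ : γ * t' * (γ * t') = 1 := kgL_inj (e := e) (P := P) hs0 (by
      rw [kg_one, ← hzz, hz, kg_mul, one_mul])
    refine hG (γ * t') hδ (fun v v' => by rw [gl_mul_mulVec, gl_mul_mulVec, hγi, hti']) ?_ ?_ x hxM
      (by rw [← hz]; exact hzx.symm)
    · intro hbot
      refine hz1 ?_
      rw [hz, show γ * t' = 1 from gl_ext_vec fun v => ?_, kg_one]
      obtain ⟨h4, h5, h6⟩ := invol_decomp h2 hδ v
      rw [hbot, Submodule.mem_bot] at h5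
      rw [h5, add_zero] at h6
      rw [h6, mem_fixSp.1 h4, Units.val_one, one_mulVec]
    · intro hbot
      have hneg : ∀ v, (γ : Matrix (Fin r) (Fin r) F) *ᵥ v = -((t' : Matrix (Fin r) (Fin r) F) *ᵥ v) := fun v => by
        obtain ⟨h4, h5, h6⟩ := invol_decomp h2 hδ ((t' : Matrix (Fin r) (Fin r) F) *ᵥ v)
        rw [hbot, Submodule.mem_bot] at h4
        rw [h4, zero_add] at h6
        have h7 := mem_negSp.1 h5
        rw [← h6, gl_mul_mulVec, ← gl_mul_mulVec t', ht', Units.val_one, one_mulVec] at h7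
        exact h7
      have heq : negSp γ = fixSp t' := SetLike.ext fun v => by rw [mem_negSp, mem_fixSp, hneg, neg_inj]
      have h8 := invol_finrank h2 ht'
      rw [Fintype.card_fin] at h8
      rw [heq] at hd
      exact hd h8
  have hxH : x ∈ tensorProductSubgroup r s e P := by
    rcases invol_pair_parity hxx hyy' with ⟨-, c, _, hc⟩ | ⟨n, hn1, hn2, hnx, hny, hpar⟩
    · exfalso
      refine hne (c⁻¹ * g) (mul_mem (inv_mem (hclos ‹_›)) hg) ?_
      rw [← hy, ← hy', show c⁻¹ * g * y * (c⁻¹ * g)⁻¹ = c⁻¹ * (g * y * g⁻¹) * c by group, ← hx, hc]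
      group
    have hzM : (x * y') ^ n ∈ M := pow_mem (mul_mem hxM htM') n
    have hzH : (x * y') ^ n ∈ tensorProductSubgroup r s e P := hC' _ hzM hny
    have hqH : (x * y') ^ n * y' ∈ tensorProductSubgroup r s e P := mul_mem hzH (hy' ▸ kg_mem t' 1)
    have hz : (x * y') ^ n = (x * y') ^ n * y' * y' := by rw [mul_assoc, hyy', mul_one]
    rcases hpar with ⟨-, c, hc, hqc⟩ | ⟨-, c, hc, hqc⟩ <;> rw [hqc] at hz hqH
    · have hcH := D.conj_mem hfull hrs (Or.inl hr) htM' hyy' hC' (fun h => (h6 h).2) (hclos hc) hqH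
      obtain ⟨γ, hγ, hγi, hd, he⟩ := hconj ht' hti' (hclos hc) hcH
      rw [← hy'] at he
      refine hfinish hγ hγi ?_ hn1 hn2 hnx (by rw [← he]; exact hz)
      rw [hd]
      intro h
      obtain ⟨l, hl⟩ := hr
      omega
    · have hq : c * x * c⁻¹ = c * g * y * (c * g)⁻¹ := by rw [hx]; group
      rw [hq] at hz hqH
      have hcg := mul_mem (hclos hc) hg
      have hcH := D.conj_mem hfull hrs (Or.inl hr) htM hyy hC (fun h => (h6 h).1) hcg hqH
      obtain ⟨γ, hγ, hγi, hd, he⟩ := hconj ht hti hcg hcH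
      rw [← hy] at he
      exact hfinish hγ hγi (hd ▸ hsum) hn1 hn2 hnx (by rw [← he]; exact hz)
  exact D.conj_mem hfull hrs (Or.inl hr) htM hyy hC (fun h => (h6 h).1) hg (hx ▸ hxH)

/-- the endgame in dimension at least five -/
theorem OO.le_tensor_main (hfull : ¬ omegaGL Q ≤ M) (hr : Odd r) (hr5 : 5 ≤ r) (hrs : r ≠ s) (hFix : D.Fix) :
    M ≤ tensorProductSubgroup r s e P := by
  have h2 := D.two
  obtain ⟨d, -, ho, hn⟩ := nd_frame D.s1 h2 4 ⊤ (nd_top D.s1)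
    (by rw [top_finrank D.s1, Fintype.card_fin]; omega) (one_ne_zero (α := F))
  have hd : ∀ i, f₁ (d i) (d i) ≠ 0 := fun i => by rw [hn]; exact one_ne_zero
  have h1 := rr_sq D.s1 (hd 0) (hd 1) (ho 0 1 (by decide))
  have h3 := rr_dim D.s1 h2 (hd 0) (hd 1) (ho 0 1 (by decide))
  obtain ⟨h4, h5, h6⟩ := four_data D.s1 h2 d ho hd
  have hbot : ∀ {g : GL (Fin r) F}, g * g = 1 → ∀ {b : ℕ}, Module.finrank F (negSp g) = b → 0 < b → b < r →
      negSp g ≠ ⊥ ∧ fixSp g ≠ ⊥ := fun {g} hg {b} hb hb0 hbr => by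
    have h := invol_finrank h2 hg
    rw [Fintype.card_fin, hb] at h
    exact ⟨fun h' => by rw [h', finrank_bot] at hb; omega, fun h' => by rw [h', finrank_bot] at h; omega⟩
  obtain ⟨a1, a2⟩ := hbot h1 h3 (by omega) (by omega)
  obtain ⟨a3, a4⟩ := hbot h4 h6 (by omega) (by omega)
  refine D.main hfull hr hrs (fun γ hγ hγi hn hf => D.all_good hfull hr5 hFix hγ hγi hn hf) h1 (rr_iso D.s1 _ _)
    (D.rr_mem _ _ (by rw [hn, hn]) (ho 0 1 (by decide))) a1 a2 h4 h5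
    (D.rr2_mem _ _ (by rw [hn, hn]) (ho 0 1 (by decide)) _ _ (by rw [hn, hn]) (ho 2 3 (by decide))) a3 a4
    (fun c hc h => ?_) ?_ (fun h => absurd h fun h => by
      have h' := Nat.mul_le_mul hr5 D.s3
      omega)
  · have h' := congrArg (fun u => Module.finrank F (negSp u)) h
    rw [negSp_conj, neg_dim_left h2 h1, neg_dim_left h2 h4, h3, h6] at h'
    have := D.s3
    omega
  obtain ⟨l, hl⟩ := hr
  omega

/-- the fixators on the right, from three good left involutions in dimension three -/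
theorem OO.swap_fix_three (hfull : ¬ omegaGL Q ≤ M) (hr : r = 3) (hs : 4 ≤ s) : D.swap.Fix := by
  have h2 := D.two
  have hf := D.s1
  obtain ⟨x₁, x₂, x₃, hn, hn2, hn3, h12, h13, h23⟩ := three_equal hf h2 (by rw [Fintype.card_fin]; omega)
  have hn2' : f₁ x₂ x₂ ≠ 0 := hn2 ▸ hn
  have hn3' : f₁ x₃ x₃ ≠ 0 := hn3 ▸ hn
  have hgood : ∀ {a b : Fin r → F} (ha : f₁ a a ≠ 0) (hb : f₁ b b ≠ 0), f₁ a b = 0 → D.Good (rr hf ha hb) := by
    intro a b ha hb hab
    refine D.good_three hfull hr hs (rr_sq hf ha hb hab) (rr_iso hf ha hb) ?_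
    have h := invol_finrank h2 (rr_sq hf ha hb hab)
    rw [rr_dim hf h2 ha hb hab, Fintype.card_fin] at h
    omega
  have hprod : rr hf hn hn2' * rr hf hn hn3' = rr hf hn2' hn3' := by
    simp only [rr]
    rw [refl_orth_comm hf hn hn2' h12, mul_assoc, ← mul_assoc (refl hf x₁ hn), refl_sq, one_mul]
  have hcomm : rr hf hn hn2' * rr hf hn hn3' = rr hf hn hn3' * rr hf hn hn2' := by
    rw [hprod]
    simp only [rr]
    rw [refl_orth_comm hf hn hn3' h13, mul_assoc, ← mul_assoc (refl hf x₁ hn), refl_sq, one_mul,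
      refl_orth_comm hf hn2' hn3' h23]
  intro v hv x hx hfix
  rw [tensor_swap]
  refine D.v4 (by rw [hr]; decide) (rr_sq hf _ _ h12) (rr_sq hf _ _ h13) hcomm ?_
    (D.rr_mem _ _ hn2.symm h12) (D.rr_mem _ _ hn3.symm h13) (hgood _ _ h12) (hgood _ _ h13)
    (by rw [hprod]; exact hgood _ _ h23) hv hx (fun a => ?_)
  · intro h
    have h' := rr_dim hf h2 hn2' hn3' h23
    rw [← hprod, ← h, rr_sq hf _ _ h12, negSp_one hf h2, finrank_bot] at h'
    omega
  · have h := hfix a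
    rwa [tvec_swap] at h

/-- the fixators on the left, from three good right involutions in dimension at least seven -/
theorem OO.fix_big (hfull : ¬ omegaGL Q ≤ M) (hs : Odd s) (hs7 : 7 ≤ s) : D.Fix := by
  have h2 := D.two
  have hf := D.s2
  obtain ⟨d, -, ho, hn⟩ := nd_frame hf h2 6 ⊤ (nd_top hf) (by rw [top_finrank hf, Fintype.card_fin]; omega)
    (one_ne_zero (α := F))
  have hd : ∀ i, f₂ (d i) (d i) ≠ 0 := fun i => by rw [hn]; exact one_ne_zero
  have heq : ∀ i i', f₂ (d i) (d i) = f₂ (d i') (d i') := fun i i' => by rw [hn, hn]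
  have hgood : ∀ i j l q : Fin 6, Function.Injective ![i, j, l, q] →
      ∀ A B : GL (Fin s) F, A = rr hf (hd i) (hd j) → B = rr hf (hd l) (hd q) →
      D.swap.Good (A * B) ∧ A * B * (A * B) = 1 ∧ Module.finrank F (negSp (A * B)) = 4 := by
    intro i j l q hσ A B hA hB
    subst hA hB
    obtain ⟨h1, h3, h4⟩ := four_data hf h2 (fun u => d (![i, j, l, q] u))
      (fun u u' h => ho _ _ (hσ.ne h)) (fun u => hd _)
    change rr hf (hd i) (hd j) * rr hf (hd l) (hd q) * (rr hf (hd i) (hd j) * rr hf (hd l) (hd q)) = 1 at h1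
    change Module.finrank F (negSp (rr hf (hd i) (hd j) * rr hf (hd l) (hd q))) = 4 at h4
    refine ⟨?_, h1, h4⟩
    obtain ⟨hX, hN⟩ := nd_eigen hf h2 h1 h3
    have h5 := invol_finrank h2 h1
    rw [h4, Fintype.card_fin] at h5
    obtain ⟨b, hb, hb0, hbb⟩ := nd_singular hf h2 hN (by omega)
    exact D.swap.good_of hfull h3 hX (by omega) (σ := 1) (one_mul 1)
      (fun x hx => by rw [mem_fixSp.1 hx, one_smul]) hb0 (by rw [mem_negSp.1 hb, neg_one_smul])
      (fun x hx h => D.swap.fix_singular hfull hb0 hbb hx h)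
  obtain ⟨A, hA⟩ : ∃ A, A = rr hf (hd 0) (hd 1) := ⟨_, rfl⟩
  obtain ⟨B, hB⟩ : ∃ B, B = rr hf (hd 2) (hd 3) := ⟨_, rfl⟩
  obtain ⟨C, hC⟩ : ∃ C, C = rr hf (hd 4) (hd 5) := ⟨_, rfl⟩
  obtain ⟨g1, q1, -⟩ := hgood 0 1 2 3 (by decide) A B hA hB
  obtain ⟨g2, q2, -⟩ := hgood 0 1 4 5 (by decide) A C hA hC
  obtain ⟨g3, q3, n3⟩ := hgood 2 3 4 5 (by decide) B C hB hC
  have hAB : Commute A B := hA ▸ hB ▸ rr_comm hf _ _ _ _ (ho _ _ (by decide)) (ho _ _ (by decide))
    (ho _ _ (by decide)) (ho _ _ (by decide))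
  have hAC : Commute A C := hA ▸ hC ▸ rr_comm hf _ _ _ _ (ho _ _ (by decide)) (ho _ _ (by decide))
    (ho _ _ (by decide)) (ho _ _ (by decide))
  have hBC : Commute B C := hB ▸ hC ▸ rr_comm hf _ _ _ _ (ho _ _ (by decide)) (ho _ _ (by decide))
    (ho _ _ (by decide)) (ho _ _ (by decide))
  have hAA : A * A = 1 := hA ▸ rr_sq hf _ _ (ho 0 1 (by decide))
  have e1 : A * B * (A * C) = B * C := by rw [hAB.symm.mul_mul_mul_comm, hAA, one_mul]
  have e2 : A * C * (A * B) = B * C := by rw [hAC.symm.mul_mul_mul_comm, hAA, one_mul, hBC.eq]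
  have m1 : kg (e.trans (Equiv.prodComm _ _)) P (A * B) (1 : GL (Fin r) F) ∈ M :=
    hA ▸ hB ▸ D.swap.rr2_mem _ _ (heq 0 1) (ho 0 1 (by decide)) _ _ (heq 2 3) (ho 2 3 (by decide))
  have m2 : kg (e.trans (Equiv.prodComm _ _)) P (A * C) (1 : GL (Fin r) F) ∈ M :=
    hA ▸ hC ▸ D.swap.rr2_mem _ _ (heq 0 1) (ho 0 1 (by decide)) _ _ (heq 4 5) (ho 4 5 (by decide))
  intro v hv x hx hfix
  rw [← tensor_swap]
  refine D.swap.v4 hs q1 q2 (by rw [e1, e2]) ?_ m1 m2 g1 g2 (by rw [e1]; exact g3) hv hx (fun a => ?_)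
  · intro h
    rw [← e1, ← h, q1, negSp_one hf h2, finrank_bot] at n3
    omega
  · rw [tvec_swap]
    exact hfix a

/-- some Eichler transformation of `Ω` is not a tensor product -/
theorem OO.not_tensor : ¬ omegaGL Q ≤ tensorProductSubgroup r s e P := by
  intro hle
  have h2 := D.two
  obtain ⟨a, -, ha0, haa⟩ := nd_singular D.s1 h2 (nd_top D.s1)
    (by rw [top_finrank D.s1, Fintype.card_fin]; exact D.r3)
  obtain ⟨c, -, hcc, hca⟩ := nd_partner D.s1 h2 (nd_top D.s1) Submodule.mem_top ha0 haa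
  obtain ⟨b, -, hbb⟩ := nd_aniso D.s2 h2 (nd_top D.s2)
    (by rw [top_finrank D.s2, Fintype.card_fin]; have := D.s3; omega)
  have h3 := perp_finrank D.s2 (⊤ : Submodule F (Fin s → F)) b
  rw [top_finrank D.s2, Fintype.card_fin] at h3
  obtain ⟨b', hb', hb'b⟩ := nd_aniso D.s2 h2 (nd_perp D.s2 (nd_top D.s2) Submodule.mem_top hbb)
    (by have := D.s3; omega)
  have h4 := perp_finrank D.s2 (perp D.s2 ⊤ b) b'
  obtain ⟨y, hy, hyy⟩ := nd_aniso D.s2 h2
    (nd_perp D.s2 (nd_perp D.s2 (nd_top D.s2) Submodule.mem_top hbb) hb' hb'b) (by have := D.s3; omega)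
  have hyb : f₂ y b = 0 := hy.1.2
  have hyb' : f₂ y b' = 0 := hy.2
  have hb'0 : b' ≠ 0 := fun h => hb'b (by rw [h, Orth.sym_zero_left D.s2])
  have hy0 : y ≠ 0 := fun h => hyy (by rw [h, Orth.sym_zero_left D.s2])
  have hself : ∀ z, Q (T a z) = 0 := fun z => by
    have h := pself D.hQ (T a z)
    rw [D.pol, haa, zero_mul, mul_zero] at h
    exact (mul_eq_zero.1 h.symm).resolve_left h2
  obtain ⟨g, hg, hgE⟩ := ein_omega D.hQ D.hn (hself b) (a := T a b')
    (by show QuadraticMap.polar Q _ _ = _; rw [D.pol, haa, zero_mul, mul_zero])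
  obtain ⟨A, B, hAB⟩ := mem_tensor (hle hg)
  have hev : ∀ x z, (g : Matrix ι ι F) *ᵥ T x z =
      T x z + (k * (f₁ x a * f₂ z b)) • T a b' - (k * (f₁ x a * f₂ z b')) • T a b := fun x z => by
    have h := hgE (T x z)
    rw [h, D.pol, D.pol, hself, zero_mul, zero_smul, sub_zero]
  obtain ⟨γ, hγ⟩ := exists_dot_one (show (A : Matrix (Fin r) (Fin r) F) *ᵥ a ≠ 0 from
    fun h => ha0 (gl_mulVec_eq_zero.1 h))
  obtain ⟨l, hl⟩ : ∃ l, l = γ ⬝ᵥ a := ⟨_, rfl⟩
  have hB : ∀ z, (B : Matrix (Fin s) (Fin s) F) *ᵥ z = l • z := fun z => by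
    have h : T ((A : Matrix (Fin r) (Fin r) F) *ᵥ a) ((B : Matrix (Fin s) (Fin s) F) *ᵥ z) = T a z := by
      rw [← hAB, hev, haa, zero_mul, zero_mul, mul_zero, zero_smul, zero_smul, add_zero, sub_zero]
    have h' := congrArg (rc e P γ) h
    rwa [rc_tvec, rc_tvec, hγ, one_smul, ← hl] at h'
  have hA : l • ((A : Matrix (Fin r) (Fin r) F) *ᵥ c) = c := by
    refine tvec_left_inj (e := e) (P := P) hy0 ?_
    rw [tvec_smul_left, ← tvec_smul_right, ← hB, ← hAB, hev, hyb, hyb', mul_zero, mul_zero, zero_smul, zero_smul,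
      add_zero, sub_zero]
  have h := hev c b
  rw [hAB, hB, tvec_smul_right, ← tvec_smul_left, hA, hca, D.s2.symm b b', show f₂ b' b = 0 from hb'.2, mul_zero, mul_zero, zero_smul,
    sub_zero, one_mul, eq_comm, add_eq_left] at h
  exact (smul_eq_zero.1 h).elim (mul_ne_zero D.kne hbb) (tvec_ne_zero ha0 hb'0)

end CfsgLib.Perm.Trans.TensorOO
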