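import Mathlib
import Cfsg.Agent.Lib.Perm.Trans.TensorOO.Main

/-!
# Tools: commuting involutions, planes, pure eigenvectors
-/

set_option autoImplicit false
set_option linter.all false

namespace CfsgLib.Perm.Trans.TensorOO

open scoped Matrix
open Matrix Cfsg.Geo CfsgLib.Perm.Asch CfsgLib.Perm.Trans CfsgLib.Perm.Trans.TensorFrame
open CfsgLib.Perm.Trans.TensorMax CfsgLib.Perm.Trans.Quad CfsgLib.Perm.Trans.TensorSO

section Invol

variable {κ : Type} [Fintype κ] [DecidableEq κ] {F : Type*} [Field F]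

theorem fixSp_conj (g x : GL κ F) : Module.finrank F (fixSp (g * x * g⁻¹)) = Module.finrank F (fixSp x) := by
  have hinj : Function.Injective (Matrix.mulVecLin (g : Matrix κ κ F)) := fun u v huv => by
    rw [← gl_inv_mulVec g u, ← gl_inv_mulVec g v]; exact congrArg _ huv
  have h : (fixSp x).map (Matrix.mulVecLin (g : Matrix κ κ F)) = fixSp (g * x * g⁻¹) := by
    ext z
    constructor
    · rintro ⟨v, hv, rfl⟩
      rw [mem_fixSp, Matrix.mulVecLin_apply, gl_mul_mulVec, gl_mul_mulVec, gl_inv_mulVec, mem_fixSp.1 hv]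
    · intro hz
      refine ⟨((g⁻¹ : GL κ F) : Matrix κ κ F) *ᵥ z, mem_fixSp.2 ?_, gl_mulVec_inv g z⟩
      have h1 := mem_fixSp.1 hz
      rw [gl_mul_mulVec, gl_mul_mulVec] at h1
      conv_rhs => rw [← h1, gl_inv_mulVec]
  rw [← h, ((Submodule.equivMapOfInjective _ hinj (fixSp x)).finrank_eq)]

theorem invol_split (h2 : (2 : F) ≠ 0) {g : GL κ F} (hg : g * g = 1) {X : Submodule F (κ → F)}
    (hX : ∀ x ∈ X, (g : Matrix κ κ F) *ᵥ x ∈ X) :
    Module.finrank F X = Module.finrank F (X ⊓ fixSp g : Submodule F (κ → F)) +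
      Module.finrank F (X ⊓ negSp g : Submodule F (κ → F)) := by
  have h := Submodule.finrank_sup_add_finrank_inf_eq (X ⊓ fixSp g) (X ⊓ negSp g)
  have hinf : (X ⊓ fixSp g) ⊓ (X ⊓ negSp g) = ⊥ :=
    le_bot_iff.1 ((inf_le_inf inf_le_right inf_le_right).trans (fix_neg_disjoint h2 g).le)
  have hsup : (X ⊓ fixSp g) ⊔ (X ⊓ negSp g) = X := le_antisymm (sup_le inf_le_left inf_le_left) fun x hx => by
    obtain ⟨h1, h3, h4⟩ := invol_decomp h2 hg x
    rw [h4]
    exact Submodule.add_mem_sup ⟨X.smul_mem _ (X.add_mem hx (hX x hx)), h1⟩ ⟨X.smul_mem _ (X.sub_mem hx (hX x hx)), h3⟩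
  rw [hinf, finrank_bot, add_zero, hsup] at h
  exact h

/-- the negated dimension of a product of commuting involutions -/
theorem comm_neg_dim (h2 : (2 : F) ≠ 0) {a b : GL κ F} (ha : a * a = 1) (hb : b * b = 1) (h : a * b = b * a) :
    Module.finrank F (negSp (a * b)) + 2 * Module.finrank F (negSp a ⊓ negSp b : Submodule F (κ → F)) =
      Module.finrank F (negSp a) + Module.finrank F (negSp b) := by
  have hc : ∀ x, (a : Matrix κ κ F) *ᵥ ((b : Matrix κ κ F) *ᵥ x) = (b : Matrix κ κ F) *ᵥ ((a : Matrix κ κ F) *ᵥ x) :=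
    fun x => by rw [← gl_mul_mulVec, h, gl_mul_mulVec]
  have e1 := invol_split h2 hb (X := negSp a) fun x hx => mem_negSp.2 (by rw [hc, mem_negSp.1 hx, mulVec_neg])
  have e2 := invol_split h2 ha (X := negSp b) fun x hx => mem_negSp.2 (by rw [← hc, mem_negSp.1 hx, mulVec_neg])
  have e3 := invol_split h2 ha (X := negSp (a * b)) fun x hx => mem_negSp.2 (by
    rw [← gl_mul_mulVec, show a * b * a = a * (a * b) by rw [mul_assoc, ← h], gl_mul_mulVec, mem_negSp.1 hx,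
      mulVec_neg])
  have f1 : negSp (a * b) ⊓ fixSp a = negSp b ⊓ fixSp a := by
    ext x
    simp only [Submodule.mem_inf, mem_negSp, mem_fixSp]
    constructor
    · rintro ⟨h1, h3⟩
      exact ⟨by rw [h, gl_mul_mulVec, h3] at h1; exact h1, h3⟩
    · rintro ⟨h1, h3⟩
      exact ⟨by rw [gl_mul_mulVec, h1, mulVec_neg, h3], h3⟩
  have f2 : negSp (a * b) ⊓ negSp a = negSp a ⊓ fixSp b := by
    ext x
    simp only [Submodule.mem_inf, mem_negSp, mem_fixSp]
    constructor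
    · rintro ⟨h1, h3⟩
      refine ⟨h3, ?_⟩
      rw [h, gl_mul_mulVec, h3, mulVec_neg, neg_inj] at h1
      exact h1
    · rintro ⟨h1, h3⟩
      exact ⟨by rw [gl_mul_mulVec, h3, h1], h1⟩
  rw [f1, f2] at e3
  rw [inf_comm (negSp b) (negSp a)] at e2
  omega

variable {f : (κ → F) → (κ → F) → F} (hf : IsSymmetricForm f) (h2 : (2 : F) ≠ 0)
include hf h2

theorem eigen_perp {t : GL κ F} (ht : ∀ x y, f ((t : Matrix κ κ F) *ᵥ x) ((t : Matrix κ κ F) *ᵥ y) = f x y)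
    {x y : κ → F} (hx : x ∈ fixSp t) (hy : y ∈ negSp t) : f x y = 0 := by
  have h := ht x y
  rw [mem_fixSp.1 hx, mem_negSp.1 hy, Orth.sym_neg_right hf] at h
  exact (mul_eq_zero.1 (show (2 : F) * f x y = 0 by linear_combination -h)).resolve_left h2

theorem eigen_perp' {t : GL κ F} (ht : ∀ x y, f ((t : Matrix κ κ F) *ᵥ x) ((t : Matrix κ κ F) *ᵥ y) = f x y)
    {x y : κ → F} (hx : x ∈ negSp t) (hy : y ∈ fixSp t) : f x y = 0 := by
  rw [hf.symm]; exact eigen_perp hf h2 ht hy hx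

theorem perp_dim {X : Submodule F (κ → F)} {d : κ → F} (hd : d ∈ X) (hdd : f d d ≠ 0) :
    Module.finrank F (perp hf X d) + 1 = Module.finrank F X := by
  have h := perp_finrank hf X d
  have h' := Submodule.finrank_lt_finrank_of_lt (show perp hf X d < X from
    lt_of_le_of_ne (fun x hx => (mem_perp.1 hx).1) fun he => hdd ((mem_perp.1 (he.symm ▸ hd : d ∈ perp hf X d)).2))
  omega

theorem rr_neg_span {a b v : κ → F} (ha : f a a ≠ 0) (hb : f b b ≠ 0) (h : f a b = 0)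
    (hv : (rr hf ha hb : Matrix κ κ F) *ᵥ v = -v) : v = (f v a / f a a) • a + (f v b / f b b) • b := by
  rw [rr, gl_mul_mulVec, refl_mulVec, refl_mulVec] at hv
  have h' : f b a = 0 := (hf.symm b a).trans h
  rw [Orth.sym_sub_left hf, hf.bilinear.smul_left, h', mul_zero, sub_zero] at hv
  have h3 : (2 : F) • v = (2 : F) • ((f v a / f a a) • a + (f v b / f b b) • b) := by
    linear_combination (norm := skip) hv
    match_scalars <;> field_simp <;> ring
  exact smul_right_injective _ h2 h3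

/-- an involutive isometry with negated plane -/
theorem invol_eq_rr {t : GL κ F} (ht2 : t * t = 1)
    (ht : ∀ x y, f ((t : Matrix κ κ F) *ᵥ x) ((t : Matrix κ κ F) *ᵥ y) = f x y)
    (hn : Module.finrank F (negSp t) = 2) : ∃ (a b : κ → F) (ha : f a a ≠ 0) (hb : f b b ≠ 0),
      a ∈ negSp t ∧ b ∈ negSp t ∧ f a b = 0 ∧ t = rr hf ha hb := by
  obtain ⟨-, hN⟩ := nd_eigen hf h2 ht2 ht
  obtain ⟨a, haN, ha⟩ := nd_aniso hf h2 hN (by omega)
  have hN' := nd_perp hf hN haN ha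
  have hd := perp_dim hf h2 haN ha
  obtain ⟨b, hbN', hb⟩ := nd_aniso hf h2 hN' (by omega)
  have hd' := perp_dim hf h2 hbN' hb
  have hbN : b ∈ negSp t := hbN'.1
  have hab : f a b = 0 := (hf.symm a b).trans hbN'.2
  have hbot : perp hf (perp hf (negSp t) a) b = ⊥ := Submodule.finrank_eq_zero.1 (by omega)
  refine ⟨a, b, ha, hb, haN, hbN, hab, gl_ext_vec fun x => ?_⟩
  obtain ⟨hp, hm, hx⟩ := invol_decomp h2 ht2 x
  obtain ⟨p, hpdef⟩ : ∃ p, p = (2 : F)⁻¹ • (x + (t : Matrix κ κ F) *ᵥ x) := ⟨_, rfl⟩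
  obtain ⟨q, hqdef⟩ : ∃ q, q = (2 : F)⁻¹ • (x - (t : Matrix κ κ F) *ᵥ x) := ⟨_, rfl⟩
  rw [← hpdef] at hp hx
  rw [← hqdef] at hm hx
  obtain ⟨q', hq'⟩ : ∃ q', q' = q - (f q a / f a a) • a - (f q b / f b b) • b := ⟨_, rfl⟩
  have hz : q' ∈ perp hf (perp hf (negSp t) a) b := by
    refine mem_perp.2 ⟨mem_perp.2 ⟨?_, ?_⟩, ?_⟩
    · exact hq' ▸ Submodule.sub_mem _ (Submodule.sub_mem _ hm (Submodule.smul_mem _ _ haN)) (Submodule.smul_mem _ _ hbN)
    · rw [hq', Orth.sym_sub_left hf, Orth.sym_sub_left hf, hf.bilinear.smul_left, hf.bilinear.smul_left, hf.symm b a,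
        hab, mul_zero, sub_zero, div_mul_cancel₀ _ ha, sub_self]
    · rw [hq', Orth.sym_sub_left hf, Orth.sym_sub_left hf, hf.bilinear.smul_left, hf.bilinear.smul_left,
        hab, mul_zero, sub_zero, div_mul_cancel₀ _ hb, sub_self]
  rw [hbot, Submodule.mem_bot, hq', sub_sub, sub_eq_zero] at hz
  have e1 : (rr hf ha hb : Matrix κ κ F) *ᵥ a = -a := by
    rw [rr, gl_mul_mulVec, refl_perp hf hb hab, refl_self hf ha]
  have e2 : (rr hf ha hb : Matrix κ κ F) *ᵥ b = -b := by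
    rw [rr, gl_mul_mulVec, refl_self hf hb, mulVec_neg, refl_perp hf ha ((hf.symm b a).trans hab)]
  have e3 : (rr hf ha hb : Matrix κ κ F) *ᵥ p = p :=
    rr_perp hf ha hb (eigen_perp hf h2 ht hp haN) (eigen_perp hf h2 ht hp hbN)
  conv_lhs => rw [hx, mulVec_add, mem_fixSp.1 hp, mem_negSp.1 hm, hz]
  conv_rhs => rw [hx, mulVec_add, e3, hz, mulVec_add, mulVec_smul, mulVec_smul, e1, e2]
  module

/-- orthogonal pairs of norms `1, -1` -/
theorem exists_hyp_pair {X : Submodule F (κ → F)} (hX : Nd f X) (hd : 3 ≤ Module.finrank F X) [Fintype F] :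
    ∃ a b, a ∈ X ∧ b ∈ X ∧ f a a = 1 ∧ f b b = -1 ∧ f a b = 0 := by
  obtain ⟨a, haX, ha0, haa⟩ := nd_singular hf h2 hX hd
  obtain ⟨c, hcX, hcc, hca⟩ := nd_partner hf h2 hX haX ha0 haa
  have hac : f a c = 1 := (hf.symm a c).trans hca
  refine ⟨a + (2 : F)⁻¹ • c, a - (2 : F)⁻¹ • c, X.add_mem haX (X.smul_mem _ hcX), X.sub_mem haX (X.smul_mem _ hcX),
    ?_, ?_, ?_⟩
  all_goals
    simp only [hf.bilinear.add_left, hf.bilinear.add_right, Orth.sym_sub_left hf, Orth.sym_sub_right hf,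
      hf.bilinear.smul_left, hf.bilinear.smul_right, haa, hcc, hca, hac]
    field_simp
    ring

/-- orthogonal pairs spanning a plane without singular vectors -/
theorem exists_ell_pair {X : Submodule F (κ → F)} (hX : Nd f X) (hd : 3 ≤ Module.finrank F X) [Fintype F] :
    ∃ a b, a ∈ X ∧ b ∈ X ∧ f a a ≠ 0 ∧ f b b ≠ 0 ∧ f a b = 0 ∧
      ∀ i j : F, f (i • a + j • b) (i • a + j • b) = 0 → i = 0 ∧ j = 0 := by
  obtain ⟨η, hη⟩ : ∃ η : F, ¬ IsSquare η := FiniteField.exists_nonsquare fun h => h2 (by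
    haveI := ringChar.of_eq h; exact CharTwo.two_eq_zero)
  have hη0 : η ≠ 0 := fun h => hη (h ▸ IsSquare.zero)
  obtain ⟨a, haX, ha⟩ := nd_value hf h2 hX (by omega) (one_ne_zero (α := F))
  have hX' := nd_perp hf hX haX (by rw [ha]; exact one_ne_zero)
  have hd' := perp_finrank hf X a
  obtain ⟨b, hbX, hb⟩ := nd_value hf h2 hX' (by omega) (neg_ne_zero.2 hη0)
  have hba : f b a = 0 := hbX.2
  refine ⟨a, b, haX, hbX.1, by rw [ha]; exact one_ne_zero, by rw [hb]; exact neg_ne_zero.2 hη0,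
    (hf.symm a b).trans hba, fun i j h => ?_⟩
  simp only [hf.bilinear.add_left, hf.bilinear.add_right, hf.bilinear.smul_left, hf.bilinear.smul_right, hba,
    hf.symm a b, ha, hb] at h
  have h' : i * i = η * (j * j) := by linear_combination h
  by_cases hj : j = 0
  · subst hj
    exact ⟨by simpa using h', rfl⟩
  · exact absurd ⟨i / j, by field_simp; linear_combination -h'⟩ hη

omit hf h2

theorem exists_neg_gl (t : GL κ F) : ∃ t' : GL κ F, ∀ x, (t' : Matrix κ κ F) *ᵥ x = -((t : Matrix κ κ F) *ᵥ x) :=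
  ⟨-t, fun x => by rw [Units.val_neg, neg_mulVec]⟩

end Invol

variable {ι : Type} [Fintype ι] [DecidableEq ι] {F : Type*} [Field F] [Fintype F] {r s : ℕ}
variable {e : ι ≃ Fin r × Fin s} {P : GL ι F}
variable {Q : (ι → F) → F} {f₁ : (Fin r → F) → (Fin r → F) → F} {f₂ : (Fin s → F) → (Fin s → F) → F}
variable {k : F} {M : Subgroup (GL ι F)}

local notation "T" => tvec e P
local notation "Qf" => QuadraticMap.polar Q

variable (D : OO Q f₁ f₂ e P k M)
include D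

/-- an element of the tensor product subgroup acting as `σ` on `d ⊗ W` is `u ⊗ 1` -/
theorem OO.fix_kg {q : GL ι F} (hq : q ∈ M) (hT : q ∈ tensorProductSubgroup r s e P) {d : Fin r → F} (hd : d ≠ 0)
    {σ : F} (hσ : σ ≠ 0) (hact : ∀ y, (q : Matrix ι ι F) *ᵥ T d y = σ • T d y) :
    ∃ u : GL (Fin r) F, (∀ x x', f₁ ((u : Matrix (Fin r) (Fin r) F) *ᵥ x) ((u : Matrix (Fin r) (Fin r) F) *ᵥ x') = f₁ x x') ∧
      (u : Matrix (Fin r) (Fin r) F) *ᵥ d = σ • d ∧ q = kg e P u (1 : GL (Fin s) F) := by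
  obtain ⟨A, B, μ, ν, -, -, -, rfl⟩ := D.tensor_data (D.le_iso hq) hT
  have hAd : (A : Matrix (Fin r) (Fin r) F) *ᵥ d ≠ 0 := fun h => hd (gl_mulVec_eq_zero.1 h)
  obtain ⟨γ, hγ⟩ := exists_dot_one hAd
  obtain ⟨l, hl⟩ : ∃ l, l = σ * (γ ⬝ᵥ d) := ⟨_, rfl⟩
  have hBl : ∀ y, (B : Matrix (Fin s) (Fin s) F) *ᵥ y = l • y := fun y => by
    have h := congrArg (rc e P γ) (hact y)
    rwa [kg_tvec, rc_tvec, map_smul, rc_tvec, hγ, one_smul, smul_smul, ← hl] at h
  obtain ⟨y0, hy0⟩ : ∃ y : Fin s → F, y ≠ 0 := ⟨Pi.single ⟨0, by have := D.s3; omega⟩ 1, by simp⟩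
  have hl0 : l ≠ 0 := fun h => hy0 (gl_mulVec_eq_zero.1 (by rw [hBl y0, h, zero_smul]))
  have hinj : Function.Injective (l • Matrix.mulVecLin (A : Matrix (Fin r) (Fin r) F)) :=
    (injective_iff_map_eq_zero _).2 fun v hv => gl_mulVec_eq_zero.1
      ((smul_eq_zero.1 (show l • ((A : Matrix (Fin r) (Fin r) F) *ᵥ v) = 0 from hv)).resolve_left hl0)
  obtain ⟨u, hu⟩ : ∃ u, u = glInj _ hinj := ⟨_, rfl⟩
  have huv : ∀ v, (u : Matrix (Fin r) (Fin r) F) *ᵥ v = l • ((A : Matrix (Fin r) (Fin r) F) *ᵥ v) := fun v => by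
    rw [hu, glInj_mulVec]; rfl
  have heq : kg e P A B = kg e P u (1 : GL (Fin s) F) := gl_ext_tvec (e := e) (P := P) fun v y => by
    rw [kg_tvec, kg_tvec, hBl, huv, Units.val_one, one_mulVec, tvec_smul_left, tvec_smul_right]
  refine ⟨u, fun v v' => ?_, ?_, heq⟩
  · obtain ⟨z1, z2, hz⟩ := D.swap.exists_pair₁
    have h := D.M_pol hq (T v z1) (T v' z2)
    rw [heq, kg_tvec, kg_tvec, Units.val_one, one_mulVec, one_mulVec, D.pol, D.pol, hz, mul_one, mul_one] at h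
    exact mul_left_cancel₀ D.kne h
  · refine tvec_left_inj (e := e) (P := P) hy0 ?_
    have h := hact y0
    rw [heq, kg_tvec, Units.val_one, one_mulVec] at h
    rw [h, tvec_smul_left]

/-- the formula for `refl d ⊗ 1` -/
theorem OO.reflL_mulVec {d : Fin r → F} (hd : f₁ d d ≠ 0) (z : ι → F) :
    (kg e P (refl D.s1 d hd) (1 : GL (Fin s) F) : Matrix ι ι F) *ᵥ z = z - T d ((2 / f₁ d d) • D.cob d z) := by
  have h : Matrix.mulVecLin (kg e P (refl D.s1 d hd) (1 : GL (Fin s) F) : Matrix ι ι F) =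
      LinearMap.id - (tL e P d).comp ((2 / f₁ d d) • D.cob d) := lin_ext (e := e) (P := P) fun x y => by
    show (kg e P (refl D.s1 d hd) (1 : GL (Fin s) F) : Matrix ι ι F) *ᵥ T x y =
      T x y - T d ((2 / f₁ d d) • D.cob d (T x y))
    rw [kg_tvec, refl_mulVec, Units.val_one, one_mulVec, D.cob_tvec, smul_smul, tvec_sub_left, tvec_smul_left,
      tvec_smul_right]
  exact LinearMap.congr_fun h z

theorem OO.cob_fixed {d : Fin r → F} {x : GL ι F} (hx : x ∈ M)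
    (hfix : ∀ y, (x : Matrix ι ι F) *ᵥ T d y = T d y) (z : ι → F) :
    D.cob d ((x : Matrix ι ι F) *ᵥ z) = D.cob d z := by
  refine sub_eq_zero.1 (sym_eq_zero D.s2 fun y => ?_)
  have h := D.M_pol hx z (T d y)
  rw [hfix, D.pol_cob, D.pol_cob] at h
  rw [Orth.sym_sub_left D.s2, mul_left_cancel₀ D.kne h, sub_self]

theorem OO.fix_comm_refl {d : Fin r → F} (hd : f₁ d d ≠ 0) {x : GL ι F} (hx : x ∈ M)
    (hfix : ∀ y, (x : Matrix ι ι F) *ᵥ T d y = T d y) :
    x * kg e P (refl D.s1 d hd) (1 : GL (Fin s) F) = kg e P (refl D.s1 d hd) (1 : GL (Fin s) F) * x :=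
  gl_ext_vec fun z => by
    rw [gl_mul_mulVec, gl_mul_mulVec, D.reflL_mulVec, D.reflL_mulVec, D.cob_fixed hx hfix, mulVec_sub, hfix]

/-- eigenvectors of `t ⊗ 1` for an eigenvalue with one-dimensional eigenspace are pure -/
theorem OO.pure_line {t : GL (Fin r) F} (ht2 : t * t = 1)
    (ht : ∀ x x', f₁ ((t : Matrix (Fin r) (Fin r) F) *ᵥ x) ((t : Matrix (Fin r) (Fin r) F) *ᵥ x') = f₁ x x')
    {σ : F} (hσ : σ * σ = 1) {v : Fin r → F} (hv : f₁ v v ≠ 0)
    (htv : (t : Matrix (Fin r) (Fin r) F) *ᵥ v = σ • v)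
    (hline : ∀ x, (t : Matrix (Fin r) (Fin r) F) *ᵥ x = σ • x → ∃ c : F, x = c • v)
    {z : ι → F} (hz : (kg e P t (1 : GL (Fin s) F) : Matrix ι ι F) *ᵥ z = σ • z) :
    z = T v ((f₁ v v)⁻¹ • D.cob v z) := by
  have h2 := D.two
  have hσ0 : σ ≠ 0 := fun h => by rw [h, mul_zero] at hσ; exact zero_ne_one hσ
  refine sub_eq_zero.1 (D.eq_zero_of_cob fun x => ?_)
  obtain ⟨p, hp⟩ : ∃ p, p = (2 : F)⁻¹ • (x + σ • ((t : Matrix (Fin r) (Fin r) F) *ᵥ x)) := ⟨_, rfl⟩
  obtain ⟨q, hq⟩ : ∃ q, q = (2 : F)⁻¹ • (x - σ • ((t : Matrix (Fin r) (Fin r) F) *ᵥ x)) := ⟨_, rfl⟩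
  have htt : ∀ w, (t : Matrix (Fin r) (Fin r) F) *ᵥ ((t : Matrix (Fin r) (Fin r) F) *ᵥ w) = w := fun w => by
    rw [← gl_mul_mulVec, ht2, Units.val_one, one_mulVec]
  have hpt : (t : Matrix (Fin r) (Fin r) F) *ᵥ p = σ • p := by
    rw [hp, mulVec_smul, mulVec_add, mulVec_smul, htt]
    linear_combination (norm := module) -(hσ • ((2 : F)⁻¹ • ((t : Matrix (Fin r) (Fin r) F) *ᵥ x)))
  have hqt : (t : Matrix (Fin r) (Fin r) F) *ᵥ q = (-σ) • q := by
    rw [hq, mulVec_smul, mulVec_sub, mulVec_smul, htt]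
    linear_combination (norm := module) -(hσ • ((2 : F)⁻¹ • ((t : Matrix (Fin r) (Fin r) F) *ᵥ x)))
  have hqv : f₁ v q = 0 := by
    have h := ht v q
    rw [htv, hqt, D.s1.bilinear.smul_left, D.s1.bilinear.smul_right] at h
    exact (mul_eq_zero.1 (show (2 : F) * f₁ v q = 0 by linear_combination -h - f₁ v q * hσ)).resolve_left h2
  have hcq : D.cob q z = 0 := by
    have h := D.cob_kg (B := (1 : GL (Fin s) F)) ht q z
    rw [hz, hqt, D.cob_smul_left, map_smul, smul_smul, neg_mul, hσ, neg_one_smul, Units.val_one, one_mulVec] at h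
    exact (smul_eq_zero.1 (show (2 : F) • D.cob q z = 0 by linear_combination (norm := module) -h)).resolve_left h2
  obtain ⟨c, hc⟩ := hline p hpt
  have hx : x = p + q := by
    rw [hp, hq, ← smul_add, add_add_sub_cancel, ← two_smul F, inv_smul_smul₀ h2]
  have e1 : D.cob q (z - T v ((f₁ v v)⁻¹ • D.cob v z)) = 0 := by
    rw [map_sub, hcq, D.cob_tvec, hqv, zero_smul, sub_zero]
  have e2 : D.cob p (z - T v ((f₁ v v)⁻¹ • D.cob v z)) = 0 := by
    rw [hc, D.cob_smul_left, map_sub, D.cob_tvec, smul_inv_smul₀ hv, sub_self, smul_zero]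
  rw [hx, D.cob_add_left, e1, e2, add_zero]

end CfsgLib.Perm.Trans.TensorOO
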