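import Mathlib
import Cfsg.Agent.Lib.Perm.Trans.TensorOO.EvenTools
import Cfsg.Agent.Lib.Perm.Trans.QuadPlaneClass

/-!
# For an even second dimension the involutions with even negated dimension act in `Ω`
-/

set_option autoImplicit false
set_option linter.all false

namespace CfsgLib.Perm.Trans.TensorOO

open scoped Matrix
open Matrix Cfsg.Geo CfsgLib.Perm.Asch CfsgLib.Perm.Trans CfsgLib.Perm.Trans.TensorFrame
open CfsgLib.Perm.Trans.TensorMax CfsgLib.Perm.Trans.Quad CfsgLib.Perm.Trans.TensorSO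

theorem nonsquare_mul {F : Type*} [Field F] [Fintype F] (h2 : (2 : F) ≠ 0) {a b : F} (ha : ¬ IsSquare a)
    (hb : ¬ IsSquare b) : IsSquare (a * b) := by
  classical
  have hchar : ringChar F ≠ 2 := fun h => h2 (by haveI := ringChar.of_eq h; exact CharTwo.two_eq_zero)
  have ha' := (quadraticChar_neg_one_iff_not_isSquare (F := F)).2 ha
  have hb' := (quadraticChar_neg_one_iff_not_isSquare (F := F)).2 hb
  have h0 : a * b ≠ 0 := mul_ne_zero (fun h => ha (h ▸ IsSquare.zero)) (fun h => hb (h ▸ IsSquare.zero))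
  refine (quadraticChar_one_iff_isSquare h0).1 ?_
  rw [map_mul, ha', hb']
  rfl

variable {ι : Type} [Fintype ι] [DecidableEq ι] {F : Type*} [Field F] [Fintype F] {r s : ℕ}
variable {e : ι ≃ Fin r × Fin s} {P : GL ι F}
variable {Q : (ι → F) → F} {f₁ : (Fin r → F) → (Fin r → F) → F} {f₂ : (Fin s → F) → (Fin s → F) → F}
variable {k : F} {M : Subgroup (GL ι F)}

local notation "T" => tvec e P
local notation "Qf" => QuadraticMap.polar Q

variable (D : OO Q f₁ f₂ e P k M)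
include D

theorem OO.Q_tvec (x : Fin r → F) (y : Fin s → F) : Q (T x y) = k * (f₁ x x * f₂ y y) / 2 := by
  rw [eq_div_iff D.two, ← D.pol x y x y, pself D.hQ, mul_comm]

/-- the reflection along a pure vector -/
theorem OO.exists_refl_pure {a : Fin r → F} {w : Fin s → F} (ha : f₁ a a ≠ 0) (hw : f₂ w w ≠ 0) :
    ∃ g ∈ Cfsg.isometryGroup F Q, IsRefl Q (T a w) g ∧ ∀ x y, (g : Matrix ι ι F) *ᵥ T x y =
      T x y - T ((2 * f₁ x a / f₁ a a) • a) ((f₂ y w / f₂ w w) • w) := by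
  have hQ0 : Q (T a w) ≠ 0 := by
    rw [D.Q_tvec]; exact div_ne_zero (mul_ne_zero D.kne (mul_ne_zero ha hw)) D.two
  obtain ⟨g, hg, hgr⟩ := exists_refl D.hQ hQ0
  refine ⟨g, hg, hgr, fun x y => ?_⟩
  rw [hgr, D.pol, D.Q_tvec, tvec_smul_left, tvec_smul_right, smul_smul]
  congr 2
  have := D.kne
  have := D.two
  field_simp

/-- the two planes `a, b` with the orthogonal `w, w'` give an element of `Ω` -/
theorem OO.exists_block {a b : Fin r → F} (ha : f₁ a a ≠ 0) (hb : f₁ b b ≠ 0) (hab : f₁ a b = 0)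
    (hsq : ¬ IsSquare (f₁ b b / f₁ a a)) {w w' : Fin s → F} (hw : f₂ w w ≠ 0) (hw' : f₂ w' w' ≠ 0)
    (hww : f₂ w w' = 0) : ∃ g ∈ omegaGL Q, ∀ x y, (g : Matrix ι ι F) *ᵥ T x y =
      T x y + T ((rr D.s1 ha hb : Matrix (Fin r) (Fin r) F) *ᵥ x - x) ((f₂ y w / f₂ w w) • w) +
        T ((rr D.s1 ha hb : Matrix (Fin r) (Fin r) F) *ᵥ x - x) ((f₂ y w' / f₂ w' w') • w') := by
  have h2 := D.two
  have hg₁ := D.s1
  have hg₂ := D.s2
  obtain ⟨R₁, h1, r1, e1⟩ := D.exists_refl_pure ha hw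
  obtain ⟨R₂, h2', r2, e2⟩ := D.exists_refl_pure hb hw
  obtain ⟨R₃, h3, r3, e3⟩ := D.exists_refl_pure ha hw'
  obtain ⟨R₄, h4, r4, e4⟩ := D.exists_refl_pure hb hw'
  have hQ0 : ∀ {x : Fin r → F} {y : Fin s → F}, f₁ x x ≠ 0 → f₂ y y ≠ 0 → Q (T x y) ≠ 0 := fun hx hy => by
    rw [D.Q_tvec]; exact div_ne_zero (mul_ne_zero D.kne (mul_ne_zero hx hy)) D.two
  have hdiv : ∀ (x x' : Fin r → F) (y y' : Fin s → F), f₁ x x ≠ 0 → f₂ y y ≠ 0 →
      Q (T x' y') / Q (T x y) = (f₁ x' x' / f₁ x x) * (f₂ y' y' / f₂ y y) := fun x x' y y' hx hy => by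
    rw [D.Q_tvec, D.Q_tvec]
    have := D.kne
    field_simp
  have hab' : f₁ b a = 0 := (hg₁.symm b a).trans hab
  have hww' : f₂ w' w = 0 := (hg₂.symm w' w).trans hww
  have hmem : R₁ * R₂ * (R₃ * R₄) ∈ omegaGL Q := by
    by_cases hs : IsSquare (f₂ w' w' / f₂ w w)
    · have e : R₁ * R₂ * (R₃ * R₄) = R₁ * R₃ * (R₂ * R₄) := by
        have hc : R₂ * R₃ = R₃ * R₂ := refl_comm D.hQ (by rw [D.pol, hab', zero_mul, mul_zero]) r2 r3
        calc R₁ * R₂ * (R₃ * R₄) = R₁ * (R₂ * R₃) * R₄ := by group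
          _ = R₁ * (R₃ * R₂) * R₄ := by rw [hc]
          _ = R₁ * R₃ * (R₂ * R₄) := by group
      rw [e]
      refine mul_mem (refl_pair_omega' D.hQ D.hn (hQ0 ha hw) (hQ0 ha hw') ?_ h1 h3 r1 r3)
        (refl_pair_omega' D.hQ D.hn (hQ0 hb hw) (hQ0 hb hw') ?_ h2' h4 r2 r4)
      · rw [hdiv _ _ _ _ ha hw, div_self ha, one_mul]; exact hs
      · rw [hdiv _ _ _ _ hb hw, div_self hb, one_mul]; exact hs
    · have e : R₁ * R₂ * (R₃ * R₄) = R₁ * R₄ * (R₂ * R₃) := by
        have hc : R₃ * R₄ = R₄ * R₃ := refl_comm D.hQ (by rw [D.pol, hab, zero_mul, mul_zero]) r3 r4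
        have hc' : R₂ * R₄ = R₄ * R₂ := refl_comm D.hQ (by rw [D.pol, hww, mul_zero, mul_zero]) r2 r4
        rw [hc]
        calc R₁ * R₂ * (R₄ * R₃) = R₁ * (R₂ * R₄) * R₃ := by group
          _ = R₁ * (R₄ * R₂) * R₃ := by rw [hc']
          _ = R₁ * R₄ * (R₂ * R₃) := by group
      rw [e]
      refine mul_mem (refl_pair_omega' D.hQ D.hn (hQ0 ha hw) (hQ0 hb hw') ?_ h1 h4 r1 r4)
        (refl_pair_omega' D.hQ D.hn (hQ0 hb hw) (hQ0 ha hw') ?_ h2' h3 r2 r3)
      · rw [hdiv _ _ _ _ ha hw]; exact nonsquare_mul h2 hsq hs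
      · rw [hdiv _ _ _ _ hb hw]
        refine nonsquare_mul h2 (fun h => hsq ?_) hs
        rw [← inv_div]; exact isSquare_inv.2 h
  refine ⟨_, hmem, fun x y => ?_⟩
  have hA : (rr D.s1 ha hb : Matrix (Fin r) (Fin r) F) *ᵥ x - x =
      -((2 * f₁ x a / f₁ a a) • a) - (2 * f₁ x b / f₁ b b) • b := by
    rw [rr, gl_mul_mulVec, refl_mulVec, refl_mulVec, Orth.sym_sub_left hg₁, hg₁.bilinear.smul_left, hab', mul_zero,
      sub_zero, show 2 / f₁ a a * f₁ x a = 2 * f₁ x a / f₁ a a by ring,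
      show 2 / f₁ b b * f₁ x b = 2 * f₁ x b / f₁ b b by ring]
    abel
  simp only [gl_mul_mulVec, e4, mulVec_sub, e3, e2, e1, hA, hg₁.bilinear.smul_left, hg₂.bilinear.smul_left, hab,
    hab', hww, hww', mul_zero, zero_div, zero_smul, tvec_zero_left, tvec_zero_right, sub_zero, tvec_sub_left,
    tvec_neg_left]
  abel

/-- orthogonal sums of blocks -/
theorem OO.exists_sum {a b : Fin r → F} (ha : f₁ a a ≠ 0) (hb : f₁ b b ≠ 0) (hab : f₁ a b = 0)
    (hsq : ¬ IsSquare (f₁ b b / f₁ a a)) : ∀ (n : ℕ) (Y : Submodule F (Fin s → F)), Nd f₂ Y →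
      Module.finrank F Y = 2 * n → ∃ g ∈ omegaGL Q, ∀ x y,
        (y ∈ Y → (g : Matrix ι ι F) *ᵥ T x y = T ((rr D.s1 ha hb : Matrix (Fin r) (Fin r) F) *ᵥ x) y) ∧
        ((∀ y' ∈ Y, f₂ y y' = 0) → (g : Matrix ι ι F) *ᵥ T x y = T x y) := by
  intro n
  induction n with
  | zero =>
    intro Y hY hd
    refine ⟨1, one_mem _, fun x y => ⟨fun hy => ?_, fun _ => by simp⟩⟩
    rw [Submodule.finrank_eq_zero.1 hd, Submodule.mem_bot] at hy
    rw [hy, tvec_zero_right, tvec_zero_right, mulVec_zero]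
  | succ n ih =>
    intro Y hY hd
    have h2 := D.two
    have hg := D.s2
    obtain ⟨w, hwY, hw⟩ := nd_aniso hg h2 hY (by omega)
    have hY1 := nd_perp hg hY hwY hw
    have hd1 := perp_dim hg h2 hwY hw
    obtain ⟨w', hw'Y, hw'⟩ := nd_aniso hg h2 hY1 (by omega)
    have hY2 := nd_perp hg hY1 hw'Y hw'
    have hd2 := perp_dim hg h2 hw'Y hw'
    have hww' : f₂ w' w = 0 := hw'Y.2
    have hww : f₂ w w' = 0 := (hg.symm w w').trans hww'
    obtain ⟨g', hg', hspec⟩ := ih _ hY2 (by omega)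
    obtain ⟨g₀, hg₀, hblock⟩ := D.exists_block ha hb hab hsq hw hw' hww
    refine ⟨g' * g₀, mul_mem hg' hg₀, fun x y => ⟨fun hy => ?_, fun hy => ?_⟩⟩
    · obtain ⟨y', hy'⟩ : ∃ y', y' = y - (f₂ y w / f₂ w w) • w - (f₂ y w' / f₂ w' w') • w' := ⟨_, rfl⟩
      have hmem : y' ∈ perp hg (perp hg Y w) w' := by
        refine mem_perp.2 ⟨mem_perp.2 ⟨?_, ?_⟩, ?_⟩
        · exact hy' ▸ Y.sub_mem (Y.sub_mem hy (Y.smul_mem _ hwY)) (Y.smul_mem _ hw'Y.1)
        · rw [hy', Orth.sym_sub_left hg, Orth.sym_sub_left hg, hg.bilinear.smul_left, hg.bilinear.smul_left, hww',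
            mul_zero, sub_zero, div_mul_cancel₀ _ hw, sub_self]
        · rw [hy', Orth.sym_sub_left hg, Orth.sym_sub_left hg, hg.bilinear.smul_left, hg.bilinear.smul_left, hww,
            mul_zero, sub_zero, div_mul_cancel₀ _ hw', sub_self]
      have hyeq : y = y' + (f₂ y w / f₂ w w) • w + (f₂ y w' / f₂ w' w') • w' := by rw [hy']; abel
      have hy'w : f₂ y' w = 0 := hmem.1.2
      have hy'w' : f₂ y' w' = 0 := hmem.2
      have e1 : (g₀ : Matrix ι ι F) *ᵥ T x y' = T x y' := by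
        rw [hblock, hy'w, hy'w', zero_div, zero_div, zero_smul, zero_smul, tvec_zero_right, add_zero, add_zero]
      have e2 : (g₀ : Matrix ι ι F) *ᵥ T x w = T ((rr D.s1 ha hb : Matrix (Fin r) (Fin r) F) *ᵥ x) w := by
        rw [hblock, hww, div_self hw, one_smul, zero_div, zero_smul, tvec_zero_right, add_zero, tvec_sub_left,
          add_sub_cancel]
      have e3 : (g₀ : Matrix ι ι F) *ᵥ T x w' = T ((rr D.s1 ha hb : Matrix (Fin r) (Fin r) F) *ᵥ x) w' := by
        rw [hblock, hww', div_self hw', one_smul, zero_div, zero_smul, tvec_zero_right, add_zero, tvec_sub_left,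
          add_sub_cancel]
      have f1 : ∀ x', (g' : Matrix ι ι F) *ᵥ T x' w = T x' w := fun x' => (hspec x' w).2 fun z hz => by
        rw [hg.symm]; exact hz.1.2
      have f2 : ∀ x', (g' : Matrix ι ι F) *ᵥ T x' w' = T x' w' := fun x' => (hspec x' w').2 fun z hz => by
        rw [hg.symm]; exact hz.2
      conv_lhs => rw [hyeq]
      conv_rhs => rw [hyeq]
      simp only [gl_mul_mulVec, tvec_add_right, tvec_smul_right, mulVec_add, mulVec_smul, e1, e2, e3,
        (hspec x y').1 hmem, f1, f2]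
    · rw [gl_mul_mulVec, hblock, hy w hwY, hy w' hw'Y.1, zero_div, zero_div, zero_smul, zero_smul, tvec_zero_right,
        add_zero, add_zero]
      exact (hspec x y).2 fun z hz => hy z hz.1.1

/-- planes on the left act inside `Ω` when the right dimension is even -/
theorem OO.plane_mem (hs : Even s) {a b : Fin r → F} (ha : f₁ a a ≠ 0) (hb : f₁ b b ≠ 0) (hab : f₁ a b = 0) :
    kg e P (rr D.s1 ha hb) (1 : GL (Fin s) F) ∈ M := by
  have hg₁ := D.s1
  by_cases hsq : IsSquare (f₁ b b / f₁ a a)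
  · obtain ⟨c, hc⟩ := hsq
    have hc0 : c ≠ 0 := fun h => div_ne_zero hb ha (by rw [hc, h, mul_zero])
    have hbb : f₁ (c⁻¹ • b) (c⁻¹ • b) = f₁ a a := by
      rw [hg₁.bilinear.smul_left, hg₁.bilinear.smul_right]
      field_simp at hc ⊢
      linear_combination hc
    have hb' : f₁ (c⁻¹ • b) (c⁻¹ • b) ≠ 0 := hbb ▸ ha
    have he : rr D.s1 ha hb' = rr D.s1 ha hb := by
      simp only [rr]
      congr 1
      refine gl_ext_vec fun x => ?_
      rw [refl_mulVec, refl_mulVec, smul_smul]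
      simp only [hg₁.bilinear.smul_left, hg₁.bilinear.smul_right]
      congr 2
      field_simp
    rw [← he]
    exact D.rr_mem ha hb' hbb.symm (by rw [hg₁.bilinear.smul_right, hab, mul_zero])
  · obtain ⟨n, hn⟩ := hs
    obtain ⟨g, hg, hspec⟩ := D.exists_sum ha hb hab hsq n ⊤ (nd_top D.s2)
      (by rw [top_finrank D.s2, Fintype.card_fin]; omega)
    refine D.kg_mem_of_omega ?_
    rw [show kg e P (rr D.s1 ha hb) (1 : GL (Fin s) F) = g from gl_ext_tvec (e := e) (P := P) fun x y => by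
      rw [(hspec x y).1 Submodule.mem_top, kg_tvec, Units.val_one, one_mulVec]]
    exact hg

/-- involutions with even negated dimension on the left act inside `Ω` when the right dimension is even -/
theorem OO.invol_mem (hs : Even s) : ∀ (n : ℕ) (t : GL (Fin r) F), t * t = 1 →
    (∀ x x', f₁ ((t : Matrix (Fin r) (Fin r) F) *ᵥ x) ((t : Matrix (Fin r) (Fin r) F) *ᵥ x') = f₁ x x') →
    Module.finrank F (negSp t) = 2 * n → kg e P t (1 : GL (Fin s) F) ∈ M := by
  intro n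
  induction n with
  | zero =>
    intro t ht hi hn
    rw [show t = 1 from gl_ext_vec fun x => ?_, kg_one]
    · exact one_mem M
    · obtain ⟨h4, h5, h6⟩ := invol_decomp D.two ht x
      rw [Submodule.finrank_eq_zero.1 hn, Submodule.mem_bot] at h5
      rw [h5, add_zero] at h6
      rw [h6, mem_fixSp.1 h4, Units.val_one, one_mulVec]
  | succ n ih =>
    intro t ht hi hn
    have h2 := D.two
    have hf := D.s1
    obtain ⟨-, hN⟩ := nd_eigen hf h2 ht hi
    obtain ⟨a, haN, ha⟩ := nd_aniso hf h2 hN (by omega)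
    have hd := perp_dim hf h2 haN ha
    obtain ⟨b, hbN, hb⟩ := nd_aniso hf h2 (nd_perp hf hN haN ha) (by omega)
    have hab : f₁ a b = 0 := (hf.symm a b).trans hbN.2
    have hR := rr_sq hf ha hb hab
    have hcomm : t * rr hf ha hb = rr hf ha hb * t := gl_ext_vec fun x => by
      have ea : f₁ ((t : Matrix (Fin r) (Fin r) F) *ᵥ x) a = -f₁ x a := by
        rw [← hi x a, mem_negSp.1 haN, Orth.sym_neg_right hf, neg_neg]
      have eb : f₁ ((t : Matrix (Fin r) (Fin r) F) *ᵥ x) b = -f₁ x b := by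
        rw [← hi x b, mem_negSp.1 hbN.1, Orth.sym_neg_right hf, neg_neg]
      have hba : f₁ b a = 0 := hbN.2
      simp only [rr, gl_mul_mulVec, refl_mulVec, Orth.sym_sub_left hf, hf.bilinear.smul_left, hba, mul_zero, sub_zero,
        ea, eb, mulVec_sub, mulVec_smul, mem_negSp.1 haN, mem_negSp.1 hbN.1]
      module
    have hle : negSp (rr hf ha hb) ≤ negSp t := fun v hv => by
      rw [rr_neg_span hf h2 ha hb hab (mem_negSp.1 hv)]
      exact Submodule.add_mem _ (Submodule.smul_mem _ _ haN) (Submodule.smul_mem _ _ hbN.1)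
    have hdim := comm_neg_dim h2 ht hR hcomm
    rw [inf_eq_right.2 hle, rr_dim hf h2 ha hb hab] at hdim
    have ht' : t * rr hf ha hb * (t * rr hf ha hb) = 1 := by
      rw [(show Commute (rr hf ha hb) t from hcomm.symm).mul_mul_mul_comm, ht, hR, one_mul]
    have h := mul_mem (ih (t * rr hf ha hb) ht' (fun x y => by rw [gl_mul_mulVec, gl_mul_mulVec, hi, rr_iso hf])
      (by omega)) (D.plane_mem hs ha hb hab)
    rwa [kg_mul, mul_assoc, hR, mul_one, one_mul] at h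

end CfsgLib.Perm.Trans.TensorOO
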