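import Mathlib
import Cfsg.Agent.Lib.Perm.Trans.TensorOO.EvenSpinor

/-!
# Recognition by right roots, and a noncyclic group of right roots
-/

set_option autoImplicit false
set_option linter.all false

namespace CfsgLib.Perm.Trans.TensorOO

open scoped Matrix
open Matrix Cfsg.Geo CfsgLib.Perm.Asch CfsgLib.Perm.Trans CfsgLib.Perm.Trans.TensorFrame
open CfsgLib.Perm.Trans.TensorMax CfsgLib.Perm.Trans.Quad CfsgLib.Perm.Trans.TensorSO

variable {ι : Type} [Fintype ι] [DecidableEq ι] {F : Type*} [Field F] [Fintype F] {r s : ℕ}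
variable {e : ι ≃ Fin r × Fin s} {P : GL ι F}
variable {Q : (ι → F) → F} {f₁ : (Fin r → F) → (Fin r → F) → F} {f₂ : (Fin s → F) → (Fin s → F) → F}
variable {k : F} {M : Subgroup (GL ι F)}

local notation "T" => tvec e P
local notation "e'" => Equiv.trans e (Equiv.prodComm _ _)

variable (D : OO Q f₁ f₂ e P k M)
include D

/-- the fixed space of `u ⊗ E` for a root `E` and a nontrivial `u` is too small to be conjugate to `1 ⊗ E` -/
theorem OO.root_conj (hs : 4 ≤ s) {b w b' w' : Fin s → F} (hbb : f₂ b b = 0) (hbw : f₂ b w = 0)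
    (hb' : b' ≠ 0) (hbb' : f₂ b' b' = 0) (hbw' : f₂ b' w' = 0) (hww' : f₂ w' w' ≠ 0) {g : GL ι F} {u : GL (Fin r) F}
    (h : g * kg e P (1 : GL (Fin r) F) (eic D.s2 b w) * g⁻¹ = kg e P u (eic D.s2 b' w')) : u = 1 := by
  classical
  have h2 := D.two
  have hg := D.s2
  by_contra hu
  obtain ⟨m, hm⟩ : ∃ m, s = m + 3 := ⟨s - 3, by omega⟩
  -- lower bound
  have hlow : r * (m + 1) ≤ Module.finrank F (fixSp (kg e P u (eic D.s2 b' w'))) := by
    rw [← h, fixSp_conj]
    have h1 := tensor_le (e := e) (P := P) (X := (⊤ : Submodule F (Fin r → F)))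
      (Y := perp hg (perp hg ⊤ b) w) (Z := fixSp (kg e P (1 : GL (Fin r) F) (eic D.s2 b w))) fun x _ y hy => by
        rw [mem_fixSp, kg_tvec, Units.val_one, one_mulVec, eic_fix hg h2 hbb hbw hy.1.2 hy.2]
    have hd := perp_finrank hg (⊤ : Submodule F (Fin s → F)) b
    have hd' := perp_finrank hg (perp hg ⊤ b) w
    rw [top_finrank hg, Fintype.card_fin] at hd
    rw [finrank_top, Module.finrank_fin_fun] at h1
    exact le_trans (Nat.mul_le_mul_left r (by omega)) h1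
  -- a partner of `b'` orthogonal to `w'`
  obtain ⟨p, hp, hpp, hpb⟩ := nd_partner hg h2 (nd_perp hg (nd_top hg) Submodule.mem_top hww')
    (mem_perp.2 ⟨Submodule.mem_top, hbw'⟩) hb' hbb'
  have hpw : f₂ p w' = 0 := hp.2
  have hbp : f₂ b' p = 1 := (hg.symm b' p).trans hpb
  have hwb : f₂ w' b' = 0 := (hg.symm w' b').trans hbw'
  have hwp : f₂ w' p = 0 := (hg.symm w' p).trans hpw
  obtain ⟨φ, hφ⟩ : ∃ φ : (Fin s → F) →ₗ[F] (Fin 3 → F),
      φ = LinearMap.pi ![Orth.sfl hg b', Orth.sfl hg w', Orth.sfl hg p] := ⟨_, rfl⟩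
  have hφx : ∀ x, φ x 0 = f₂ x b' ∧ φ x 1 = f₂ x w' ∧ φ x 2 = f₂ x p := fun x => by
    rw [hφ]; exact ⟨rfl, rfl, rfl⟩
  have hsurj : LinearMap.range φ = ⊤ := LinearMap.range_eq_top.2 fun v => by
    refine ⟨v 0 • p + (v 1 / f₂ w' w') • w' + v 2 • b', funext fun i => ?_⟩
    obtain ⟨h0, h1, h3⟩ := hφx (v 0 • p + (v 1 / f₂ w' w') • w' + v 2 • b')
    simp only [hg.bilinear.add_left, hg.bilinear.smul_left, hpb, hwb, hbb', hpw, hbw', hpp, hwp, hbp,
      div_mul_cancel₀ _ hww', mul_zero, mul_one, add_zero, zero_add] at h0 h1 h3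
    fin_cases i <;> assumption
  obtain ⟨L, hL⟩ : ∃ L, L = LinearMap.ker φ := ⟨_, rfl⟩
  have hLdim : Module.finrank F L = m := by
    have h1 := LinearMap.finrank_range_add_finrank_ker φ
    rw [hsurj, finrank_top, Module.finrank_fin_fun, Module.finrank_fin_fun, ← hL] at h1
    omega
  have hLmem : ∀ y ∈ L, f₂ y b' = 0 ∧ f₂ y w' = 0 ∧ f₂ y p = 0 := fun y hy => by
    rw [hL, LinearMap.mem_ker] at hy
    obtain ⟨h0, h1, h3⟩ := hφx y
    rw [hy] at h0 h1 h3
    exact ⟨h0.symm, h1.symm, h3.symm⟩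
  -- components of a fixed vector
  obtain ⟨Z, hZ⟩ : ∃ Z, Z = fixSp (kg e P u (eic D.s2 b' w')) := ⟨_, rfl⟩
  rw [← hZ] at hlow
  have hcomp : ∀ z ∈ Z, ∀ d, D.swap.cob ((eic hg b' w' : Matrix (Fin s) (Fin s) F) *ᵥ d) z =
      (u : Matrix (Fin r) (Fin r) F) *ᵥ D.swap.cob d z := fun z hz d => by
    have h1 := D.swap.cob_kg (A := eic hg b' w') (B := u) (eic_iso hg h2 hbb' hbw') d z
    have hz' : (kg e P u (eic hg b' w') : Matrix ι ι F) *ᵥ z = z := mem_fixSp.1 (hZ ▸ hz)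
    rw [kg_swap, hz'] at h1
    exact h1
  have hK : ∀ z ∈ Z, ∀ y ∈ L, D.swap.cob y z ∈ fixSp u := fun z hz y hy => by
    have h1 := hcomp z hz y
    rw [eic_fix hg h2 hbb' hbw' (hLmem y hy).1 (hLmem y hy).2.1] at h1
    exact mem_fixSp.2 h1.symm
  let ψ : Z →ₗ[F] (Fin r → F) × (L →ₗ[F] fixSp u) :=
    { toFun := fun z => (D.swap.cob p z,
        { toFun := fun y => ⟨D.swap.cob y z, hK z z.2 y y.2⟩
          map_add' := fun y y' => Subtype.ext (by simp [D.swap.cob_add_left])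
          map_smul' := fun c y => Subtype.ext (by simp [D.swap.cob_smul_left]) })
      map_add' := fun z z' => Prod.ext (by simp) (LinearMap.ext fun y => Subtype.ext (by simp))
      map_smul' := fun c z => Prod.ext (by simp) (LinearMap.ext fun y => Subtype.ext (by simp)) }
  have hψ : Function.Injective ψ := (injective_iff_map_eq_zero ψ).2 fun z hz => by
    have hp0 : D.swap.cob p z = 0 := congrArg Prod.fst hz
    have hL0 : ∀ y ∈ L, D.swap.cob y z = 0 := fun y hy =>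
      congrArg Subtype.val (LinearMap.congr_fun (congrArg Prod.snd hz) ⟨y, hy⟩)
    have e1 := hcomp z z.2 p
    rw [eic_mulVec hg h2 hbb' hbw', hpb, hpw, one_smul, zero_smul, sub_zero, mul_one, sub_eq_add_neg, ← neg_smul,
      D.swap.cob_add_left, D.swap.cob_add_left, D.swap.cob_smul_left, hp0, mulVec_zero, zero_add] at e1
    have hcw : D.swap.cob w' z = (f₂ w' w' / 2) • D.swap.cob b' z := by
      linear_combination (norm := module) e1
    have e2 := hcomp z z.2 w'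
    rw [eic_mulVec hg h2 hbb' hbw', hwb, zero_smul, add_zero, mul_zero, zero_smul, sub_zero, sub_eq_add_neg, ← neg_smul,
      D.swap.cob_add_left, D.swap.cob_smul_left, hcw] at e2
    have e3 := hcomp z z.2 b'
    rw [eic_fix hg h2 hbb' hbw' hbb' hbw'] at e3
    rw [mulVec_smul, ← e3] at e2
    have hcb : D.swap.cob b' z = 0 := by
      have h4 : (f₂ w' w') • D.swap.cob b' z = 0 := by linear_combination (norm := module) -e2
      exact (smul_eq_zero.1 h4).resolve_left hww'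
    rw [hcb, smul_zero] at hcw
    refine Subtype.ext (D.swap.eq_zero_of_cob fun d => ?_)
    obtain ⟨d', hd'⟩ : ∃ d', d' = d - f₂ d b' • p - (f₂ d w' / f₂ w' w') • w' - f₂ d p • b' := ⟨_, rfl⟩
    have hd'L : d' ∈ L := by
      rw [hL, LinearMap.mem_ker]
      funext i
      obtain ⟨h0, h1, h3⟩ := hφx d'
      fin_cases i
      · refine h0.trans ?_
        simp [hd', Orth.sym_sub_left hg, hg.bilinear.smul_left, hpb, hwb, hbb']
      · refine h1.trans ?_
        simp [hd', Orth.sym_sub_left hg, hg.bilinear.smul_left, hpw, hbw', div_mul_cancel₀ _ hww']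
      · refine h3.trans ?_
        simp [hd', Orth.sym_sub_left hg, hg.bilinear.smul_left, hpp, hwp, hbp]
    have hdeq : d = d' + f₂ d b' • p + (f₂ d w' / f₂ w' w') • w' + f₂ d p • b' := by rw [hd']; abel
    rw [hdeq, D.swap.cob_add_left, D.swap.cob_add_left, D.swap.cob_add_left, D.swap.cob_smul_left,
      D.swap.cob_smul_left, D.swap.cob_smul_left, hL0 d' hd'L, hp0, hcw, hcb]
    simp
  have hup := LinearMap.finrank_le_finrank_of_injective hψ
  rw [Module.finrank_prod, Module.finrank_linearMap, Module.finrank_fin_fun, hLdim] at hup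
  have hne : fixSp u ≠ ⊤ := fun htop => hu (gl_ext_vec fun x => by
    rw [mem_fixSp.1 (htop ▸ Submodule.mem_top : x ∈ fixSp u), Units.val_one, one_mulVec])
  have hlt := Submodule.finrank_lt hne
  rw [Module.finrank_fin_fun] at hlt
  have h3 : r * (m + 1) ≤ r + m * Module.finrank F (fixSp u) := hlow.trans hup
  have h4 := Nat.mul_le_mul_left m hlt
  have hm0 : 0 < m := by omega
  nlinarith

/-- recognition by a right root -/
theorem OO.root_recog (hfull : ¬ omegaGL Q ≤ M) (hs : 4 ≤ s) {b w b' w' : Fin s → F} (hb : b ≠ 0)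
    (hbb : f₂ b b = 0) (hbw : f₂ b w = 0) (hww : f₂ w w ≠ 0) (hb' : b' ≠ 0) (hbb' : f₂ b' b' = 0)
    (hbw' : f₂ b' w' = 0) (hww' : f₂ w' w' ≠ 0) {g : GL ι F} (hg : g ∈ M) {u : GL (Fin r) F}
    (h : g * kg e P (1 : GL (Fin r) F) (eic D.s2 b w) * g⁻¹ = kg e P u (eic D.s2 b' w')) :
    g ∈ tensorProductSubgroup r s e P := by
  have hu := D.root_conj hs hbb hbw hb' hbb' hbw' hww' h
  subst hu
  rw [← tensor_swap]
  exact D.swap.recog hfull hb hbb hbw hww hg (A := eic D.s2 b' w') (B := 1) (l := 1) (by rw [kg_swap, kg_swap]; exact h)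
    (fun y => by simp)

/-- a noncyclic group of right roots at one singular vector -/
theorem OO.exists_roots (hs : 4 ≤ s) : ∃ (b : Fin s → F) (p : ℕ) (A : Subgroup (GL ι F)), b ≠ 0 ∧ f₂ b b = 0 ∧
    p.Prime ∧ CharP F p ∧ A ≤ M ∧ IsMulCommutative A ∧ ¬ IsCyclic A ∧ (∀ a ∈ A, a ^ p = 1) ∧
    ∀ a ∈ A, ∃ w, f₂ b w = 0 ∧ (a ≠ 1 → f₂ w w ≠ 0) ∧ a = kg e P (1 : GL (Fin r) F) (eic D.s2 b w) := by
  classical
  have h2 := D.two
  have hg := D.s2
  obtain ⟨p, hp, hc, -⟩ := D.exists_char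
  haveI := hc
  haveI : Fact p.Prime := ⟨hp⟩
  obtain ⟨b, -, hb0, hbb⟩ := nd_singular hg h2 (nd_top hg) (by rw [top_finrank hg, Fintype.card_fin]; omega)
  obtain ⟨pp, -, hpp, hpb⟩ := nd_partner hg h2 (nd_top hg) Submodule.mem_top hb0 hbb
  obtain ⟨L, hL⟩ : ∃ L, L = perp hg (perp hg ⊤ b) pp := ⟨_, rfl⟩
  have hLnd : Nd f₂ L := hL ▸ nd_perp_pair hg (nd_top hg) Submodule.mem_top Submodule.mem_top hbb hpp hpb
  have hdim := pair_finrank hg (⊤ : Submodule F (Fin s → F)) b pp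
  rw [top_finrank hg, Fintype.card_fin, ← hL] at hdim
  obtain ⟨x0, hx0, hx00⟩ := nd_aniso hg h2 hLnd (by omega)
  have hd2 := perp_finrank hg L x0
  obtain ⟨η, hη⟩ : ∃ η : F, ¬ IsSquare η := FiniteField.exists_nonsquare fun h => h2 (by
    haveI := ringChar.of_eq h; exact CharTwo.two_eq_zero)
  have hη0 : η ≠ 0 := fun h => hη (h ▸ IsSquare.zero)
  have hbx : ∀ y ∈ L, f₂ b y = 0 := fun y hy => by rw [hg.symm]; rw [hL] at hy; exact hy.1.2
  obtain ⟨x1, hx1L, haniso⟩ : ∃ x1 ∈ L, ∀ i j : F,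
      f₂ (i • x0 + j • x1) (i • x0 + j • x1) = 0 → i = 0 ∧ j = 0 := by
    by_cases hs5 : 5 ≤ s
    · obtain ⟨x1, hx1, hx11⟩ := nd_value hg h2 (nd_perp hg hLnd hx0 hx00) (by omega)
        (c := -(f₂ x0 x0 * η)) (neg_ne_zero.2 (mul_ne_zero hx00 hη0))
      have hx10 : f₂ x1 x0 = 0 := hx1.2
      refine ⟨x1, hx1.1, fun i j h => ?_⟩
      simp only [hg.bilinear.add_left, hg.bilinear.add_right, hg.bilinear.smul_left, hg.bilinear.smul_right, hx10,
        hg.symm x0 x1, hx11] at h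
      have h' : f₂ x0 x0 * (i * i - η * (j * j)) = 0 := by linear_combination h
      have h'' := (mul_eq_zero.1 h').resolve_left hx00
      by_cases hj : j = 0
      · subst hj
        exact ⟨by simpa using h'', rfl⟩
      · exact absurd ⟨i / j, by field_simp; linear_combination -h''⟩ hη
    · obtain ⟨x1, hx1, hx11⟩ := nd_aniso hg h2 (nd_perp hg hLnd hx0 hx00) (by omega)
      have hx10 : f₂ x1 x0 = 0 := hx1.2
      have hmin := D.s4.resolve_left (fun h => h (by omega))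
      refine ⟨x1, hx1.1, fun i j h => ?_⟩
      have hyL : i • x0 + j • x1 ∈ L := L.add_mem (L.smul_mem i hx0) (L.smul_mem j hx1.1)
      obtain ⟨l, hl⟩ := hmin b _ hbb h (hbx _ hyL) hb0
      have hl0 : l = 0 := by
        rw [hL] at hyL
        have h' : f₂ (i • x0 + j • x1) pp = 0 := hyL.2
        rwa [hl, hg.bilinear.smul_left, (hg.symm b pp).trans hpb, mul_one] at h'
      rw [hl0, zero_smul] at hl
      have hi := congrArg (fun y => f₂ y x0) hl
      have hj := congrArg (fun y => f₂ y x1) hl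
      simp [hg.bilinear.add_left, hg.bilinear.smul_left, hx10, hg.symm x0 x1, Orth.sym_zero_left hg] at hi hj
      exact ⟨hi.resolve_right hx00, hj.resolve_right hx11⟩
  have hmemL : ∀ i j : F, i • x0 + j • x1 ∈ L := fun i j => L.add_mem (L.smul_mem i hx0) (L.smul_mem j hx1L)
  have hmul : ∀ i j i' j' : F, kg e P (1 : GL (Fin r) F) (eic hg b (i • x0 + j • x1)) *
      kg e P (1 : GL (Fin r) F) (eic hg b (i' • x0 + j' • x1)) =
      kg e P (1 : GL (Fin r) F) (eic hg b ((i + i') • x0 + (j + j') • x1)) := fun i j i' j' => by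
    rw [kg_mul, one_mul, eic_mul hg h2 hbb (hbx _ (hmemL i j)) (hbx _ (hmemL i' j')),
      show i • x0 + j • x1 + (i' • x0 + j' • x1) = (i + i') • x0 + (j + j') • x1 by module]
  have hzero : kg e P (1 : GL (Fin r) F) (eic hg b ((0 : F) • x0 + (0 : F) • x1)) = 1 := by
    rw [zero_smul, zero_smul, add_zero, eic_zero hg h2 hbb, kg_one]
  obtain ⟨A, hA⟩ : ∃ A : Subgroup (GL ι F),
      ∀ g, g ∈ A ↔ ∃ i j : F, g = kg e P (1 : GL (Fin r) F) (eic hg b (i • x0 + j • x1)) :=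
    ⟨{ carrier := {g | ∃ i j : F, g = kg e P (1 : GL (Fin r) F) (eic hg b (i • x0 + j • x1))}
       one_mem' := ⟨0, 0, hzero.symm⟩
       mul_mem' := fun {g g'} ⟨i, j, hg1⟩ ⟨i', j', hg2⟩ => ⟨i + i', j + j', by rw [hg1, hg2, hmul]⟩
       inv_mem' := fun {g} ⟨i, j, hg1⟩ => ⟨-i, -j, inv_eq_of_mul_eq_one_right (by
         rw [hg1, hmul, add_neg_cancel, add_neg_cancel, hzero])⟩ }, fun g => Iff.rfl⟩
  have hexp : ∀ a ∈ A, a ^ p = 1 := fun a ha => by
    obtain ⟨i, j, rfl⟩ := (hA a).1 ha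
    rw [kg_pow, one_pow, eic_pow_char hg h2 hbb (hbx _ (hmemL i j)), kg_one]
  refine ⟨b, p, A, hb0, hbb, hp, hc, fun a ha => ?_, ?_, ?_, hexp, fun a ha => ?_⟩
  · obtain ⟨i, j, rfl⟩ := (hA a).1 ha
    exact D.eicR_mem hbb (hbx _ (hmemL i j))
  · refine isMulCommutative_iff.2 fun ⟨g, hg1⟩ ⟨g', hg2⟩ => Subtype.ext ?_
    obtain ⟨i, j, rfl⟩ := (hA g).1 hg1
    obtain ⟨i', j', rfl⟩ := (hA g').1 hg2
    show kg e P _ _ * kg e P _ _ = kg e P _ _ * kg e P _ _
    rw [hmul, hmul, add_comm i, add_comm j]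
  · intro hcyc
    obtain ⟨g0, hgen⟩ := IsCyclic.exists_generator (α := A)
    have h1 : orderOf g0 = Nat.card A := orderOf_eq_card_of_forall_mem_zpowers hgen
    have hle : Nat.card A ≤ p :=
      h1 ▸ Nat.le_of_dvd hp.pos (orderOf_dvd_of_pow_eq_one (Subtype.ext (hexp g0 g0.2)))
    let ψ : F × F → A := fun ij => ⟨_, (hA _).2 ⟨ij.1, ij.2, rfl⟩⟩
    have hψ : Function.Injective ψ := by
      rintro ⟨i, j⟩ ⟨i', j'⟩ h
      have h3 := congrArg Subtype.val h
      change kg e P (1 : GL (Fin r) F) (eic hg b (i • x0 + j • x1)) =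
        kg e P (1 : GL (Fin r) F) (eic hg b (i' • x0 + j' • x1)) at h3
      have h4 := hmul (i - i') (j - j') i' j'
      rw [sub_add_cancel, sub_add_cancel, h3, mul_eq_right] at h4
      have h5 := kgL_inj (e := e') (P := P) (by have := D.r3; omega)
        (((kg_swap _ _).trans h4).trans ((kg_swap _ _).trans kg_one).symm)
      have hiso : f₂ ((i - i') • x0 + (j - j') • x1) ((i - i') • x0 + (j - j') • x1) = 0 := by
        by_contra hne
        exact eic_moves hg h2 hbb (hbx _ (hmemL _ _)) hb0 hne h5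
      obtain ⟨e1, e2⟩ := haniso _ _ hiso
      rw [sub_eq_zero.1 e1, sub_eq_zero.1 e2]
    have h3 := Nat.card_le_card_of_injective ψ hψ
    rw [Nat.card_prod, Nat.card_eq_fintype_card] at h3
    obtain ⟨m, -, hm⟩ := FiniteField.card F p
    have h4 : p ≤ Fintype.card F := by rw [hm]; exact Nat.le_self_pow m.pos.ne' p
    have h6 : 2 ≤ Fintype.card F := Fintype.one_lt_card
    nlinarith
  · obtain ⟨i, j, rfl⟩ := (hA a).1 ha
    refine ⟨_, hbx _ (hmemL i j), fun hne h => hne ?_, rfl⟩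
    obtain ⟨rfl, rfl⟩ := haniso i j h
    exact hzero

end CfsgLib.Perm.Trans.TensorOO
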