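import Mathlib
import Cfsg.Agent.Lib.Perm.Trans.TensorOO.EvenRoot

/-!
# Centralisers of planes inside fixators: coprime action on a quotient
-/

set_option autoImplicit false
set_option linter.all false

namespace CfsgLib.Perm.Trans.TensorOO

open scoped Matrix
open Matrix Cfsg.Geo CfsgLib.Perm.Asch CfsgLib.Perm.Trans CfsgLib.Perm.Trans.TensorFrame
open CfsgLib.Perm.Trans.TensorMax CfsgLib.Perm.Trans.Quad CfsgLib.Perm.Trans.TensorSO

section Aniso

variable {κ : Type} [Fintype κ] [DecidableEq κ] {F : Type*} [Field F]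
variable {f : (κ → F) → (κ → F) → F}

/-- isometries of `p`-power order fix an anisotropic plane that they preserve -/
theorem aniso_fix (hf : IsSymmetricForm f) (h2 : (2 : F) ≠ 0) {p : ℕ} [Fact p.Prime] [CharP F p] {A : GL κ F}
    (hA : ∀ x y, f ((A : Matrix κ κ F) *ᵥ x) ((A : Matrix κ κ F) *ᵥ y) = f x y) {a b : κ → F}
    (haniso : ∀ i j : F, f (i • a + j • b) (i • a + j • b) = 0 → i = 0 ∧ j = 0)
    (hAa : ∃ i j : F, (A : Matrix κ κ F) *ᵥ a = i • a + j • b)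
    (hAb : ∃ i j : F, (A : Matrix κ κ F) *ᵥ b = i • a + j • b)
    (hpa : ((A ^ p : GL κ F) : Matrix κ κ F) *ᵥ a = a) (hpb : ((A ^ p : GL κ F) : Matrix κ κ F) *ᵥ b = b) :
    (A : Matrix κ κ F) *ᵥ a = a ∧ (A : Matrix κ κ F) *ᵥ b = b := by
  classical
  by_cases hκ : Nonempty κ
  swap
  · exact ⟨funext fun i => absurd ⟨i⟩ hκ, funext fun i => absurd ⟨i⟩ hκ⟩
  obtain ⟨N, hN⟩ : ∃ N : Matrix κ κ F, N = (A : Matrix κ κ F) - 1 := ⟨_, rfl⟩
  have hNp : N ^ p = ((A ^ p : GL κ F) : Matrix κ κ F) - 1 := by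
    rw [hN, sub_pow_char_of_commute p (Commute.one_right _), one_pow, Units.val_pow_eq_pow_val]
  have hNv : ∀ v, N *ᵥ v = (A : Matrix κ κ F) *ᵥ v - v := fun v => by rw [hN, sub_mulVec, one_mulVec]
  obtain ⟨i₁, j₁, h1⟩ := hAa
  obtain ⟨i₃, j₃, h3⟩ := hAb
  have hclosed : ∀ v, (∃ i j : F, v = i • a + j • b) → ∃ i j : F, N *ᵥ v = i • a + j • b := by
    rintro v ⟨i, j, rfl⟩
    refine ⟨i * i₁ + j * i₃ - i, i * j₁ + j * j₃ - j, ?_⟩
    rw [hNv, mulVec_add, mulVec_smul, mulVec_smul, h1, h3]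
    module
  have hiter : ∀ (n : ℕ) v, (∃ i j : F, v = i • a + j • b) → ∃ i j : F, (N ^ n) *ᵥ v = i • a + j • b := by
    intro n
    induction n with
    | zero => intro v hv; simpa using hv
    | succ n ih => intro v hv; rw [pow_succ', ← mulVec_mulVec]; exact hclosed _ (ih v hv)
  have htwo : ∀ v, (∃ i j : F, v = i • a + j • b) → N *ᵥ (N *ᵥ v) = 0 → N *ᵥ v = 0 := fun v hv h => by
    obtain ⟨i, j, hw⟩ := hclosed v hv
    have e1 : (A : Matrix κ κ F) *ᵥ v = v + N *ᵥ v := by rw [hNv]; abel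
    have e2 : (A : Matrix κ κ F) *ᵥ (N *ᵥ v) = N *ᵥ v := by rwa [hNv (N *ᵥ v), sub_eq_zero] at h
    have hww : f (N *ᵥ v) (N *ᵥ v) = 0 := by
      have h' := hA v (N *ᵥ v)
      rwa [e1, e2, hf.bilinear.add_left, add_eq_left] at h'
    rw [hw] at hww ⊢
    obtain ⟨rfl, rfl⟩ := haniso i j hww
    simp
  have hall : ∀ (n : ℕ) v, (∃ i j : F, v = i • a + j • b) → (N ^ (n + 1)) *ᵥ v = 0 → N *ᵥ v = 0 := by
    intro n
    induction n with
    | zero => intro v hv h; simpa using h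
    | succ n ih =>
      intro v hv h
      refine ih v hv ?_
      rw [pow_succ', ← mulVec_mulVec]
      refine htwo _ (hiter n v hv) ?_
      rw [mulVec_mulVec, mulVec_mulVec, mul_assoc, ← pow_succ', ← pow_succ']
      exact h
  obtain ⟨q, hq⟩ : ∃ q, p = q + 1 := ⟨p - 1, by have := (Fact.out : p.Prime).one_le; omega⟩
  constructor
  · have h := hall q a ⟨1, 0, by simp⟩ (by rw [← hq, hNp, sub_mulVec, one_mulVec, hpa, sub_self])
    rwa [hNv, sub_eq_zero] at h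
  · have h := hall q b ⟨0, 1, by simp⟩ (by rw [← hq, hNp, sub_mulVec, one_mulVec, hpb, sub_self])
    rwa [hNv, sub_eq_zero] at h

end Aniso

variable {ι : Type} [Fintype ι] [DecidableEq ι] {F : Type*} [Field F] [Fintype F] {r s : ℕ}
variable {e : ι ≃ Fin r × Fin s} {P : GL ι F}
variable {Q : (ι → F) → F} {f₁ : (Fin r → F) → (Fin r → F) → F} {f₂ : (Fin s → F) → (Fin s → F) → F}
variable {k : F} {M : Subgroup (GL ι F)}

local notation "T" => tvec e P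

variable (D : OO Q f₁ f₂ e P k M)
include D

theorem OO.pure_plane {a b : Fin r → F} (ha : f₁ a a ≠ 0) (hb : f₁ b b ≠ 0) (hab : f₁ a b = 0) {z : ι → F}
    (hz : (kg e P (rr D.s1 ha hb) (1 : GL (Fin s) F) : Matrix ι ι F) *ᵥ z = -z) :
    z = T a ((f₁ a a)⁻¹ • D.cob a z) + T b ((f₁ b b)⁻¹ • D.cob b z) := by
  have h2 := D.two
  have h : kg e P (rr D.s1 ha hb) (1 : GL (Fin s) F) =
      kg e P (refl D.s1 a ha) (1 : GL (Fin s) F) * kg e P (refl D.s1 b hb) (1 : GL (Fin s) F) := by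
    rw [kg_mul, one_mul, rr]
  rw [h, gl_mul_mulVec, D.reflL_mulVec, D.reflL_mulVec, map_sub, D.cob_tvec, (D.s1.symm b a).trans hab, zero_smul,
    sub_zero] at hz
  rw [← smul_right_injective _ h2 |>.eq_iff]
  simp only [tvec_smul_right] at hz ⊢
  linear_combination (norm := skip) hz
  match_scalars <;> field_simp <;> ring

/-- a vector of the span of an anisotropic vector and an orthogonal plane is singular -/
theorem OO.exists_singular_three {d a b : Fin r → F} (hd : f₁ d d ≠ 0) (ha : f₁ a a ≠ 0) (hb : f₁ b b ≠ 0)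
    (hda : f₁ d a = 0) (hdb : f₁ d b = 0) (hab : f₁ a b = 0) :
    ∃ i j : F, i • d + j • a + b ≠ 0 ∧ f₁ (i • d + j • a + b) (i • d + j • a + b) = 0 := by
  have h2 := D.two
  have hg := D.s1
  open Polynomial in
  obtain ⟨i, j, hij⟩ := FiniteField.exists_root_sum_quadratic (R := F) (f := C (f₁ d d) * X ^ 2)
    (g := C (f₁ a a) * X ^ 2 + C (f₁ b b)) (degree_C_mul_X_pow 2 hd) (by
      rw [degree_add_C (by rw [degree_C_mul_X_pow 2 ha]; norm_num), degree_C_mul_X_pow 2 ha]; rfl)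
    (FiniteField.odd_card_of_char_ne_two fun h => h2 (by haveI := ringChar.of_eq h; exact CharTwo.two_eq_zero))
  simp only [Polynomial.eval_mul, Polynomial.eval_C, Polynomial.eval_pow, Polynomial.eval_X, Polynomial.eval_add] at hij
  refine ⟨i, j, fun h => hb ?_, ?_⟩
  · have h' := congrArg (fun x => f₁ x b) h
    simpa [hg.bilinear.add_left, hg.bilinear.smul_left, hdb, hab, Orth.sym_zero_left hg] using h'
  · simp only [hg.bilinear.add_left, hg.bilinear.add_right, hg.bilinear.smul_left, hg.bilinear.smul_right, hda, hdb,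
      hab, hg.symm a d, hg.symm b d, hg.symm b a]
    linear_combination hij

/-- centralisers of anisotropic planes inside the fixator of an orthogonal vector -/
theorem OO.plane_cent_aniso (hfull : ¬ omegaGL Q ≤ M) (hs : 4 ≤ s) {d a b : Fin r → F} (hd : f₁ d d ≠ 0)
    (ha : f₁ a a ≠ 0) (hb : f₁ b b ≠ 0) (hda : f₁ d a = 0) (hdb : f₁ d b = 0) (hab : f₁ a b = 0)
    (haniso : ∀ i j : F, f₁ (i • a + j • b) (i • a + j • b) = 0 → i = 0 ∧ j = 0)
    {x₀ : GL ι F} (hx₀ : x₀ ∈ M) (hfix₀ : ∀ y, (x₀ : Matrix ι ι F) *ᵥ T d y = T d y)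
    (hcomm₀ : x₀ * kg e P (rr D.s1 ha hb) (1 : GL (Fin s) F) = kg e P (rr D.s1 ha hb) (1 : GL (Fin s) F) * x₀) :
    x₀ ∈ tensorProductSubgroup r s e P := by
  classical
  have hd0 : d ≠ 0 := fun h => hd (by rw [h, Orth.sym_zero_left D.s1])
  obtain ⟨bs, p, A, hb0, hbb, hp, hc, hAM, hAc, hnc, hexp, hroot⟩ := D.exists_roots hs
  haveI := hc
  haveI : Fact p.Prime := ⟨hp⟩
  haveI := hAc
  obtain ⟨t, ht⟩ : ∃ t, t = kg e P (rr D.s1 ha hb) (1 : GL (Fin s) F) := ⟨_, rfl⟩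
  rw [← ht] at hcomm₀
  obtain ⟨K, hK⟩ : ∃ K : Subgroup (GL ι F),
      ∀ x, x ∈ K ↔ x ∈ M ∧ (∀ y, (x : Matrix ι ι F) *ᵥ T d y = T d y) ∧ x * t = t * x :=
    ⟨{ carrier := {x | x ∈ M ∧ (∀ y, (x : Matrix ι ι F) *ᵥ T d y = T d y) ∧ x * t = t * x}
       one_mem' := ⟨one_mem M, fun y => by simp, by simp⟩
       mul_mem' := fun {x x'} h h' => ⟨mul_mem h.1 h'.1, fun y => by rw [gl_mul_mulVec, h'.2.1, h.2.1],
         by rw [mul_assoc, h'.2.2, ← mul_assoc, h.2.2, mul_assoc]⟩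
       inv_mem' := fun {x} h => ⟨inv_mem h.1, fun y => by conv_lhs => rw [← h.2.1 y, gl_inv_mulVec],
         (show Commute x t from h.2.2).inv_left⟩ }, fun x => Iff.rfl⟩
  obtain ⟨K0, hK0⟩ : ∃ K0 : Subgroup (GL ι F), ∀ x, x ∈ K0 ↔ x ∈ K ∧
      (∀ y, (x : Matrix ι ι F) *ᵥ T a y = T a y) ∧ ∀ y, (x : Matrix ι ι F) *ᵥ T b y = T b y :=
    ⟨{ carrier := {x | x ∈ K ∧ (∀ y, (x : Matrix ι ι F) *ᵥ T a y = T a y) ∧
         ∀ y, (x : Matrix ι ι F) *ᵥ T b y = T b y}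
       one_mem' := ⟨one_mem K, fun y => by simp, fun y => by simp⟩
       mul_mem' := fun {x x'} h h' => ⟨mul_mem h.1 h'.1, fun y => by rw [gl_mul_mulVec, h'.2.1, h.2.1],
         fun y => by rw [gl_mul_mulVec, h'.2.2, h.2.2]⟩
       inv_mem' := fun {x} h => ⟨inv_mem h.1, fun y => by conv_lhs => rw [← h.2.1 y, gl_inv_mulVec],
         fun y => by conv_lhs => rw [← h.2.2 y, gl_inv_mulVec]⟩ }, fun x => Iff.rfl⟩
  have hK0H : K0 ≤ tensorProductSubgroup r s e P := fun x hx => by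
    obtain ⟨hxK, hxa, hxb⟩ := (hK0 x).1 hx
    obtain ⟨hxM, hxd, -⟩ := (hK x).1 hxK
    obtain ⟨i, j, hv0, hvv⟩ := D.exists_singular_three hd ha hb hda hdb hab
    refine D.fix_singular hfull hv0 hvv hxM fun y => ?_
    simp only [tvec_add_left, tvec_smul_left, mulVec_add, mulVec_smul, hxd, hxa, hxb]
  -- normalisation
  have hmem : ∀ (B : GL (Fin s) F), kg e P (1 : GL (Fin r) F) B * t = t * kg e P (1 : GL (Fin r) F) B := fun B => by
    rw [ht, kg_mul, kg_mul, one_mul, mul_one, mul_one, one_mul]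
  have hconjA : ∀ g ∈ A, (∀ x ∈ K, g * x * g⁻¹ ∈ K) ∧ ∀ x ∈ K0, g * x * g⁻¹ ∈ K0 := by
    intro g hg
    obtain ⟨w, -, -, hgw⟩ := hroot g hg
    obtain ⟨B, hB⟩ : ∃ B, g = kg e P (1 : GL (Fin r) F) B := ⟨_, hgw⟩
    have hfixgen : ∀ (v : Fin r → F) (x : GL ι F), (∀ y, (x : Matrix ι ι F) *ᵥ T v y = T v y) →
        ∀ y, ((g * x * g⁻¹ : GL ι F) : Matrix ι ι F) *ᵥ T v y = T v y := fun v x hx y => by
      obtain ⟨y', rfl⟩ : ∃ y', y = (B : Matrix (Fin s) (Fin s) F) *ᵥ y' := ⟨_, (gl_mulVec_inv B y).symm⟩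
      have h : (g : Matrix ι ι F) *ᵥ T v y' = T v ((B : Matrix (Fin s) (Fin s) F) *ᵥ y') := by
        rw [hB, kg_tvec, Units.val_one, one_mulVec]
      rw [← h, gl_mul_mulVec, gl_mul_mulVec, gl_inv_mulVec, hx]
    have hK' : ∀ x ∈ K, g * x * g⁻¹ ∈ K := fun x hx => by
      obtain ⟨hxM, hxd, hxt⟩ := (hK x).1 hx
      refine (hK _).2 ⟨mul_mem (mul_mem (hAM hg) hxM) (inv_mem (hAM hg)), hfixgen d x hxd, ?_⟩
      have hgt : Commute g t := hB ▸ hmem B
      exact ((hgt.mul_left hxt).mul_left hgt.inv_left)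
    exact ⟨hK', fun x hx => (hK0 _).2 ⟨hK' x ((hK0 x).1 hx).1, hfixgen a x ((hK0 x).1 hx).2.1,
      hfixgen b x ((hK0 x).1 hx).2.2⟩⟩
  have hconjK : ∀ g ∈ K, ∀ x ∈ K0, g * x * g⁻¹ ∈ K0 := by
    intro g hg x hx
    obtain ⟨hxK, hxa, hxb⟩ := (hK0 x).1 hx
    obtain ⟨-, -, hgt⟩ := (hK g).1 hg
    have hneg : ∀ v, (rr D.s1 ha hb : Matrix (Fin r) (Fin r) F) *ᵥ v = -v →
        ∀ y, ((g * x * g⁻¹ : GL ι F) : Matrix ι ι F) *ᵥ T v y = T v y := by
      intro v hv y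
      obtain ⟨z, hzdef⟩ : ∃ z, z = ((g⁻¹ : GL ι F) : Matrix ι ι F) *ᵥ T v y := ⟨_, rfl⟩
      have hzt : (t : Matrix ι ι F) *ᵥ z = -z := by
        rw [hzdef, ← gl_mul_mulVec, ← (show Commute g t from hgt).inv_left.eq, gl_mul_mulVec, ht, kg_tvec, hv,
          Units.val_one, one_mulVec, tvec_neg_left, mulVec_neg]
      have hz := D.pure_plane ha hb hab (ht ▸ hzt)
      rw [gl_mul_mulVec, gl_mul_mulVec, ← hzdef]
      conv_lhs => rw [hz, mulVec_add (x : Matrix ι ι F), hxa, hxb, ← hz, hzdef, gl_mulVec_inv]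
    refine (hK0 _).2 ⟨mul_mem (mul_mem hg hxK) (inv_mem hg), hneg a ?_, hneg b ?_⟩
    · rw [rr, gl_mul_mulVec, refl_perp D.s1 hb hab, refl_self D.s1 ha]
    · rw [rr, gl_mul_mulVec, refl_self D.s1 hb, mulVec_neg, refl_perp D.s1 ha ((D.s1.symm b a).trans hab)]
  obtain ⟨N, hN⟩ : ∃ N, N = Subgroup.normalizer (K0 : Set (GL ι F)) := ⟨_, rfl⟩
  have hle : ∀ g : GL ι F, (∀ x ∈ K0, g * x * g⁻¹ ∈ K0) → (∀ x ∈ K0, g⁻¹ * x * g⁻¹⁻¹ ∈ K0) → g ∈ N :=
    fun g h1 h2 => hN ▸ Subgroup.mem_normalizer_iff.2 fun x => ⟨fun h => h1 x h, fun h => by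
      have h' := h2 _ h
      rwa [inv_inv, show g⁻¹ * (g * x * g⁻¹) * g = x by group] at h'⟩
  have hKN : K ≤ N := fun g hg => hle g (hconjK g hg) (hconjK _ (inv_mem hg))
  have hAN : A ≤ N := fun g hg => hle g (hconjA g hg).2 (hconjA _ (inv_mem hg)).2
  subst hN
  let π := QuotientGroup.mk' (K0.subgroupOf (Subgroup.normalizer (K0 : Set (GL ι F))))
  have hπeq : ∀ u v : Subgroup.normalizer (K0 : Set (GL ι F)), π u = π v → (u : GL ι F)⁻¹ * v ∈ K0 := fun u v h => by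
    have h' := QuotientGroup.eq.1 h
    exact Subgroup.mem_subgroupOf.1 h'
  let j : A →* Subgroup.normalizer (K0 : Set (GL ι F)) := Subgroup.inclusion hAN
  have hjinj : Function.Injective (π.comp j) := by
    refine (injective_iff_map_eq_one _).2 fun g hg => Subtype.ext ?_
    have h' : (g : GL ι F) ∈ K0 := Subgroup.mem_subgroupOf.1 ((QuotientGroup.eq_one_iff (j g)).1 hg)
    obtain ⟨hgK, -, -⟩ := (hK0 _).1 h'
    obtain ⟨-, hgd, -⟩ := (hK _).1 hgK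
    obtain ⟨w, -, -, hgw⟩ := hroot g g.2
    show (g : GL ι F) = 1
    rw [hgw, show eic D.s2 bs w = 1 from gl_ext_vec fun y => ?_, kg_one]
    have h1 := hgd y
    rw [hgw, kg_tvec, Units.val_one, one_mulVec] at h1
    rw [Units.val_one, one_mulVec]
    exact tvec_right_inj hd0 h1
  obtain ⟨Ab, hAb⟩ : ∃ Ab, Ab = (π.comp j).range := ⟨_, rfl⟩
  obtain ⟨Kb, hKb⟩ : ∃ Kb, Kb = (K.subgroupOf (Subgroup.normalizer (K0 : Set (GL ι F)))).map π := ⟨_, rfl⟩
  obtain ⟨Wb, hWb⟩ : ∃ Wb, Wb = ((tensorProductSubgroup r s e P).subgroupOf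
      (Subgroup.normalizer (K0 : Set (GL ι F)))).map π := ⟨_, rfl⟩
  haveI : IsMulCommutative Ab := isMulCommutative_iff.2 fun ⟨u, hu⟩ ⟨v, hv⟩ => by
    obtain ⟨g, rfl⟩ := (hAb ▸ hu : u ∈ (π.comp j).range)
    obtain ⟨g', rfl⟩ := (hAb ▸ hv : v ∈ (π.comp j).range)
    refine Subtype.ext ?_
    show (π.comp j) g * (π.comp j) g' = (π.comp j) g' * (π.comp j) g
    rw [← map_mul, ← map_mul, Subtype.ext (show (g * g' : A).1 = (g' * g : A).1 from
      congrArg Subtype.val (hAc.is_comm.comm g g'))]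
  have hnc' : ¬ IsCyclic Ab := fun hcyc => hnc (by
    subst hAb
    exact isCyclic_of_injective (π.comp j).rangeRestrict (fun g g' h => hjinj (congrArg Subtype.val h)))
  have hAbp : IsPGroup p Ab := fun ⟨u, hu⟩ => ⟨1, by
    obtain ⟨g, rfl⟩ := (hAb ▸ hu : u ∈ (π.comp j).range)
    refine Subtype.ext ?_
    show ((π.comp j) g) ^ p ^ 1 = 1
    rw [pow_one, ← map_pow, show g ^ p = 1 from Subtype.ext (hexp g g.2), map_one]⟩
  have hnorm : ∀ u ∈ Ab, ∀ v ∈ Kb, u * v * u⁻¹ ∈ Kb := by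
    intro u hu v hv
    subst hAb hKb
    obtain ⟨g, rfl⟩ := hu
    obtain ⟨x, hx, rfl⟩ := hv
    refine ⟨j g * x * (j g)⁻¹, ?_, by simp⟩
    exact Subgroup.mem_subgroupOf.2 ((hconjA g g.2).1 x (Subgroup.mem_subgroupOf.1 hx))
  -- elements commuting with a root modulo `K0`
  have hkey : ∀ g : A, g ≠ 1 → ∀ x : Subgroup.normalizer (K0 : Set (GL ι F)), (x : GL ι F) ∈ K →
      π (j g) * π x = π x * π (j g) → (x : GL ι F) ∈ tensorProductSubgroup r s e P := by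
    intro g hg x hxK h
    rw [← map_mul, ← map_mul] at h
    have h1 := hπeq _ _ h
    simp only [Subgroup.coe_mul] at h1
    obtain ⟨hxM, hxd, -⟩ := (hK _).1 hxK
    obtain ⟨m, hm⟩ : ∃ m, m = ((j g : GL ι F) * x)⁻¹ * ((x : GL ι F) * j g) := ⟨_, rfl⟩
    rw [← hm] at h1
    obtain ⟨hmK, -, -⟩ := (hK0 _).1 h1
    obtain ⟨hmM, hmd, -⟩ := (hK _).1 hmK
    obtain ⟨m', hm'⟩ : ∃ m', m' = (g : GL ι F) * (x : GL ι F) * m * (x : GL ι F)⁻¹ * (g : GL ι F)⁻¹ := ⟨_, rfl⟩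
    have hm'K0 : m' ∈ K0 := by
      have h3 := (hconjA g g.2).2 _ (hconjK x hxK m h1)
      rw [hm']
      convert h3 using 1
      group
    have heq : (x : GL ι F) * g * (x : GL ι F)⁻¹ = m' * g := by
      rw [hm', hm]
      show (x : GL ι F) * g * (x : GL ι F)⁻¹ = _
      simp only [j, Subgroup.coe_inclusion]
      group
    obtain ⟨hm'K, -, -⟩ := (hK0 _).1 hm'K0
    obtain ⟨hm'M, hm'd, -⟩ := (hK _).1 hm'K
    obtain ⟨u, -, -, hu⟩ := D.fix_kg hm'M (hK0H hm'K0) hd0 one_ne_zero (fun y => by rw [hm'd, one_smul])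
    obtain ⟨w, hw, hne, hgw⟩ := hroot g g.2
    have hww := hne fun h => hg (Subtype.ext h)
    refine D.root_recog hfull hs hb0 hbb hw hww hb0 hbb hw hww hxM (u := u) ?_
    rw [← hgw, heq, hu, hgw, kg_mul, mul_one, one_mul]
  have hXp : ¬ p ∣ Nat.card Kb := fun hdvd => by
    obtain ⟨v, hv, hv1, hvp, hfixA⟩ := exists_fixed_pElement hAbp hnorm hdvd
    obtain ⟨g, hg⟩ : ∃ g : A, g ≠ 1 := by
      by_contra hcon
      push Not at hcon
      haveI : Subsingleton A := ⟨fun u v => (hcon u).trans (hcon v).symm⟩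
      exact hnc inferInstance
    rw [hKb] at hv
    obtain ⟨x, hx, rfl⟩ := hv
    have hxK : (x : GL ι F) ∈ K := Subgroup.mem_subgroupOf.1 hx
    have hxH := hkey g hg x hxK (hfixA _ (hAb ▸ ⟨g, rfl⟩))
    obtain ⟨hxM, hxd, hxt⟩ := (hK _).1 hxK
    obtain ⟨u, hui, -, hu⟩ := D.fix_kg hxM hxH hd0 one_ne_zero (fun y => by rw [hxd, one_smul])
    refine hv1 ((QuotientGroup.eq_one_iff _).2 (Subgroup.mem_subgroupOf.2 ((hK0 _).2 ?_)))
    have hxp : (x : GL ι F) ^ p ∈ K0 := by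
      have h1 := (QuotientGroup.eq_one_iff _).1 ((map_pow π x p).trans hvp)
      simpa using Subgroup.mem_subgroupOf.1 h1
    obtain ⟨y0, hy0⟩ : ∃ y : Fin s → F, y ≠ 0 := ⟨Pi.single ⟨0, by omega⟩ 1, by simp⟩
    obtain ⟨-, hpa, hpb⟩ := (hK0 _).1 hxp
    have hpa' := hpa y0
    have hpb' := hpb y0
    rw [hu, kg_pow, one_pow, kg_tvec, Units.val_one, one_mulVec] at hpa' hpb'
    have hucomm : u * rr D.s1 ha hb = rr D.s1 ha hb * u := kgL_inj (e := e) (P := P) (by omega) (by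
      rw [hu, ht, kg_mul, kg_mul, one_mul] at hxt
      exact hxt)
    have hspan : ∀ v, (rr D.s1 ha hb : Matrix (Fin r) (Fin r) F) *ᵥ v = -v →
        ∃ i j : F, (u : Matrix (Fin r) (Fin r) F) *ᵥ v = i • a + j • b := fun v hv =>
      ⟨_, _, rr_neg_span D.s1 D.two ha hb hab (by rw [← gl_mul_mulVec, ← hucomm, gl_mul_mulVec, hv, mulVec_neg])⟩
    obtain ⟨hua, hub⟩ := aniso_fix D.s1 D.two hui haniso
      (hspan a (by rw [rr, gl_mul_mulVec, refl_perp D.s1 hb hab, refl_self D.s1 ha]))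
      (hspan b (by rw [rr, gl_mul_mulVec, refl_self D.s1 hb, mulVec_neg,
        refl_perp D.s1 ha ((D.s1.symm b a).trans hab)]))
      (tvec_left_inj hy0 hpa') (tvec_left_inj hy0 hpb')
    exact ⟨hxK, fun y => by rw [hu, kg_tvec, hua, Units.val_one, one_mulVec],
      fun y => by rw [hu, kg_tvec, hub, Units.val_one, one_mulVec]⟩
  have hcop : (Nat.card Ab).Coprime (Nat.card Kb) := by
    obtain ⟨m, hm⟩ := IsPGroup.iff_card.1 hAbp
    rw [hm]
    exact Nat.Coprime.pow_left _ (hp.coprime_iff_not_dvd.2 hXp)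
  have hmain : Kb ≤ Wb := by
    refine CfsgLib.Coprime.le_of_centralizers_le (A := Ab) hnc' (fun u hu => Subgroup.mem_normalizer_iff.2
      fun v => ⟨hnorm u hu v, fun h => ?_⟩) hcop fun u hu hu1 v hv => ?_
    · have h' := hnorm u⁻¹ (inv_mem hu) _ h
      rwa [inv_inv, show u⁻¹ * (u * v * u⁻¹) * u = v by group] at h'
    · obtain ⟨hvK, hvc⟩ := hv
      rw [hAb] at hu
      obtain ⟨g, rfl⟩ := hu
      rw [hKb] at hvK
      obtain ⟨x, hx, rfl⟩ := hvK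
      rw [hWb]
      exact ⟨x, Subgroup.mem_subgroupOf.2 (hkey g (fun h => hu1 (by rw [h, map_one])) x
        (Subgroup.mem_subgroupOf.1 hx) (Subgroup.mem_centralizer_singleton_iff.1 hvc).symm), rfl⟩
  have hx₀K : x₀ ∈ K := (hK _).2 ⟨hx₀, hfix₀, hcomm₀⟩
  have h := hmain (hKb ▸ ⟨⟨x₀, hKN hx₀K⟩, Subgroup.mem_subgroupOf.2 hx₀K, rfl⟩ : π ⟨x₀, hKN hx₀K⟩ ∈ Kb)
  rw [hWb] at h
  obtain ⟨y, hy, hyx⟩ := h
  have h1 := hK0H (hπeq _ _ hyx)
  have h2 := mul_mem (Subgroup.mem_subgroupOf.1 hy) h1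
  rwa [mul_inv_cancel_left] at h2

/-- centralisers of all planes inside the fixator of an orthogonal vector -/
theorem OO.plane_cent (hfull : ¬ omegaGL Q ≤ M) (hs : 4 ≤ s) (hr5 : 5 ≤ r) {d a b : Fin r → F} (hd : f₁ d d ≠ 0)
    (ha : f₁ a a ≠ 0) (hb : f₁ b b ≠ 0) (hda : f₁ d a = 0) (hdb : f₁ d b = 0) (hab : f₁ a b = 0)
    {x : GL ι F} (hx : x ∈ M) (hfix : ∀ y, (x : Matrix ι ι F) *ᵥ T d y = T d y)
    (hcomm : x * kg e P (rr D.s1 ha hb) (1 : GL (Fin s) F) = kg e P (rr D.s1 ha hb) (1 : GL (Fin s) F) * x) :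
    x ∈ tensorProductSubgroup r s e P := by
  by_cases haniso : ∀ i j : F, f₁ (i • a + j • b) (i • a + j • b) = 0 → i = 0 ∧ j = 0
  · exact D.plane_cent_aniso hfull hs hd ha hb hda hdb hab haniso hx hfix hcomm
  push Not at haniso
  obtain ⟨i, j, hij, hne⟩ := haniso
  have h2 := D.two
  have hg := D.s1
  have hR := rr_sq hg ha hb hab
  have hv0 : i • a + j • b ≠ 0 := fun h => by
    have e1 := congrArg (fun x => f₁ x a) h
    have e2 := congrArg (fun x => f₁ x b) h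
    simp [hg.bilinear.add_left, hg.bilinear.smul_left, hab, hg.symm b a, Orth.sym_zero_left hg, ha, hb] at e1 e2
    exact hne e1 e2
  obtain ⟨hX, -⟩ := nd_eigen hg h2 hR (rr_iso hg ha hb)
  have hfd := invol_finrank h2 hR
  rw [rr_dim hg h2 ha hb hab, Fintype.card_fin] at hfd
  refine D.good_of hfull (rr_iso hg ha hb) hX (by omega) (σ := 1) (one_mul 1)
    (fun v hv => by rw [mem_fixSp.1 hv, one_smul]) hv0 ?_ (fun g hg' hgf => D.fix_singular hfull hv0 hij hg' hgf) x hx hcomm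
  rw [mulVec_add, mulVec_smul, mulVec_smul, rr, gl_mul_mulVec, gl_mul_mulVec, refl_perp hg hb hab, refl_self hg ha,
    refl_self hg hb, mulVec_neg, refl_perp hg ha ((hg.symm b a).trans hab), neg_one_smul]
  module

end CfsgLib.Perm.Trans.TensorOO
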