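import Mathlib
import Cfsg.Agent.Lib.Perm.Trans.TensorOO.EvenPlane

/-!
# Fixators of anisotropic vectors, the second dimension even
-/

set_option autoImplicit false
set_option linter.all false

namespace CfsgLib.Perm.Trans.TensorOO

open scoped Matrix
open Matrix Cfsg.Geo CfsgLib.Perm.Asch CfsgLib.Perm.Trans CfsgLib.Perm.Trans.TensorFrame
open CfsgLib.Perm.Trans.TensorMax CfsgLib.Perm.Trans.Quad CfsgLib.Perm.Trans.TensorSO

variable {ι : Type} [Fintype ι] [DecidableEq ι] {F : Type*} [Field F] [Fintype F] {r s : ℕ}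
variable {e : ι ≃ Fin r × Fin s} {P : GL ι F}
variable {Q : (ι → F) → F} {f₁ : (Fin r → F) → (Fin r → F) → F} {f₂ : (Fin s → F) → (Fin s → F) → F}
variable {k : F} {M : Subgroup (GL ι F)}

local notation "T" => tvec e P

variable (D : OO Q f₁ f₂ e P k M)
include D

theorem OO.good_big (hfull : ¬ omegaGL Q ≤ M) {t : GL (Fin r) F} (ht2 : t * t = 1)
    (ht : ∀ x x', f₁ ((t : Matrix (Fin r) (Fin r) F) *ᵥ x) ((t : Matrix (Fin r) (Fin r) F) *ᵥ x') = f₁ x x')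
    (h3 : 3 ≤ Module.finrank F (fixSp t)) (h3' : 3 ≤ Module.finrank F (negSp t)) : D.Good t := by
  obtain ⟨hX, hN⟩ := nd_eigen D.s1 D.two ht2 ht
  obtain ⟨d, hd, hd0, hdd⟩ := nd_singular D.s1 D.two hN h3'
  exact D.good_of hfull ht hX h3 (σ := 1) (one_mul 1) (fun x hx => by rw [mem_fixSp.1 hx, one_smul]) hd0
    (by rw [mem_negSp.1 hd, neg_one_smul]) (fun g hg hgf => D.fix_singular hfull hd0 hdd hg hgf)

theorem OO.good_hyp (hfull : ¬ omegaGL Q ≤ M) (hr5 : 5 ≤ r) {a b : Fin r → F} (ha : f₁ a a ≠ 0) (hb : f₁ b b ≠ 0)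
    (hab : f₁ a b = 0) (hsum : f₁ a a + f₁ b b = 0) : D.Good (rr D.s1 ha hb) := by
  have h2 := D.two
  have hg := D.s1
  have hR := rr_sq hg ha hb hab
  obtain ⟨hX, -⟩ := nd_eigen hg h2 hR (rr_iso hg ha hb)
  have hfd := invol_finrank h2 hR
  rw [rr_dim hg h2 ha hb hab, Fintype.card_fin] at hfd
  have hv0 : a + b ≠ 0 := fun h => ha (by
    have e1 := congrArg (fun x => f₁ x a) h
    simpa [hg.bilinear.add_left, hg.symm b a, hab, Orth.sym_zero_left hg] using e1)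
  have hvv : f₁ (a + b) (a + b) = 0 := by
    simp only [hg.bilinear.add_left, hg.bilinear.add_right, hab, hg.symm b a]
    linear_combination hsum
  refine D.good_of hfull (rr_iso hg ha hb) hX (by omega) (σ := 1) (one_mul 1)
    (fun v hv => by rw [mem_fixSp.1 hv, one_smul]) hv0 ?_ (fun g hg' hgf => D.fix_singular hfull hv0 hvv hg' hgf)
  rw [mulVec_add, rr, gl_mul_mulVec, gl_mul_mulVec, refl_perp hg hb hab, refl_self hg ha,
    refl_self hg hb, mulVec_neg, refl_perp hg ha ((hg.symm b a).trans hab), neg_one_smul]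
  module

theorem OO.plane_cent' (hfull : ¬ omegaGL Q ≤ M) (hs : 4 ≤ s) (hr5 : 5 ≤ r) {d : Fin r → F} (hd : f₁ d d ≠ 0)
    {t : GL (Fin r) F} (ht2 : t * t = 1)
    (ht : ∀ x x', f₁ ((t : Matrix (Fin r) (Fin r) F) *ᵥ x) ((t : Matrix (Fin r) (Fin r) F) *ᵥ x') = f₁ x x')
    (hn : Module.finrank F (negSp t) = 2) (htd : (t : Matrix (Fin r) (Fin r) F) *ᵥ d = d)
    {x : GL ι F} (hx : x ∈ M) (hfix : ∀ y, (x : Matrix ι ι F) *ᵥ T d y = T d y)
    (hcomm : x * kg e P t (1 : GL (Fin s) F) = kg e P t (1 : GL (Fin s) F) * x) :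
    x ∈ tensorProductSubgroup r s e P := by
  obtain ⟨a, b, ha, hb, haN, hbN, hab, rfl⟩ := invol_eq_rr D.s1 D.two ht2 ht hn
  exact D.plane_cent hfull hs hr5 hd ha hb (eigen_perp D.s1 D.two ht (mem_fixSp.2 htd) haN)
    (eigen_perp D.s1 D.two ht (mem_fixSp.2 htd) hbN) hab hx hfix hcomm

/-- a hyperbolic plane is not conjugate in `M` to a plane without singular vectors -/
theorem OO.conj_plane (hfull : ¬ omegaGL Q ≤ M) (hrs : r ≠ s) (hodd : Odd r ∨ Odd s) {a b g₁ g₂ : Fin r → F}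
    (ha : f₁ a a ≠ 0) (hb : f₁ b b ≠ 0) (hab : f₁ a b = 0) (hsum : f₁ a a + f₁ b b = 0) (hg₁ : f₁ g₁ g₁ ≠ 0)
    (hg₂ : f₁ g₂ g₂ ≠ 0) (hgg : f₁ g₁ g₂ = 0)
    (haniso : ∀ i j : F, f₁ (i • g₁ + j • g₂) (i • g₁ + j • g₂) = 0 → i = 0 ∧ j = 0)
    (hM : kg e P (rr D.s1 ha hb) (1 : GL (Fin s) F) ∈ M) (hG : D.Good (rr D.s1 ha hb))
    (h12 : r * s = 12 → r = 3) {c : GL ι F} (hc : c ∈ M) :
    c * kg e P (rr D.s1 ha hb) (1 : GL (Fin s) F) * c⁻¹ ≠ kg e P (rr D.s1 hg₁ hg₂) (1 : GL (Fin s) F) := by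
  intro heq
  have hg := D.s1
  have h2 := D.two
  have hs0 : 0 < s := by have := D.s3; omega
  have hR := rr_sq hg ha hb hab
  have hH := D.conj_mem hfull hrs hodd hM (by rw [kg_mul, hR, one_mul, kg_one]) hG
    (fun h => by
      have h3 := h12 h
      subst h3
      rw [neg_dim_left h2 hR, rr_dim hg h2 ha hb hab]
      omega) hc (by rw [heq]; exact kg_mem _ _)
  obtain ⟨A, B, μ, ν, -, hA, -, rfl⟩ := D.tensor_data (D.le_iso hc) hH
  rw [kg_inv, kg_mul, kg_mul, mul_one, mul_inv_cancel] at heq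
  have h := kgL_inj (e := e) (P := P) hs0 heq
  have hv : (rr D.s1 ha hb : Matrix (Fin r) (Fin r) F) *ᵥ (a + b) = -(a + b) := by
    rw [mulVec_add, rr, gl_mul_mulVec, gl_mul_mulVec, refl_perp hg hb hab, refl_self hg ha,
      refl_self hg hb, mulVec_neg, refl_perp hg ha ((hg.symm b a).trans hab)]
    abel
  have hw : (rr D.s1 hg₁ hg₂ : Matrix (Fin r) (Fin r) F) *ᵥ ((A : Matrix (Fin r) (Fin r) F) *ᵥ (a + b)) =
      -((A : Matrix (Fin r) (Fin r) F) *ᵥ (a + b)) := by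
    rw [← h, gl_mul_mulVec, gl_mul_mulVec, gl_inv_mulVec, hv, mulVec_neg]
  have hspan := rr_neg_span hg h2 hg₁ hg₂ hgg hw
  have hww : f₁ ((A : Matrix (Fin r) (Fin r) F) *ᵥ (a + b)) ((A : Matrix (Fin r) (Fin r) F) *ᵥ (a + b)) = 0 := by
    rw [hA]
    simp only [hg.bilinear.add_left, hg.bilinear.add_right, hab, hg.symm b a]
    linear_combination μ * hsum
  rw [hspan] at hww
  obtain ⟨e1, e2⟩ := haniso _ _ hww
  rw [e1, e2, zero_smul, zero_smul, add_zero] at hspan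
  have h0 : a + b = 0 := gl_mulVec_eq_zero.1 hspan
  have e3 := congrArg (fun x => f₁ x a) h0
  simp [hg.bilinear.add_left, hg.symm b a, hab, Orth.sym_zero_left hg, ha] at e3

/-- elements fixing two orthogonal anisotropic vectors -/
theorem OO.pair_fix (hfull : ¬ omegaGL Q ≤ M) (hr : Odd r) (hs : Even s) (hs4 : 4 ≤ s) (hr5 : 5 ≤ r)
    {d d' : Fin r → F} (hd : f₁ d d ≠ 0) (hd' : f₁ d' d' ≠ 0) (hdd' : f₁ d d' = 0) {x : GL ι F} (hx : x ∈ M)
    (hfix : ∀ y, (x : Matrix ι ι F) *ᵥ T d y = T d y) (hfix' : ∀ y, (x : Matrix ι ι F) *ᵥ T d' y = T d' y) :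
    x ∈ tensorProductSubgroup r s e P := by
  have h2 := D.two
  have hg := D.s1
  have hs0 : 0 < s := by omega
  have hrs : r ≠ s := fun h => Nat.not_odd_iff_even.2 hs (h ▸ hr)
  have hd0 : d ≠ 0 := fun h => hd (by rw [h, Orth.sym_zero_left hg])
  obtain ⟨y0, hy0⟩ : ∃ y : Fin s → F, y ≠ 0 := ⟨Pi.single ⟨0, hs0⟩ 1, by simp⟩
  have hd'd : f₁ d' d = 0 := (hg.symm d' d).trans hdd'
  have hd'P : d' ∈ perp hg ⊤ d := ⟨Submodule.mem_top, hd'd⟩
  have hL := nd_perp hg (nd_perp hg (nd_top hg) Submodule.mem_top hd) hd'P hd'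
  have h3 := perp_finrank hg (⊤ : Submodule F (Fin r → F)) d
  have h4 := perp_finrank hg (perp hg ⊤ d) d'
  rw [top_finrank hg, Fintype.card_fin] at h3
  obtain ⟨a, b, haL, hbL, haa, hbb, hab⟩ := exists_hyp_pair hg h2 hL (by omega)
  obtain ⟨g₁, g₂, h1L, h2L, hg₁, hg₂, hgg, haniso⟩ := exists_ell_pair hg h2 hL (by omega)
  have ha : f₁ a a ≠ 0 := by rw [haa]; exact one_ne_zero
  have hb : f₁ b b ≠ 0 := by rw [hbb]; exact neg_ne_zero.2 one_ne_zero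
  have hsum : f₁ a a + f₁ b b = 0 := by rw [haa, hbb]; ring
  have hdL : ∀ v ∈ perp hg (perp hg ⊤ d) d', f₁ d v = 0 ∧ f₁ d' v = 0 := fun v hv =>
    ⟨(hg.symm d v).trans hv.1.2, (hg.symm d' v).trans hv.2⟩
  have hG := D.good_hyp hfull hr5 ha hb hab hsum
  obtain ⟨y1, hy1⟩ : ∃ y1, y1 = kg e P (rr hg ha hb) (1 : GL (Fin s) F) := ⟨_, rfl⟩
  obtain ⟨y, hy⟩ : ∃ y, y = kg e P (rr hg hg₁ hg₂) (1 : GL (Fin s) F) := ⟨_, rfl⟩
  have hy1M : y1 ∈ M := hy1 ▸ D.plane_mem hs ha hb hab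
  have hyM : y ∈ M := hy ▸ D.plane_mem hs hg₁ hg₂ hgg
  have hy11 : y1 * y1 = 1 := by rw [hy1, kg_mul, rr_sq hg ha hb hab, one_mul, kg_one]
  have hyy : y * y = 1 := by rw [hy, kg_mul, rr_sq hg hg₁ hg₂ hgg, one_mul, kg_one]
  have hy1fix : ∀ v, f₁ v a = 0 → f₁ v b = 0 → ∀ z, (y1 : Matrix ι ι F) *ᵥ T v z = T v z := fun v h1 h3 z => by
    rw [hy1, kg_tvec, rr_perp hg ha hb h1 h3, Units.val_one, one_mulVec]
  have hyfix : ∀ v, f₁ v g₁ = 0 → f₁ v g₂ = 0 → ∀ z, (y : Matrix ι ι F) *ᵥ T v z = T v z := fun v h1 h3 z => by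
    rw [hy, kg_tvec, rr_perp hg hg₁ hg₂ h1 h3, Units.val_one, one_mulVec]
  obtain ⟨x', hx'⟩ : ∃ x', x' = x * y1 * x⁻¹ := ⟨_, rfl⟩
  have hx'M : x' ∈ M := hx' ▸ mul_mem (mul_mem hx hy1M) (inv_mem hx)
  have hx'x : x' * x' = 1 := by
    rw [hx', show x * y1 * x⁻¹ * (x * y1 * x⁻¹) = x * (y1 * y1) * x⁻¹ by group, hy11, mul_one, mul_inv_cancel]
  have hx'fix : ∀ v, f₁ v a = 0 → f₁ v b = 0 → (∀ z, (x : Matrix ι ι F) *ᵥ T v z = T v z) →
      ∀ z, (x' : Matrix ι ι F) *ᵥ T v z = T v z := fun v h1 h3 h z => by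
    have hi : ((x⁻¹ : GL ι F) : Matrix ι ι F) *ᵥ T v z = T v z := by conv_lhs => rw [← h z, gl_inv_mulVec]
    rw [hx', gl_mul_mulVec, gl_mul_mulVec, hi, hy1fix v h1 h3, h]
  have hx'd := hx'fix d (hdL a haL).1 (hdL b hbL).1 hfix
  have hx'd' := hx'fix d' (hdL a haL).2 (hdL b hbL).2 hfix'
  have hyd := hyfix d (hdL _ h1L).1 (hdL _ h2L).1
  have hyd' := hyfix d' (hdL _ h1L).2 (hdL _ h2L).2
  have hpow : ∀ (v : Fin r → F), (∀ z, (x' : Matrix ι ι F) *ᵥ T v z = T v z) →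
      (∀ z, (y : Matrix ι ι F) *ᵥ T v z = T v z) → ∀ (n : ℕ) z, (((x' * y) ^ n : GL ι F) : Matrix ι ι F) *ᵥ T v z = T v z := by
    intro v h1 h3 n
    induction n with
    | zero => intro z; simp
    | succ n ih => intro z; rw [pow_succ, gl_mul_mulVec, gl_mul_mulVec, h3, h1, ih]
  have hclos : Subgroup.closure ({x', y} : Set (GL ι F)) ≤ M :=
    (Subgroup.closure_le _).2 (Set.insert_subset hx'M (Set.singleton_subset_iff.2 hyM))
  suffices hx'H : x' ∈ tensorProductSubgroup r s e P by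
    exact D.conj_mem hfull hrs (Or.inl hr) hy1M hy11 (fun c hc h => hG c hc (by rw [← hy1]; exact h))
      (fun h => absurd h (not_twelve hr5 hs4)) hx (hx' ▸ hx'H)
  rcases invol_pair_parity hx'x hyy with ⟨-, c, hcc, hc⟩ | ⟨n, hn1, hn2, hnx, hny, hpar⟩
  · exfalso
    refine D.conj_plane hfull hrs (Or.inl hr) ha hb hab hsum hg₁ hg₂ hgg haniso (hy1 ▸ hy1M) hG
      (fun h => absurd h (not_twelve hr5 hs4))
      (mul_mem (inv_mem (hclos hcc)) hx) ?_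
    rw [← hy1, ← hy, show c⁻¹ * x * y1 * (c⁻¹ * x)⁻¹ = c⁻¹ * (x * y1 * x⁻¹) * c by group, ← hx', hc]
    group
  have hzM : (x' * y) ^ n ∈ M := pow_mem (mul_mem hx'M hyM) n
  have hzd := hpow d hx'd hyd n
  have hzd' := hpow d' hx'd' hyd' n
  have hzH : (x' * y) ^ n ∈ tensorProductSubgroup r s e P :=
    D.plane_cent hfull hs4 hr5 hd hg₁ hg₂ (hdL _ h1L).1 (hdL _ h2L).1 hgg hzM hzd (by rw [← hy]; exact hny)
  obtain ⟨δ, hδi, hδd, hδ⟩ := D.fix_kg hzM hzH hd0 one_ne_zero (fun z => by rw [hzd, one_smul])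
  rw [one_smul] at hδd
  have hδd' : (δ : Matrix (Fin r) (Fin r) F) *ᵥ d' = d' := by
    refine tvec_left_inj (e := e) (P := P) hy0 ?_
    have h := hzd' y0
    rwa [hδ, kg_tvec, Units.val_one, one_mulVec] at h
  have hδ2 : δ * δ = 1 := kgL_inj (e := e) (P := P) hs0 (by
    rw [kg_one, ← hn2, hδ, kg_mul, one_mul])
  have hδR : δ * rr hg hg₁ hg₂ = rr hg hg₁ hg₂ * δ := kgL_inj (e := e) (P := P) hs0 (by
    have h := hny
    rw [hδ, hy, kg_mul, kg_mul, one_mul] at h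
    exact h)
  obtain ⟨γ, hγ⟩ : ∃ γ, γ = δ * rr hg hg₁ hg₂ := ⟨_, rfl⟩
  have hR := rr_sq hg hg₁ hg₂ hgg
  have hγ2 : γ * γ = 1 := by
    rw [hγ, (show Commute (rr hg hg₁ hg₂) δ from hδR.symm).mul_mul_mul_comm, hδ2, hR, one_mul]
  have hγn : Module.finrank F (negSp γ) = 2 := by
    have hq : (x' * y) ^ n * y = kg e P γ (1 : GL (Fin s) F) := by rw [hδ, hy, kg_mul, one_mul, hγ]
    refine Nat.eq_of_mul_eq_mul_right hs0 ?_
    rw [← neg_dim_left h2 hγ2 (e := e) (P := P), ← hq]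
    rcases hpar with ⟨-, c, -, hqc⟩ | ⟨-, c, -, hqc⟩
    · rw [hqc, negSp_conj, hy, neg_dim_left h2 hR, rr_dim hg h2 hg₁ hg₂ hgg]
    · rw [hqc, negSp_conj, hx', negSp_conj, hy1, neg_dim_left h2 (rr_sq hg ha hb hab), rr_dim hg h2 ha hb hab]
  have hδγ : δ = γ * rr hg hg₁ hg₂ := by rw [hγ, mul_assoc, hR, mul_one]
  have hdim := comm_neg_dim h2 hγ2 hR (by rw [hγ, mul_assoc, hR, mul_one, ← mul_assoc, ← hδR, mul_assoc, hR, mul_one])
  rw [← hδγ, hγn, rr_dim hg h2 hg₁ hg₂ hgg] at hdim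
  have hfd := invol_finrank h2 hδ2
  rw [Fintype.card_fin] at hfd
  have hnz : Module.finrank F (negSp δ) ≠ 0 := fun h => hn1 (by
    rw [hδ, show δ = 1 from gl_ext_vec fun v => ?_, kg_one]
    obtain ⟨h4, h5, h6⟩ := invol_decomp h2 hδ2 v
    rw [Submodule.finrank_eq_zero.1 h, Submodule.mem_bot] at h5
    rw [h5, add_zero] at h6
    rw [h6, mem_fixSp.1 h4, Units.val_one, one_mulVec])
  have hxδ : x' * kg e P δ (1 : GL (Fin s) F) = kg e P δ (1 : GL (Fin s) F) * x' := by rw [← hδ]; exact hnx.symm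
  by_cases h2δ : Module.finrank F (negSp δ) = 2
  · exact D.plane_cent' hfull hs4 hr5 hd hδ2 hδi h2δ hδd hx'M hx'd hxδ
  · have hfix2 : 2 ≤ Module.finrank F (fixSp δ) := by
      have h5 := perp_dim hg h2 (mem_fixSp.2 hδd) hd
      have h6 : Module.finrank F (perp hg (fixSp δ) d) ≠ 0 := fun h => hd' (by
        have hm : d' ∈ perp hg (fixSp δ) d := ⟨mem_fixSp.2 hδd', hd'd⟩
        rw [Submodule.finrank_eq_zero.1 h, Submodule.mem_bot] at hm
        rw [hm, Orth.sym_zero_left hg])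
      omega
    obtain ⟨l, hl⟩ := hr
    exact D.good_big hfull hδ2 hδi (by omega) (by omega) x' hx'M hxδ

/-- an involution on the right has a singular eigenvector -/
theorem OO.invol_singular_eig (hs : 4 ≤ s) {h : GL (Fin s) F} (hh : h * h = 1)
    (hi : ∀ y y', f₂ ((h : Matrix (Fin s) (Fin s) F) *ᵥ y) ((h : Matrix (Fin s) (Fin s) F) *ᵥ y') = f₂ y y') :
    ∃ σ : F, σ * σ = 1 ∧ ∃ b, b ≠ 0 ∧ f₂ b b = 0 ∧ (h : Matrix (Fin s) (Fin s) F) *ᵥ b = σ • b := by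
  have h2 := D.two
  have hg := D.s2
  obtain ⟨hF, hN⟩ := nd_eigen hg h2 hh hi
  have hdim := invol_finrank h2 hh
  rw [Fintype.card_fin] at hdim
  suffices hex : (∃ b ∈ fixSp h, b ≠ 0 ∧ f₂ b b = 0) ∨ ∃ b ∈ negSp h, b ≠ 0 ∧ f₂ b b = 0 by
    rcases hex with ⟨b, hb, hb0, hbb⟩ | ⟨b, hb, hb0, hbb⟩
    · exact ⟨1, one_mul 1, b, hb0, hbb, by rw [mem_fixSp.1 hb, one_smul]⟩
    · exact ⟨-1, by ring, b, hb0, hbb, by rw [mem_negSp.1 hb, neg_one_smul]⟩
  by_cases hF3 : 3 ≤ Module.finrank F (fixSp h)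
  · exact Or.inl (nd_singular hg h2 hF hF3)
  by_cases hN3 : 3 ≤ Module.finrank F (negSp h)
  · exact Or.inr (nd_singular hg h2 hN hN3)
  have hs4 : s = 4 := by omega
  have hmin := D.s4.resolve_left (fun h => h hs4)
  obtain ⟨v1, hv1, h11⟩ := nd_aniso hg h2 hF (by omega)
  have hd1 := perp_dim hg h2 hv1 h11
  obtain ⟨v2, hv2, h22⟩ := nd_aniso hg h2 (nd_perp hg hF hv1 h11) (by omega)
  obtain ⟨w1, hw1, hw11⟩ := nd_value hg h2 hN (by omega) (c := -f₂ v1 v1) (neg_ne_zero.2 h11)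
  have hw10 : f₂ w1 w1 ≠ 0 := by rw [hw11]; exact neg_ne_zero.2 h11
  have hd2 := perp_dim hg h2 hw1 hw10
  obtain ⟨w2, hw2, hw22⟩ := nd_aniso hg h2 (nd_perp hg hN hw1 hw10) (by omega)
  have e21 : f₂ v2 v1 = 0 := hv2.2
  have e12 : f₂ v1 v2 = 0 := (hg.symm v1 v2).trans e21
  have g21 : f₂ w2 w1 = 0 := hw2.2
  have g12 : f₂ w1 w2 = 0 := (hg.symm w1 w2).trans g21
  have vw : ∀ v ∈ fixSp h, ∀ w ∈ negSp h, f₂ v w = 0 ∧ f₂ w v = 0 := fun v hv w hw =>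
    ⟨eigen_perp hg h2 hi hv hw, eigen_perp' hg h2 hi hw hv⟩
  by_cases hP : IsSquare (-f₂ v2 v2 / f₂ v1 v1)
  · obtain ⟨t, ht⟩ := hP
    refine Or.inl ⟨t • v1 + v2, Submodule.add_mem _ (Submodule.smul_mem _ _ hv1) hv2.1, fun h0 => h22 ?_, ?_⟩
    · have e1 := congrArg (fun x => f₂ x v2) h0
      simpa [hg.bilinear.add_left, hg.bilinear.smul_left, e12, Orth.sym_zero_left hg] using e1
    · simp only [hg.bilinear.add_left, hg.bilinear.add_right, hg.bilinear.smul_left, hg.bilinear.smul_right, e12, e21]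
      field_simp at ht
      linear_combination -ht
  have hX : ¬ IsSquare (-f₂ w2 w2 / f₂ v2 v2) := by
    rintro ⟨t, ht⟩
    obtain ⟨x1, x2⟩ := vw v1 hv1 w1 hw1
    obtain ⟨x3, x4⟩ := vw v1 hv1 w2 hw2.1
    obtain ⟨x5, x6⟩ := vw v2 hv2.1 w1 hw1
    obtain ⟨x7, x8⟩ := vw v2 hv2.1 w2 hw2.1
    obtain ⟨l, hl⟩ := hmin (v1 + w1) (t • v2 + w2)
      (by simp only [hg.bilinear.add_left, hg.bilinear.add_right, x1, x2, hw11]; ring)
      (by
        simp only [hg.bilinear.add_left, hg.bilinear.add_right, hg.bilinear.smul_left, hg.bilinear.smul_right, x7, x8]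
        field_simp at ht
        linear_combination -ht)
      (by simp [hg.bilinear.add_left, hg.bilinear.add_right, hg.bilinear.smul_right, e12, x3, x6, g12])
      (fun h0 => h11 (by
        have e1 := congrArg (fun x => f₂ x v1) h0
        simpa [hg.bilinear.add_left, x2, Orth.sym_zero_left hg] using e1))
    have e1 := congrArg (fun x => f₂ x v2) hl
    simp [hg.bilinear.add_left, hg.bilinear.smul_left, e12, x6, x8, h22] at e1
    rw [e1, mul_zero] at ht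
    exact hw22 (by simpa [h22] using ht)
  obtain ⟨t, ht⟩ : IsSquare (f₂ w2 w2 / f₂ v1 v1) := by
    have h := nonsquare_mul h2 hP hX
    rwa [show -f₂ v2 v2 / f₂ v1 v1 * (-f₂ w2 w2 / f₂ v2 v2) = f₂ w2 w2 / f₂ v1 v1 by field_simp] at h
  refine Or.inr ⟨t • w1 + w2, Submodule.add_mem _ (Submodule.smul_mem _ _ hw1) hw2.1, fun h0 => hw22 ?_, ?_⟩
  · have e1 := congrArg (fun x => f₂ x w2) h0
    simpa [hg.bilinear.add_left, hg.bilinear.smul_left, g12, Orth.sym_zero_left hg] using e1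
  · simp only [hg.bilinear.add_left, hg.bilinear.add_right, hg.bilinear.smul_left, hg.bilinear.smul_right, g12, g21,
      hw11]
    field_simp at ht
    linear_combination ht

/-- an involution fixing `d` and preserving an orthogonal line -/
theorem OO.line_cent (hfull : ¬ omegaGL Q ≤ M) (hr : Odd r) (hs : Even s) (hs4 : 4 ≤ s) (hr5 : 5 ≤ r)
    {d v : Fin r → F} (hd : f₁ d d ≠ 0) (hv : f₁ v v ≠ 0) (hdv : f₁ d v = 0) {t : GL (Fin r) F} (ht2 : t * t = 1)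
    (ht : ∀ x x', f₁ ((t : Matrix (Fin r) (Fin r) F) *ᵥ x) ((t : Matrix (Fin r) (Fin r) F) *ᵥ x') = f₁ x x')
    {σ : F} (hσ : σ * σ = 1) (htv : (t : Matrix (Fin r) (Fin r) F) *ᵥ v = σ • v)
    (hline : ∀ x, (t : Matrix (Fin r) (Fin r) F) *ᵥ x = σ • x → ∃ c : F, x = c • v)
    {x : GL ι F} (hx : x ∈ M) (hxx : x * x = 1) (hfix : ∀ y, (x : Matrix ι ι F) *ᵥ T d y = T d y)
    (hcomm : x * kg e P t (1 : GL (Fin s) F) = kg e P t (1 : GL (Fin s) F) * x) :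
    x ∈ tensorProductSubgroup r s e P := by
  have h2 := D.two
  have hg := D.s2
  have hd0 : d ≠ 0 := fun h => hd (by rw [h, Orth.sym_zero_left D.s1])
  have hv0 : v ≠ 0 := fun h => hv (by rw [h, Orth.sym_zero_left D.s1])
  let h₀ : (Fin s → F) →ₗ[F] (Fin s → F) :=
    ((f₁ v v)⁻¹ • D.cob v).comp ((Matrix.mulVecLin (x : Matrix ι ι F)).comp (tL e P v))
  have hxv : ∀ y, (x : Matrix ι ι F) *ᵥ T v y = T v (h₀ y) := fun y => D.pure_line ht2 ht hσ hv htv hline (by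
    rw [← gl_mul_mulVec, ← hcomm, gl_mul_mulVec, kg_tvec, htv, Units.val_one, one_mulVec, tvec_smul_left, mulVec_smul])
  have hinj : Function.Injective h₀ := (injective_iff_map_eq_zero h₀).2 fun y hy => by
    have h1 := hxv y
    rw [hy, tvec_zero_right, gl_mulVec_eq_zero] at h1
    exact tvec_right_inj hv0 (h1.trans (tvec_zero_right v).symm)
  obtain ⟨h, hh⟩ : ∃ h, h = glInj h₀ hinj := ⟨_, rfl⟩
  have hxh : ∀ y, (x : Matrix ι ι F) *ᵥ T v y = T v ((h : Matrix (Fin s) (Fin s) F) *ᵥ y) := fun y => by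
    rw [hh, glInj_mulVec]; exact hxv y
  have hhi : ∀ y y', f₂ ((h : Matrix (Fin s) (Fin s) F) *ᵥ y) ((h : Matrix (Fin s) (Fin s) F) *ᵥ y') = f₂ y y' :=
    fun y y' => by
    have h1 := D.M_pol hx (T v y) (T v y')
    rw [hxh, hxh, D.pol, D.pol] at h1
    exact mul_left_cancel₀ hv (mul_left_cancel₀ D.kne h1)
  have hh2 : h * h = 1 := gl_ext_vec fun y => tvec_right_inj (e := e) (P := P) hv0 (by
    rw [gl_mul_mulVec, ← hxh, ← hxh, ← gl_mul_mulVec, hxx, Units.val_one, one_mulVec, Units.val_one, one_mulVec])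
  have hhinv : h⁻¹ = h := inv_eq_of_mul_eq_one_right hh2
  have hxinv : x⁻¹ = x := inv_eq_of_mul_eq_one_right hxx
  obtain ⟨τ, hτ, b, hb0, hbb, hhb⟩ := D.invol_singular_eig hs4 hh2 hhi
  obtain ⟨pp, -, hpp, hpb⟩ := nd_partner hg h2 (nd_top hg) Submodule.mem_top hb0 hbb
  have hdim := pair_finrank hg (⊤ : Submodule F (Fin s → F)) b pp
  rw [top_finrank hg, Fintype.card_fin] at hdim
  obtain ⟨w, hw, hww⟩ := nd_aniso hg h2
    (nd_perp_pair hg (nd_top hg) Submodule.mem_top Submodule.mem_top hbb hpp hpb) (by omega)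
  have hbw : f₂ b w = 0 := (hg.symm b w).trans hw.1.2
  obtain ⟨E, hE⟩ : ∃ E, E = eic hg b w := ⟨_, rfl⟩
  obtain ⟨w', hw'⟩ : ∃ w', w' = τ • ((h : Matrix (Fin s) (Fin s) F) *ᵥ w) := ⟨_, rfl⟩
  have hτ0 : τ ≠ 0 := fun h => by rw [h, mul_zero] at hτ; exact zero_ne_one hτ
  have hbw' : f₂ b w' = 0 := by
    have h1 := hhi b w
    rw [hhb, hbw, hg.bilinear.smul_left, mul_eq_zero] at h1
    rw [hw', hg.bilinear.smul_right, h1.resolve_left hτ0, mul_zero]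
  have hconj : h * E * h⁻¹ = eic hg b w' := by
    rw [hE, eic_conj hg h2 hbb hbw hhi, hhb, hw']
    refine gl_ext_vec fun y => ?_
    have hb1 : f₂ (τ • b) ((h : Matrix (Fin s) (Fin s) F) *ᵥ w) = 0 := by rw [← hhb, hhi, hbw]
    rw [eic_mulVec hg h2 (by simp [hg.bilinear.smul_left, hg.bilinear.smul_right, hbb]) hb1,
      eic_mulVec hg h2 hbb (by rw [← hw']; exact hbw')]
    simp only [hg.bilinear.smul_left, hg.bilinear.smul_right, smul_smul]
    rcases mul_self_eq_one_iff.1 hτ with rfl | rfl <;> match_scalars <;> ring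
  have hEinv : E⁻¹ = eic hg b (-w) := inv_eq_of_mul_eq_one_right (by
    rw [hE, eic_mul hg h2 hbb hbw (by rw [Orth.sym_neg_right hg, hbw, neg_zero]), add_neg_cancel, eic_zero hg h2 hbb])
  obtain ⟨G, hG⟩ : ∃ G, G = eic hg b (w' + -w) := ⟨_, rfl⟩
  have hGeq : G = h * E * h⁻¹ * E⁻¹ := by
    rw [hconj, hEinv, eic_mul hg h2 hbb hbw' (by rw [Orth.sym_neg_right hg, hbw, neg_zero]), hG]
  have hGE : G * E = E * G := by
    have h3 : f₂ b (w' + -w) = 0 := by rw [hg.bilinear.add_right, hbw', Orth.sym_neg_right hg, hbw]; ring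
    rw [hG, hE, eic_mul hg h2 hbb h3 hbw, eic_mul hg h2 hbb hbw h3, add_comm]
  obtain ⟨a, ha⟩ : ∃ a, a = kg e P (1 : GL (Fin r) F) E := ⟨_, rfl⟩
  have haM : a ∈ M := ha ▸ hE ▸ D.eicR_mem hbb hbw
  have hainv : a⁻¹ = kg e P (1 : GL (Fin r) F) E⁻¹ := by rw [ha, kg_inv, inv_one]
  have hav : ∀ u y, (a : Matrix ι ι F) *ᵥ T u y = T u ((E : Matrix (Fin s) (Fin s) F) *ᵥ y) := fun u y => by
    rw [ha, kg_tvec, Units.val_one, one_mulVec]
  have haiv : ∀ u y, ((a⁻¹ : GL ι F) : Matrix ι ι F) *ᵥ T u y = T u (((E⁻¹ : GL (Fin s) F) : Matrix (Fin s) (Fin s) F) *ᵥ y) :=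
    fun u y => by rw [hainv, kg_tvec, Units.val_one, one_mulVec]
  obtain ⟨k₁, hk₁⟩ : ∃ k₁, k₁ = x * a * x⁻¹ * a⁻¹ := ⟨_, rfl⟩
  have hk₁M : k₁ ∈ M := hk₁ ▸ mul_mem (mul_mem (mul_mem hx haM) (inv_mem hx)) (inv_mem haM)
  have hk₁d : ∀ y, (k₁ : Matrix ι ι F) *ᵥ T d y = T d y := fun y => by
    rw [hk₁, hxinv, gl_mul_mulVec, gl_mul_mulVec, gl_mul_mulVec, haiv, hfix, hav, hfix, gl_mulVec_inv]
  have hk₁v : ∀ y, (k₁ : Matrix ι ι F) *ᵥ T v y = T v ((G : Matrix (Fin s) (Fin s) F) *ᵥ y) := fun y => by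
    rw [hk₁, hxinv, hGeq, hhinv, gl_mul_mulVec, gl_mul_mulVec, gl_mul_mulVec, haiv, hxh, hav, hxh, gl_mul_mulVec,
      gl_mul_mulVec, gl_mul_mulVec]
  obtain ⟨k₂, hk₂⟩ : ∃ k₂, k₂ = k₁ * a * k₁⁻¹ * a⁻¹ := ⟨_, rfl⟩
  have hk₂M : k₂ ∈ M := hk₂ ▸ mul_mem (mul_mem (mul_mem hk₁M haM) (inv_mem hk₁M)) (inv_mem haM)
  have hk₁di : ∀ y, ((k₁⁻¹ : GL ι F) : Matrix ι ι F) *ᵥ T d y = T d y := fun y => by
    conv_lhs => rw [← hk₁d y, gl_inv_mulVec]
  have hk₂d : ∀ y, (k₂ : Matrix ι ι F) *ᵥ T d y = T d y := fun y => by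
    rw [hk₂, gl_mul_mulVec, gl_mul_mulVec, gl_mul_mulVec, haiv, hk₁di, hav, hk₁d, gl_mulVec_inv]
  have hk₂v : ∀ y, (k₂ : Matrix ι ι F) *ᵥ T v y = T v y := fun y => by
    obtain ⟨y', rfl⟩ : ∃ y', y = (E : Matrix (Fin s) (Fin s) F) *ᵥ ((G : Matrix (Fin s) (Fin s) F) *ᵥ y') :=
      ⟨((G⁻¹ : GL (Fin s) F) : Matrix (Fin s) (Fin s) F) *ᵥ (((E⁻¹ : GL (Fin s) F) : Matrix (Fin s) (Fin s) F) *ᵥ y),
        by rw [gl_mulVec_inv, gl_mulVec_inv]⟩
    rw [hk₂, gl_mul_mulVec, gl_mul_mulVec, gl_mul_mulVec, haiv, gl_inv_mulVec, ← hk₁v, gl_inv_mulVec, hav, hk₁v,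
      ← gl_mul_mulVec, hGE, gl_mul_mulVec]
  have hk₂H := D.pair_fix hfull hr hs hs4 hr5 hd hv hdv hk₂M hk₂d hk₂v
  obtain ⟨u, -, -, hu⟩ := D.fix_kg hk₂M hk₂H hd0 one_ne_zero (fun y => by rw [hk₂d, one_smul])
  have hk₁H : k₁ ∈ tensorProductSubgroup r s e P := D.root_recog hfull hs4 hb0 hbb hbw hww hb0 hbb hbw hww hk₁M (u := u) (by
    rw [← hE, ← ha, show k₁ * a * k₁⁻¹ = k₂ * a by rw [hk₂]; group, hu, ha, kg_mul, mul_one, one_mul])
  obtain ⟨u', -, -, hu'⟩ := D.fix_kg hk₁M hk₁H hd0 one_ne_zero (fun y => by rw [hk₁d, one_smul])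
  obtain ⟨γ, hγ⟩ := exists_dot_one hv0
  obtain ⟨l, hl⟩ : ∃ l, l = γ ⬝ᵥ ((u' : Matrix (Fin r) (Fin r) F) *ᵥ v) := ⟨_, rfl⟩
  have hGl : ∀ y, (G : Matrix (Fin s) (Fin s) F) *ᵥ y = l • y := fun y => by
    have h1 := congrArg (rc e P γ) (hk₁v y)
    rw [hu', kg_tvec, Units.val_one, one_mulVec, rc_tvec, rc_tvec, hγ, one_smul, ← hl] at h1
    exact h1.symm
  have hl1 : l = 1 := by
    have h3 : f₂ b (w' + -w) = 0 := by rw [hg.bilinear.add_right, hbw', Orth.sym_neg_right hg, hbw]; ring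
    have h1 := hGl b
    rw [hG, eic_fix hg h2 hbb h3 hbb h3] at h1
    exact (smul_left_injective F hb0 (h1.trans (by rfl) |>.symm.trans (one_smul F b).symm))
  refine D.root_recog hfull hs4 hb0 hbb hbw hww hb0 hbb hbw hww hx (u := u') ?_
  rw [← hE, ← ha, show x * a * x⁻¹ = k₁ * a by rw [hk₁]; group, hu', ha, kg_mul, mul_one, one_mul]

/-- fixators of anisotropic vectors -/
theorem OO.fix_aniso (hfull : ¬ omegaGL Q ≤ M) (hr : Odd r) (hs : Even s) (hs4 : 4 ≤ s) (hr5 : 5 ≤ r)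
    {d : Fin r → F} (hd : f₁ d d ≠ 0) {x : GL ι F} (hx : x ∈ M)
    (hfix : ∀ y, (x : Matrix ι ι F) *ᵥ T d y = T d y) : x ∈ tensorProductSubgroup r s e P := by
  have h2 := D.two
  have hg := D.s1
  have hs0 : 0 < s := by omega
  have hrs : r ≠ s := fun h => Nat.not_odd_iff_even.2 hs (h ▸ hr)
  obtain ⟨m, hm⟩ := hr
  have hd0 : d ≠ 0 := fun h => hd (by rw [h, Orth.sym_zero_left hg])
  have hP := nd_perp hg (nd_top hg) Submodule.mem_top hd
  have h3 := perp_finrank hg (⊤ : Submodule F (Fin r → F)) d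
  rw [top_finrank hg, Fintype.card_fin] at h3
  obtain ⟨a, b, haP, hbP, haa, hbb, hab⟩ := exists_hyp_pair hg h2 hP (by omega)
  obtain ⟨v, hvP, hv⟩ := nd_aniso hg h2 hP (by omega)
  have ha : f₁ a a ≠ 0 := by rw [haa]; exact one_ne_zero
  have hb : f₁ b b ≠ 0 := by rw [hbb]; exact neg_ne_zero.2 one_ne_zero
  have hperp : ∀ u ∈ perp hg ⊤ d, f₁ d u = 0 := fun u hu => (hg.symm d u).trans hu.2
  have hdv := hperp v hvP
  have hG := D.good_hyp hfull hr5 ha hb hab (by rw [haa, hbb]; ring)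
  obtain ⟨t', ht'⟩ : ∃ t', t' = -refl hg v hv := ⟨_, rfl⟩
  have ht'v : ∀ u, (t' : Matrix (Fin r) (Fin r) F) *ᵥ u = -((refl hg v hv : Matrix (Fin r) (Fin r) F) *ᵥ u) := fun u => by
    rw [ht', Units.val_neg, neg_mulVec]
  have ht'2 : t' * t' = 1 := by rw [ht', neg_mul_neg, refl_sq]
  have ht'i : ∀ u u', f₁ ((t' : Matrix (Fin r) (Fin r) F) *ᵥ u) ((t' : Matrix (Fin r) (Fin r) F) *ᵥ u') = f₁ u u' :=
    fun u u' => by rw [ht'v, ht'v, Orth.sym_neg_left hg, Orth.sym_neg_right hg, neg_neg, refl_iso hg]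
  have hrefl1 : Module.finrank F (negSp (refl hg v hv)) = 1 :=
    invol_dim hg h2 (refl_sq hg v hv) (fun _ : Fin 1 => v) (fun i i' h => absurd (Subsingleton.elim i i') h)
      (fun _ => hv) (fun _ => refl_self hg hv) (fun u hu => refl_perp hg hv (hu 0))
  have ht'n : Module.finrank F (negSp t') + 1 = r := by
    have h := invol_finrank h2 (refl_sq hg v hv)
    have he : negSp t' = fixSp (refl hg v hv) := SetLike.ext fun u => by rw [mem_negSp, mem_fixSp, ht'v, neg_inj]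
    rw [hrefl1, Fintype.card_fin, ← he] at h
    exact h
  have hline : ∀ u, (t' : Matrix (Fin r) (Fin r) F) *ᵥ u = (1 : F) • u → ∃ c : F, u = c • v := fun u hu => by
    rw [one_smul, ht'v, neg_eq_iff_eq_neg, refl_mulVec] at hu
    refine ⟨f₁ u v / f₁ v v, smul_right_injective _ h2 ?_⟩
    show (2 : F) • u = (2 : F) • ((f₁ u v / f₁ v v) • v)
    linear_combination (norm := skip) hu
    match_scalars <;> field_simp <;> ring
  have ht'vv : (t' : Matrix (Fin r) (Fin r) F) *ᵥ v = (1 : F) • v := by rw [ht'v, refl_self hg hv, neg_neg, one_smul]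
  have ht'd : (t' : Matrix (Fin r) (Fin r) F) *ᵥ d = -d := by rw [ht'v, refl_perp hg hv hdv]
  obtain ⟨y, hy⟩ : ∃ y, y = kg e P t' (1 : GL (Fin s) F) := ⟨_, rfl⟩
  obtain ⟨y1, hy1⟩ : ∃ y1, y1 = kg e P (rr hg ha hb) (1 : GL (Fin s) F) := ⟨_, rfl⟩
  have hyM : y ∈ M := hy ▸ D.invol_mem hs m t' ht'2 ht'i (by omega)
  have hy1M : y1 ∈ M := hy1 ▸ D.plane_mem hs ha hb hab
  have hyy : y * y = 1 := by rw [hy, kg_mul, ht'2, one_mul, kg_one]
  have hy11 : y1 * y1 = 1 := by rw [hy1, kg_mul, rr_sq hg ha hb hab, one_mul, kg_one]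
  have hyd : ∀ z, (y : Matrix ι ι F) *ᵥ T d z = -T d z := fun z => by
    rw [hy, kg_tvec, ht'd, Units.val_one, one_mulVec, tvec_neg_left]
  obtain ⟨x', hx'⟩ : ∃ x', x' = x * y1 * x⁻¹ := ⟨_, rfl⟩
  have hx'M : x' ∈ M := hx' ▸ mul_mem (mul_mem hx hy1M) (inv_mem hx)
  have hx'x : x' * x' = 1 := by
    rw [hx', show x * y1 * x⁻¹ * (x * y1 * x⁻¹) = x * (y1 * y1) * x⁻¹ by group, hy11, mul_one, mul_inv_cancel]
  have hx'd : ∀ z, (x' : Matrix ι ι F) *ᵥ T d z = T d z := fun z => by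
    have hi : ((x⁻¹ : GL ι F) : Matrix ι ι F) *ᵥ T d z = T d z := by conv_lhs => rw [← hfix z, gl_inv_mulVec]
    rw [hx', gl_mul_mulVec, gl_mul_mulVec, hi, hy1, kg_tvec, rr_perp hg ha hb (hperp a haP) (hperp b hbP),
      Units.val_one, one_mulVec, hfix]
  have hpow : ∀ (n : ℕ) z, (((x' * y) ^ n : GL ι F) : Matrix ι ι F) *ᵥ T d z = ((-1 : F) ^ n) • T d z := by
    intro n
    induction n with
    | zero => intro z; simp
    | succ n ih =>
      intro z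
      rw [pow_succ, gl_mul_mulVec, gl_mul_mulVec, hyd, mulVec_neg, hx'd, mulVec_neg, ih, pow_succ, mul_neg_one,
        neg_smul]
  suffices hx'H : x' ∈ tensorProductSubgroup r s e P by
    exact D.conj_mem hfull hrs (Or.inl ⟨m, hm⟩) hy1M hy11 (fun c hc h => hG c hc (by rw [← hy1]; exact h))
      (fun h => absurd h (not_twelve hr5 hs4)) hx (hx' ▸ hx'H)
  rcases invol_pair_parity hx'x hyy with ⟨-, c, -, hc⟩ | ⟨n, hn1, hn2, hnx, hny, hpar⟩
  · exfalso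
    have h := congrArg (fun u => Module.finrank F (negSp u)) hc
    rw [negSp_conj, hx', negSp_conj, hy, hy1, neg_dim_left h2 (rr_sq hg ha hb hab), neg_dim_left h2 ht'2,
      rr_dim hg h2 ha hb hab] at h
    have := Nat.eq_of_mul_eq_mul_right hs0 h
    omega
  have hzM : (x' * y) ^ n ∈ M := pow_mem (mul_mem hx'M hyM) n
  obtain ⟨q, hq⟩ : ∃ q, q = (x' * y) ^ n * y := ⟨_, rfl⟩
  have hqM : q ∈ M := hq ▸ mul_mem hzM hyM
  have hqq : q * q = 1 := by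
    rw [hq, mul_assoc, ← mul_assoc y, ← hny, mul_assoc ((x' * y) ^ n) y y, hyy, mul_one, hn2]
  have hqy : q * y = y * q := by
    rw [hq, mul_assoc, hyy, mul_one, ← mul_assoc, ← hny, mul_assoc, hyy, mul_one]
  have hqd : ∀ z, (q : Matrix ι ι F) *ᵥ T d z = ((-1 : F) ^ (n + 1)) • T d z := fun z => by
    rw [hq, gl_mul_mulVec, hyd, mulVec_neg, hpow, pow_succ, mul_neg_one, neg_smul]
  rw [← hq] at hpar
  have hyH : y ∈ tensorProductSubgroup r s e P := hy ▸ kg_mem t' 1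
  have hqH : q ∈ tensorProductSubgroup r s e P := by
    rcases Nat.even_or_odd n with hne | hno
    · exact hq ▸ mul_mem (D.line_cent hfull ⟨m, hm⟩ hs hs4 hr5 hd hv hdv ht'2 ht'i (one_mul 1) ht'vv hline hzM hn2
        (fun z => by rw [hpow, hne.neg_one_pow, one_smul]) (by rw [← hy]; exact hny)) hyH
    · exact D.line_cent hfull ⟨m, hm⟩ hs hs4 hr5 hd hv hdv ht'2 ht'i (one_mul 1) ht'vv hline hqM hqq
        (fun z => by rw [hqd, (hno.add_odd odd_one).neg_one_pow, one_smul]) (by rw [← hy]; exact hqy)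
  obtain ⟨γ, hγi, hγd, hγ⟩ := D.fix_kg hqM hqH hd0 (pow_ne_zero (n + 1) (neg_ne_zero.2 (one_ne_zero (α := F)))) hqd
  have hγ2 : γ * γ = 1 := kgL_inj (e := e) (P := P) hs0 (by rw [kg_one, ← hqq, hγ, kg_mul, one_mul])
  have hγt : γ * t' = t' * γ := kgL_inj (e := e) (P := P) hs0 (by
    have h := hqy
    rw [hγ, hy, kg_mul, kg_mul, one_mul] at h
    exact h)
  obtain ⟨δ, hδ⟩ : ∃ δ, δ = γ * t' := ⟨_, rfl⟩
  have hδ2 : δ * δ = 1 := by rw [hδ, (show Commute t' γ from hγt.symm).mul_mul_mul_comm, hγ2, ht'2, one_mul]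
  have hδi : ∀ u u', f₁ ((δ : Matrix (Fin r) (Fin r) F) *ᵥ u) ((δ : Matrix (Fin r) (Fin r) F) *ᵥ u') = f₁ u u' :=
    fun u u' => by rw [hδ, gl_mul_mulVec, gl_mul_mulVec, hγi, ht'i]
  have hz : (x' * y) ^ n = kg e P δ (1 : GL (Fin s) F) := by
    rw [show (x' * y) ^ n = q * y by rw [hq, mul_assoc, hyy, mul_one], hγ, hy, kg_mul, one_mul, hδ]
  have hxδ : x' * kg e P δ (1 : GL (Fin s) F) = kg e P δ (1 : GL (Fin s) F) * x' := by rw [← hz]; exact hnx.symm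
  have hdim := comm_neg_dim h2 hγ2 ht'2 hγt
  rw [← hδ] at hdim
  have hjle : Module.finrank F (negSp γ ⊓ negSp t' : Submodule F (Fin r → F)) ≤ Module.finrank F (negSp γ) :=
    Submodule.finrank_mono inf_le_left
  have hjge := Submodule.finrank_sup_add_finrank_inf_eq (negSp γ) (negSp t')
  have hjtop := Submodule.finrank_le (negSp γ ⊔ negSp t')
  rw [Module.finrank_fin_fun] at hjtop
  have hfd := invol_finrank h2 hδ2
  rw [Fintype.card_fin] at hfd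
  have hqn : Module.finrank F (negSp q) = Module.finrank F (negSp γ) * s := by rw [hγ, neg_dim_left h2 hγ2]
  rcases hpar with ⟨hne, c, -, hqc⟩ | ⟨hno, c, -, hqc⟩
  · have hγn : Module.finrank F (negSp γ) = Module.finrank F (negSp t') := Nat.eq_of_mul_eq_mul_right hs0 (by
      rw [← hqn, hqc, negSp_conj, hy, neg_dim_left h2 ht'2])
    rw [hne.add_one.neg_one_pow, neg_one_smul] at hγd
    have hδd : (δ : Matrix (Fin r) (Fin r) F) *ᵥ d = d := by rw [hδ, gl_mul_mulVec, ht'd, mulVec_neg, hγd, neg_neg]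
    have hn0 : Module.finrank F (negSp δ) ≠ 0 := fun h => hn1 (by
      rw [hz, show δ = 1 from gl_ext_vec fun u => ?_, kg_one]
      obtain ⟨h4, h5, h6⟩ := invol_decomp h2 hδ2 u
      rw [Submodule.finrank_eq_zero.1 h, Submodule.mem_bot] at h5
      rw [h5, add_zero] at h6
      rw [h6, mem_fixSp.1 h4, Units.val_one, one_mulVec])
    exact D.plane_cent' hfull hs4 hr5 hd hδ2 hδi (by omega) hδd hx'M hx'd hxδ
  · have hγn : Module.finrank F (negSp γ) = 2 := Nat.eq_of_mul_eq_mul_right hs0 (by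
      rw [← hqn, hqc, negSp_conj, hx', negSp_conj, hy1, neg_dim_left h2 (rr_sq hg ha hb hab), rr_dim hg h2 ha hb hab])
    rw [(hno.add_odd odd_one).neg_one_pow, one_smul] at hγd
    have hδd : (δ : Matrix (Fin r) (Fin r) F) *ᵥ d = -d := by rw [hδ, gl_mul_mulVec, ht'd, mulVec_neg, hγd]
    obtain ⟨hFδ, -⟩ := nd_eigen hg h2 hδ2 hδi
    by_cases hbig : Module.finrank F (fixSp δ) = 1
    · obtain ⟨u, hu, huu⟩ := nd_aniso hg h2 hFδ (by omega)
      have hud : f₁ d u = 0 := eigen_perp' hg h2 hδi (mem_negSp.2 hδd) hu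
      refine D.line_cent hfull ⟨m, hm⟩ hs hs4 hr5 hd huu hud hδ2 hδi (σ := 1) (one_mul 1)
        (by rw [mem_fixSp.1 hu, one_smul]) (fun w hw => ?_) hx'M hx'x hx'd hxδ
      have hu0 : u ≠ 0 := fun h => huu (by rw [h, Orth.sym_zero_left hg])
      have hspan : Submodule.span F {u} = fixSp δ := Submodule.eq_of_le_of_finrank_le
        ((Submodule.span_singleton_le_iff_mem _ _).2 hu) (by rw [finrank_span_singleton hu0, hbig])
      obtain ⟨l, hl⟩ := Submodule.mem_span_singleton.1 (hspan.symm ▸ mem_fixSp.2 (by rw [hw, one_smul]) : w ∈ _)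
      exact ⟨l, hl.symm⟩
    by_cases hr7 : 7 ≤ r
    · exact D.good_big hfull hδ2 hδi (by omega) (by omega) x' hx'M hxδ
    -- `r = 5`: split off `d`
    obtain ⟨δ', hδ'⟩ : ∃ δ', δ' = δ * refl hg d hd := ⟨_, rfl⟩
    have hδc : δ * refl hg d hd = refl hg d hd * δ := gl_ext_vec fun u => by
      have e1 : f₁ ((δ : Matrix (Fin r) (Fin r) F) *ᵥ u) d = -f₁ u d := by
        have h := hδi u d
        rw [hδd, Orth.sym_neg_right hg] at h
        linear_combination -h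
      rw [gl_mul_mulVec, gl_mul_mulVec, refl_mulVec, refl_mulVec, mulVec_sub, mulVec_smul, hδd, e1]
      module
    have hδ'2 : δ' * δ' = 1 := by
      rw [hδ', (show Commute (refl hg d hd) δ from hδc.symm).mul_mul_mul_comm, hδ2, refl_sq, one_mul]
    have hδ'i : ∀ u u', f₁ ((δ' : Matrix (Fin r) (Fin r) F) *ᵥ u) ((δ' : Matrix (Fin r) (Fin r) F) *ᵥ u') = f₁ u u' :=
      fun u u' => by rw [hδ', gl_mul_mulVec, gl_mul_mulVec, hδi, refl_iso hg]
    have hrd : Module.finrank F (negSp (refl hg d hd)) = 1 :=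
      invol_dim hg h2 (refl_sq hg d hd) (fun _ : Fin 1 => d) (fun i i' h => absurd (Subsingleton.elim i i') h)
        (fun _ => hd) (fun _ => refl_self hg hd) (fun u hu => refl_perp hg hd (hu 0))
    have hdim' := comm_neg_dim h2 hδ2 (refl_sq hg d hd) hδc
    rw [← hδ', hrd] at hdim'
    have hj1 : Module.finrank F (negSp δ ⊓ negSp (refl hg d hd) : Submodule F (Fin r → F)) ≠ 0 := fun h => hd0 (by
      have hmem : d ∈ negSp δ ⊓ negSp (refl hg d hd) := ⟨mem_negSp.2 hδd, mem_negSp.2 (refl_self hg hd)⟩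
      rwa [Submodule.finrank_eq_zero.1 h, Submodule.mem_bot] at hmem)
    have hj1' : Module.finrank F (negSp δ ⊓ negSp (refl hg d hd) : Submodule F (Fin r → F)) ≤ 1 :=
      hrd ▸ Submodule.finrank_mono inf_le_right
    have hn' : Module.finrank F (negSp δ') = 1 := by omega
    obtain ⟨-, hN'⟩ := nd_eigen hg h2 hδ'2 hδ'i
    obtain ⟨u, hu, huu⟩ := nd_aniso hg h2 hN' (by omega)
    have hδ'd : (δ' : Matrix (Fin r) (Fin r) F) *ᵥ d = d := by
      rw [hδ', gl_mul_mulVec, refl_self hg hd, mulVec_neg, hδd, neg_neg]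
    have hud : f₁ d u = 0 := eigen_perp hg h2 hδ'i (mem_fixSp.2 hδ'd) hu
    refine D.line_cent hfull ⟨m, hm⟩ hs hs4 hr5 hd huu hud hδ'2 hδ'i (σ := -1) (by ring)
      (by rw [mem_negSp.1 hu, neg_one_smul]) (fun w hw => ?_) hx'M hx'x hx'd ?_
    · have hu0 : u ≠ 0 := fun h => huu (by rw [h, Orth.sym_zero_left hg])
      have hspan : Submodule.span F {u} = negSp δ' := Submodule.eq_of_le_of_finrank_le
        ((Submodule.span_singleton_le_iff_mem _ _).2 hu) (by rw [finrank_span_singleton hu0, hn'])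
      obtain ⟨l, hl⟩ := Submodule.mem_span_singleton.1 (hspan.symm ▸ mem_negSp.2 (by rw [hw, neg_one_smul]) : w ∈ _)
      exact ⟨l, hl.symm⟩
    · have h1 : Commute x' (kg e P δ (1 : GL (Fin s) F)) := hxδ
      have h3 : Commute x' (kg e P (refl hg d hd) (1 : GL (Fin s) F)) := D.fix_comm_refl hd hx'M hx'd
      have h := h1.mul_right h3
      rw [kg_mul, one_mul, ← hδ'] at h
      exact h

end CfsgLib.Perm.Trans.TensorOO
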