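import Mathlib
import Cfsg.Agent.Lib.Perm.Trans.TensorOO.Main
import Cfsg.Agent.Lib.Perm.Trans.TensorSO.Max

/-!
# The orthogonal-orthogonal tensor product subgroup is maximal
-/

set_option autoImplicit false
set_option linter.all false

namespace CfsgLib.Perm.Trans.TensorOO

open scoped Matrix
open Matrix Cfsg.Geo CfsgLib.Perm.Asch CfsgLib.Perm.Trans CfsgLib.Perm.Trans.TensorFrame
open CfsgLib.Perm.Trans.TensorMax CfsgLib.Perm.Trans.Quad CfsgLib.Perm.Trans.TensorSO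

variable {ι : Type} [Fintype ι] [DecidableEq ι] {F : Type*} [Field F] [Fintype F] {r s : ℕ}
variable {e : ι ≃ Fin r × Fin s} {P : GL ι F}
variable {Q : (ι → F) → F} {f₁ : (Fin r → F) → (Fin r → F) → F} {f₂ : (Fin s → F) → (Fin s → F) → F}
variable {k : F} {M : Subgroup (GL ι F)}

theorem OO.le_tensor (D : OO Q f₁ f₂ e P k M) (hfull : ¬ omegaGL Q ≤ M) (hr : Odd r) (hs : Odd s) (hrs : r < s) :
    M ≤ tensorProductSubgroup r s e P := by
  obtain ⟨l, hl⟩ := hr
  obtain ⟨l', hl'⟩ := hs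
  have := D.r3
  by_cases h3 : r = 3
  · rw [← tensor_swap]
    exact D.swap.le_tensor_main hfull ⟨l', hl'⟩ (by omega) (by omega) (D.swap_fix_three hfull h3 (by omega))
  · exact D.le_tensor_main hfull ⟨l, hl⟩ (by omega) (by omega) (D.fix_big hfull ⟨l', hl'⟩ (by omega))

/-- the tensor product subgroup is maximal in `Ω` -/
theorem orth_orth_maximal (hQ : IsNondegenerateQuadraticForm Q) (h1 : IsSymmetricForm f₁) (h2 : IsSymmetricForm f₂)
    (hT : IsTensorFormStructure id (QuadraticMap.polar Q) f₁ f₂ e P) (htwo : (2 : F) ≠ 0) (hr : 3 ≤ r) (hrs : r < s)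
    (hor : Odd r) (hos : Odd s) (hex : 4 ≤ r ∨ ∃ t : F, t ≠ 0 ∧ t * t ≠ 1) :
    IsMaximalIn (omegaGL Q) (tensorProductSubgroup r s e P ⊓ omegaGL Q) := by
  obtain ⟨k, hk, hpol⟩ := tvec_form (σ := id) (fun a b => rfl) (sesq_of_bilinear h1.bilinear)
    (sesq_of_bilinear h2.bilinear) hT
  obtain ⟨l, hl⟩ := hor
  obtain ⟨l', hl'⟩ := hos
  have base : ∀ M : Subgroup (GL ι F), tensorProductSubgroup r s e P ⊓ omegaGL Q ≤ M → M ≤ omegaGL Q →
      OO Q f₁ f₂ e P k M := fun M hHM hM =>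
    ⟨hQ, h1, h2, htwo, hk, hr, by omega, Or.inl (by omega), Or.inl (by omega), hex, Or.inl (by omega), hpol, hM, hHM⟩
  refine ⟨lt_of_le_of_ne inf_le_right fun h => ?_, fun M hHM hM => ?_⟩
  · exact (base _ inf_le_right le_rfl).not_tensor (h ▸ inf_le_left)
  by_cases hfull : omegaGL Q ≤ M
  · exact Or.inr (le_antisymm hM hfull)
  exact Or.inl (le_antisymm (le_inf ((base M hHM hM).le_tensor hfull ⟨l, hl⟩ ⟨l', hl'⟩ hrs) hM) hHM)

end CfsgLib.Perm.Trans.TensorOO
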