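import Mathlib
import Cfsg.Agent.Lib.Perm.Trans.TensorOO.EvenFix
import Cfsg.Agent.Lib.Perm.Trans.TensorOO.Max

/-!
# The tensor product subgroup of an odd and an even orthogonal space is maximal
-/

set_option autoImplicit false
set_option linter.all false

namespace CfsgLib.Perm.Trans.TensorOO

open scoped Matrix
open Matrix Cfsg.Geo CfsgLib.Perm.Asch CfsgLib.Perm.Trans CfsgLib.Perm.Trans.TensorFrame
open CfsgLib.Perm.Trans.TensorMax CfsgLib.Perm.Trans.Quad CfsgLib.Perm.Trans.TensorSO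

variable {ι : Type} [Fintype ι] [DecidableEq ι] {F : Type*} [Field F] [Fintype F] {r s : ℕ}
variable {e : ι ≃ Fin r × Fin s} {P : GL ι F}
variable {Q : (ι → F) → F} {f₁ : (Fin r → F) → (Fin r → F) → F} {f₂ : (Fin s → F) → (Fin s → F) → F}
variable {k : F} {M : Subgroup (GL ι F)}

theorem OO.fix_even (D : OO Q f₁ f₂ e P k M) (hfull : ¬ omegaGL Q ≤ M) (hr : Odd r) (hs : Even s) (hs4 : 4 ≤ s)
    (hr5 : 5 ≤ r) : D.Fix := fun d hd0 x hx hfix => by
  by_cases hd : f₁ d d = 0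
  · exact D.fix_singular hfull hd0 hd hx hfix
  · exact D.fix_aniso hfull hr hs hs4 hr5 hd hx hfix

/-- the endgame in dimension three against an even dimension -/
theorem OO.le_tensor_three (D : OO Q f₁ f₂ e P k M) (hfull : ¬ omegaGL Q ≤ M) (hr3 : r = 3) (hs : Even s)
    (hs5 : 4 ≤ s) : M ≤ tensorProductSubgroup r s e P := by
  have h2 := D.two
  have hg := D.s1
  have hr : Odd r := ⟨1, by omega⟩
  have hrs : r ≠ s := by omega
  obtain ⟨a, b, -, -, haa, hbb, hab⟩ := exists_hyp_pair hg h2 (nd_top hg)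
    (by rw [top_finrank hg, Fintype.card_fin]; omega)
  obtain ⟨g₁, g₂, -, -, hg₁, hg₂, hgg, haniso⟩ := exists_ell_pair hg h2 (nd_top hg)
    (by rw [top_finrank hg, Fintype.card_fin]; omega)
  have ha : f₁ a a ≠ 0 := by rw [haa]; exact one_ne_zero
  have hb : f₁ b b ≠ 0 := by rw [hbb]; exact neg_ne_zero.2 one_ne_zero
  have hR := rr_sq hg ha hb hab
  have hR' := rr_sq hg hg₁ hg₂ hgg
  have hfix : ∀ {g : GL (Fin r) F}, g * g = 1 → Module.finrank F (negSp g) = 2 →
      Module.finrank F (fixSp g) = 1 := fun {g} hgg' hn => by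
    have h := invol_finrank h2 hgg'
    rw [hn, Fintype.card_fin] at h
    omega
  have hG : D.Good (rr hg ha hb) :=
    D.good_three hfull hr3 hs5 hR (rr_iso hg ha hb) (hfix hR (rr_dim hg h2 ha hb hab))
  have hbot : ∀ {g : GL (Fin r) F}, g * g = 1 → Module.finrank F (negSp g) = 2 → negSp g ≠ ⊥ ∧ fixSp g ≠ ⊥ :=
    fun {g} hgg' hn => ⟨fun h => by rw [h, finrank_bot] at hn; omega, fun h => by
      have h' := hfix hgg' hn
      rw [h, finrank_bot] at h'
      omega⟩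
  obtain ⟨a1, a2⟩ := hbot hR (rr_dim hg h2 ha hb hab)
  obtain ⟨a3, a4⟩ := hbot hR' (rr_dim hg h2 hg₁ hg₂ hgg)
  refine D.main hfull hr hrs (fun γ hγ hγi hn hf => ?_) hR (rr_iso hg ha hb) (D.plane_mem hs ha hb hab) a1 a2 hR'
    (rr_iso hg hg₁ hg₂) (D.plane_mem hs hg₁ hg₂ hgg) a3 a4
    (fun c hc => D.conj_plane hfull hrs (Or.inl hr) ha hb hab (by rw [haa, hbb]; ring) hg₁ hg₂ hgg haniso
      (D.plane_mem hs ha hb hab) hG (fun _ => hr3) hc)
    (by rw [rr_dim hg h2 ha hb hab, rr_dim hg h2 hg₁ hg₂ hgg]; omega)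
    (fun _ => ⟨hr3, rr_dim hg h2 ha hb hab, rr_dim hg h2 hg₁ hg₂ hgg⟩)
  have hd := invol_finrank h2 hγ
  rw [Fintype.card_fin] at hd
  by_cases hf1 : Module.finrank F (fixSp γ) = 1
  · exact D.good_three hfull hr3 hs5 hγ hγi hf1
  have hf0 : Module.finrank F (fixSp γ) ≠ 0 := fun h => hf (Submodule.finrank_eq_zero.1 h)
  have hn0 : Module.finrank F (negSp γ) ≠ 0 := fun h => hn (Submodule.finrank_eq_zero.1 h)
  have hv : ∀ u, ((-γ : GL (Fin r) F) : Matrix (Fin r) (Fin r) F) *ᵥ u = -((γ : Matrix (Fin r) (Fin r) F) *ᵥ u) :=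
    fun u => by rw [Units.val_neg, neg_mulVec]
  have hG' : D.Good (-γ) := by
    refine D.good_three hfull hr3 hs5 (by rw [neg_mul_neg, hγ])
      (fun u u' => by rw [hv, hv, Orth.sym_neg_left hg, Orth.sym_neg_right hg, neg_neg, hγi]) ?_
    rw [show fixSp (-γ) = negSp γ from SetLike.ext fun u => by rw [mem_fixSp, mem_negSp, hv, neg_eq_iff_eq_neg]]
    omega
  intro g hgM hcomm
  refine hG' g hgM ?_
  have hk : kg e P (-γ) (1 : GL (Fin s) F) = -kg e P γ (1 : GL (Fin s) F) := gl_ext_tvec (e := e) (P := P) fun u y => by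
    rw [kg_tvec, Units.val_neg (kg e P γ (1 : GL (Fin s) F)), neg_mulVec, kg_tvec, hv, tvec_neg_left]
  rw [hk]
  exact (Commute.neg_right (show Commute g _ from hcomm))

/-- the tensor product subgroup is maximal in `Ω` -/
theorem orth_orth_even_maximal (hQ : IsNondegenerateQuadraticForm Q) (h1 : IsSymmetricForm f₁) (h2 : IsSymmetricForm f₂)
    (hT : IsTensorFormStructure id (QuadraticMap.polar Q) f₁ f₂ e P) (htwo : (2 : F) ≠ 0) (hr : 3 ≤ r)
    (hor : Odd r) (hes : Even s) (hs : 4 ≤ s)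
    (hmin : s = 4 → ¬ IsPlusTypeOn (fun v => f₂ v v) ⊤) (hex : 4 ≤ r ∨ ∃ t : F, t ≠ 0 ∧ t * t ≠ 1) :
    IsMaximalIn (omegaGL Q) (tensorProductSubgroup r s e P ⊓ omegaGL Q) := by
  obtain ⟨k, hk, hpol⟩ := tvec_form (σ := id) (fun a b => rfl) (sesq_of_bilinear h1.bilinear)
    (sesq_of_bilinear h2.bilinear) hT
  obtain ⟨l, hl⟩ := hor
  have hs4 : s ≠ 4 ∨ (∀ a c, f₂ a a = 0 → f₂ c c = 0 → f₂ a c = 0 → a ≠ 0 → ∃ l : F, c = l • a) := by
    by_cases hs4 : s = 4
    · refine Or.inr fun a c ha hc hac ha0 => ?_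
      by_contra hno
      push Not at hno
      refine hmin hs4 ⟨Submodule.span F (Set.range ![a, c]), le_top, fun w hw => ?_, ?_⟩
      · obtain ⟨g, rfl⟩ := (Submodule.mem_span_range_iff_exists_fun F).1 hw
        show f₂ (∑ i, g i • ![a, c] i) (∑ i, g i • ![a, c] i) = 0
        simp only [Fin.sum_univ_two, Matrix.cons_val_zero, Matrix.cons_val_one]
        simp [h2.bilinear.add_left, h2.bilinear.add_right, h2.bilinear.smul_left, h2.bilinear.smul_right, ha, hc, hac,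
          h2.symm c a]
      · rw [finrank_span_eq_card ((LinearIndependent.pair_iff' ha0).2 fun l h => hno l h.symm), finrank_top,
          Module.finrank_fintype_fun_eq_card, Fintype.card_fin, Fintype.card_fin, hs4]
    · exact Or.inl hs4
  have base : ∀ M : Subgroup (GL ι F), tensorProductSubgroup r s e P ⊓ omegaGL Q ≤ M → M ≤ omegaGL Q →
      OO Q f₁ f₂ e P k M := fun M hHM hM =>
    ⟨hQ, h1, h2, htwo, hk, hr, by omega, Or.inl (by omega), hs4, hex, Or.inl hs, hpol, hM, hHM⟩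
  refine ⟨lt_of_le_of_ne inf_le_right fun h => ?_, fun M hHM hM => ?_⟩
  · exact (base _ inf_le_right le_rfl).not_tensor (h ▸ inf_le_left)
  by_cases hfull : omegaGL Q ≤ M
  · exact Or.inr (le_antisymm hM hfull)
  have D := base M hHM hM
  refine Or.inl (le_antisymm (le_inf ?_ hM) hHM)
  by_cases hr3 : r = 3
  · exact D.le_tensor_three hfull hr3 hes hs
  · exact D.le_tensor_main hfull ⟨l, hl⟩ (by omega) (fun h => Nat.not_odd_iff_even.2 hes (h ▸ ⟨l, hl⟩))
      (D.fix_even hfull ⟨l, hl⟩ hes hs (by omega))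

end CfsgLib.Perm.Trans.TensorOO
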